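/-
The order of the automorphism group of an elementary abelian two-group.
-/
import Mathlib.LinearAlgebra.Matrix.GeneralLinearGroup.Card
import Mathlib.Algebra.Module.ZMod
import Mathlib.LinearAlgebra.FiniteDimensional.Basic
import Mathlib.Algebra.Group.End
import Mathlib.Tactic

set_option autoImplicit false

namespace CfsgLib.U6Rec

theorem card_mulAut_elem {X : Type*} [Group X] [Finite X] {m : ℕ} (hexp : ∀ x : X, x * x = 1) (hcard : Nat.card X = 2 ^ m) :
    Nat.card (MulAut X) = ∏ i : Fin m, (2 ^ m - 2 ^ (i : ℕ)) := by
  classical
  have hcomm : ∀ a b : X, a * b = b * a := fun a b => by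
    calc a * b = a * ((a * b) * (a * b)) * b := by rw [hexp (a * b), mul_one]
      _ = (a * a) * (b * a) * (b * b) := by group
      _ = b * a := by rw [hexp a, hexp b, one_mul, mul_one]
  letI : CommGroup X := { ‹Group X› with mul_comm := hcomm }
  letI : Module (ZMod 2) (Additive X) := AddCommGroup.zmodModule fun x => by rw [two_nsmul]; exact hexp x.toMul
  haveI : Module.Finite (ZMod 2) (Additive X) := Module.Finite.of_finite
  have hd : Module.finrank (ZMod 2) (Additive X) = m := by
    have h := Module.natCard_eq_pow_finrank (K := ZMod 2) (V := Additive X)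
    rw [Nat.card_zmod, show Nat.card (Additive X) = 2 ^ m from hcard] at h
    exact (Nat.pow_right_injective le_rfl h).symm
  let e : MulAut X ≃ (Module.End (ZMod 2) (Additive X))ˣ :=
    { toFun := fun f =>
        { val := AddMonoidHom.toZModLinearMap 2 (MulEquiv.toAdditive f).toAddMonoidHom
          inv := AddMonoidHom.toZModLinearMap 2 (MulEquiv.toAdditive f.symm).toAddMonoidHom
          val_inv := LinearMap.ext fun x => congrArg Additive.ofMul (f.apply_symm_apply x.toMul)
          inv_val := LinearMap.ext fun x => congrArg Additive.ofMul (f.symm_apply_apply x.toMul) }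
      invFun := fun u =>
        { toFun := fun x => (u.val (Additive.ofMul x)).toMul
          invFun := fun x => (u⁻¹.val (Additive.ofMul x)).toMul
          left_inv := fun x => by
            show ((u⁻¹.val * u.val) (Additive.ofMul x)).toMul = x
            rw [Units.inv_mul]; rfl
          right_inv := fun x => by
            show ((u.val * u⁻¹.val) (Additive.ofMul x)).toMul = x
            rw [Units.mul_inv]; rfl
          map_mul' := fun a b => congrArg Additive.toMul (map_add u.val (Additive.ofMul a) (Additive.ofMul b)) }
      left_inv := fun f => MulEquiv.ext fun x => rfl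
      right_inv := fun u => Units.ext (LinearMap.ext fun x => rfl) }
  have hb := Units.mapEquiv (LinearMap.toMatrixAlgEquiv (Module.finBasisOfFinrankEq (ZMod 2) (Additive X) hd)).toMulEquiv
  rw [Nat.card_congr e, Nat.card_congr hb.toEquiv,
    show Nat.card (Matrix (Fin m) (Fin m) (ZMod 2))ˣ = Nat.card (Matrix.GeneralLinearGroup (Fin m) (ZMod 2)) from rfl,
    Matrix.card_GL_field, ZMod.card]

end CfsgLib.U6Rec
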