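/-
The hermitian four-space over the field of four elements in eight-bit codes, and linear maps of it in
sixty-four-bit codes.
-/
import Cfsg.Agent.Lib.U6Rec.Data
import Mathlib.Tactic
import Mathlib.Data.Nat.Bitwise

set_option autoImplicit false

namespace CfsgLib.U6Rec

/-- The eight bytes of a linear code, applied to a vector. -/
def pick (g v i : ℕ) : ℕ := bif Nat.beq ((v >>> i) &&& 1) 1 then (g >>> (8 * i)) &&& 255 else 0

/-- The image of a vector. -/
def app (g v : ℕ) : ℕ :=
  pick g v 0 ^^^ pick g v 1 ^^^ pick g v 2 ^^^ pick g v 3 ^^^ pick g v 4 ^^^ pick g v 5 ^^^ pick g v 6 ^^^ pick g v 7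

/-- Eight bytes put together. -/
def pack (f : ℕ → ℕ) : ℕ :=
  f 0 + 256 * (f 1 + 256 * (f 2 + 256 * (f 3 + 256 * (f 4 + 256 * (f 5 + 256 * (f 6 + 256 * f 7))))))

/-- The composite, second map first. -/
def comp (g k : ℕ) : ℕ := pack fun i => app g ((k >>> (8 * i)) &&& 255)

/-- The identity. -/
def one : ℕ := pack fun i => 1 <<< i

/-- A coordinate in the field of four elements. -/
def co (v i : ℕ) : ℕ := (v >>> (2 * i)) &&& 3

/-- The product in the field of four elements. -/
def m4 (a b : ℕ) : ℕ := (2625168384 >>> (2 * (4 * a + b))) &&& 3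

/-- The conjugation. -/
def cj (a : ℕ) : ℕ := (180 >>> (2 * a)) &&& 3

/-- The hermitian form. -/
def herm (u v : ℕ) : ℕ :=
  m4 (co u 0) (cj (co v 2)) ^^^ m4 (co u 2) (cj (co v 0)) ^^^ m4 (co u 1) (cj (co v 3)) ^^^ m4 (co u 3) (cj (co v 1))

/-- The quadratic form. -/
def qf (v : ℕ) : ℕ := (m4 (co v 0) (cj (co v 2)) ^^^ m4 (co v 1) (cj (co v 3))) >>> 1

/-- Multiplication by a scalar. -/
def smul4 (c v : ℕ) : ℕ :=
  m4 c (co v 0) + 4 * (m4 c (co v 1) + 4 * (m4 c (co v 2) + 4 * m4 c (co v 3)))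

/-- The transvection at a point. -/
def transv (p v : ℕ) : ℕ := v ^^^ smul4 (herm v p) p

/-- A transvection as a code. -/
def tv (p : ℕ) : ℕ := pack fun i => transv p (1 <<< i)

def gen (k : ℕ) : ℕ := genL.getD k one
def rep (i : ℕ) : ℕ := repL.getD i one
def st (j : ℕ) : ℕ := stL.getD j one
def pt (i : ℕ) : ℕ := ptsL.getD i 0
def rOf (n : ℕ) : ℕ := rL.getD n one

/-- The element with given representative and stabiliser part. -/
def elt (p : ℕ × ℕ) : ℕ := comp (rep p.1) (st p.2)

/-- The stabiliser of the standard line. -/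
def par (k : ℕ) : ℕ := elt (parW.getD k (0, 0))

/-- The line witness. -/
def lineEl (l : ℕ) : ℕ := elt (lineW.getD l (0, 0))

/-- A word in the generators. -/
def evalW : List ℕ → ℕ
  | [] => one
  | k :: w => comp (gen k) (evalW w)

/-- Membership in the group. -/
def InU (g : ℕ) : Prop := ∃ i j : ℕ, i < 135 ∧ j < 192 ∧ g = elt (i, j)

theorem xor_bit (u v i : ℕ) : (u ^^^ v) >>> i &&& 1 = (u >>> i &&& 1) ^^^ (v >>> i &&& 1) := by
  rw [Nat.shiftRight_xor_distrib, Nat.and_xor_distrib_right]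

theorem beq01 : Nat.beq 0 1 = false := rfl

theorem beq11 : Nat.beq 1 1 = true := rfl

theorem pick_add (g u v i : ℕ) : pick g (u ^^^ v) i = pick g u i ^^^ pick g v i := by
  have hu : u >>> i &&& 1 = 0 ∨ u >>> i &&& 1 = 1 := by
    have := Nat.and_le_right (n := u >>> i) (m := 1); omega
  have hv : v >>> i &&& 1 = 0 ∨ v >>> i &&& 1 = 1 := by
    have := Nat.and_le_right (n := v >>> i) (m := 1); omega
  unfold pick
  rw [xor_bit]
  rcases hu with hu | hu <;> rcases hv with hv | hv <;> simp [hu, hv, beq01, beq11]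

theorem app_add (g u v : ℕ) : app g (u ^^^ v) = app g u ^^^ app g v := by
  simp only [app, pick_add]
  ac_rfl

theorem pick_lt (g v i : ℕ) : pick g v i < 2 ^ 8 := by
  unfold pick
  cases Nat.beq ((v >>> i) &&& 1) 1
  · simp
  · have := Nat.and_le_right (n := g >>> (8 * i)) (m := 255)
    simp only [cond_true]; omega

theorem app_lt (g v : ℕ) : app g v < 256 := by
  have := fun i => pick_lt g v i
  exact (show app g v < 2 ^ 8 from
    Nat.xor_lt_two_pow (Nat.xor_lt_two_pow (Nat.xor_lt_two_pow (Nat.xor_lt_two_pow (Nat.xor_lt_two_pow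
      (Nat.xor_lt_two_pow (Nat.xor_lt_two_pow (this 0) (this 1)) (this 2)) (this 3)) (this 4)) (this 5)) (this 6)) (this 7))

theorem app_zero (g : ℕ) : app g 0 = 0 := by simp [app, pick, beq01]

theorem byte_pack {f : ℕ → ℕ} (hf : ∀ i, f i < 256) {i : ℕ} (hi : i < 8) : (pack f >>> (8 * i)) &&& 255 = f i := by
  have h := fun k => hf k
  have := h 0; have := h 1; have := h 2; have := h 3; have := h 4; have := h 5; have := h 6; have := h 7
  rw [Nat.shiftRight_eq_div_pow, show (255 : ℕ) = 2 ^ 8 - 1 by norm_num, Nat.and_two_pow_sub_one_eq_mod]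
  interval_cases i <;> simp only [pack] <;> norm_num <;> omega

theorem app_comp (g k v : ℕ) : app (comp g k) v = app g (app k v) := by
  have hp : ∀ i, i < 8 → pick (comp g k) v i = app g (pick k v i) := by
    intro i hi
    unfold pick comp
    rw [byte_pack (fun _ => app_lt _ _) hi]
    cases Nat.beq ((v >>> i) &&& 1) 1
    · simp [app_zero]
    · rfl
  rw [show app k v = pick k v 0 ^^^ pick k v 1 ^^^ pick k v 2 ^^^ pick k v 3 ^^^ pick k v 4 ^^^ pick k v 5 ^^^
    pick k v 6 ^^^ pick k v 7 from rfl]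
  simp only [app_add]
  rw [app, hp 0 (by omega), hp 1 (by omega), hp 2 (by omega), hp 3 (by omega), hp 4 (by omega), hp 5 (by omega),
    hp 6 (by omega), hp 7 (by omega)]

theorem app_one : ∀ v < 256, app one v = v := by decide +kernel

theorem byte_one_lt (i : ℕ) (h : i < 8) : 1 <<< i < 256 := by interval_cases i <;> decide

theorem app_basis (g : ℕ) : ∀ i < 8, app g (1 <<< i) = (g >>> (8 * i)) &&& 255 := by
  intro i hi
  interval_cases i <;> simp [app, pick, beq01, beq11]

theorem comp_eq (g k : ℕ) : comp g k = pack fun i => app g ((k >>> (8 * i)) &&& 255) := rfl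

/-- Composites agreeing on all vectors are equal. -/
theorem comp_ext {a b c d : ℕ} (h : ∀ v < 256, app (comp a b) v = app (comp c d) v) : comp a b = comp c d := by
  have e : ∀ a b i, i < 8 → app a ((b >>> (8 * i)) &&& 255) = app (comp a b) (1 <<< i) := by
    intro a b i hi
    rw [app_comp, app_basis b i hi]
  have e' : ∀ i, i < 8 → app a ((b >>> (8 * i)) &&& 255) = app c ((d >>> (8 * i)) &&& 255) := fun i hi => by
    rw [e a b i hi, e c d i hi, h _ (byte_one_lt i hi)]
  simp only [comp, pack]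
  rw [e' 0 (by omega), e' 1 (by omega), e' 2 (by omega), e' 3 (by omega), e' 4 (by omega), e' 5 (by omega),
    e' 6 (by omega), e' 7 (by omega)]

theorem comp_assoc (a b c : ℕ) : comp (comp a b) c = comp a (comp b c) :=
  comp_ext fun v _ => by simp only [app_comp]

theorem comp_one (a b : ℕ) : comp (comp a b) one = comp a b :=
  comp_ext fun v hv => by rw [app_comp, app_one v hv]

theorem one_comp (a b : ℕ) : comp one (comp a b) = comp a b :=
  comp_ext fun v _ => by rw [app_comp, app_one _ (app_lt _ _)]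

theorem co_add (u v i : ℕ) : co (u ^^^ v) i = co u i ^^^ co v i := by
  unfold co
  rw [Nat.shiftRight_xor_distrib, Nat.and_xor_distrib_right]

theorem co_lt (v i : ℕ) : co v i < 4 := by
  have := Nat.and_le_right (n := v >>> (2 * i)) (m := 3)
  unfold co; omega

theorem m4_add_left : ∀ a < 4, ∀ b < 4, ∀ c < 4, m4 (a ^^^ b) c = m4 a c ^^^ m4 b c := by decide +kernel

theorem cj_add : ∀ a < 4, ∀ b < 4, cj (a ^^^ b) = cj a ^^^ cj b := by decide +kernel

theorem cj_lt : ∀ a < 4, cj a < 4 := by decide +kernel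

theorem m4_comm : ∀ a < 4, ∀ b < 4, m4 a b = m4 b a := by decide +kernel

theorem herm_add_left (u u' v : ℕ) : herm (u ^^^ u') v = herm u v ^^^ herm u' v := by
  have a : ∀ i j, m4 (co (u ^^^ u') i) (cj (co v j)) = m4 (co u i) (cj (co v j)) ^^^ m4 (co u' i) (cj (co v j)) :=
    fun i j => by rw [co_add]; exact m4_add_left _ (co_lt _ _) _ (co_lt _ _) _ (cj_lt _ (co_lt _ _))
  simp only [herm, a]
  ac_rfl

theorem herm_add_right (u v v' : ℕ) : herm u (v ^^^ v') = herm u v ^^^ herm u v' := by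
  have a : ∀ i j, m4 (co u i) (cj (co (v ^^^ v') j)) = m4 (co u i) (cj (co v j)) ^^^ m4 (co u i) (cj (co v' j)) := by
    intro i j
    rw [co_add, cj_add _ (co_lt _ _) _ (co_lt _ _), m4_comm _ (co_lt _ _) _ (Nat.xor_lt_two_pow (n := 2) (cj_lt _ (co_lt _ _)) (cj_lt _ (co_lt _ _))),
      m4_add_left _ (cj_lt _ (co_lt _ _)) _ (cj_lt _ (co_lt _ _)) _ (co_lt _ _), m4_comm _ (cj_lt _ (co_lt _ _)) _ (co_lt _ _),
      m4_comm _ (cj_lt _ (co_lt _ _)) _ (co_lt _ _)]
  simp only [herm, a]
  ac_rfl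

end CfsgLib.U6Rec
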