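/-
Finite checks on the tables.
-/
import Cfsg.Agent.Lib.U6Rec.Defs

set_option autoImplicit false
set_option maxRecDepth 100000

namespace CfsgLib.U6Rec

/-- Preservation of the form and of the scalars on the basis. -/
def unitOK (g : ℕ) : Bool :=
  (List.range 8).all fun i => Nat.beq (app g (smul4 2 (1 <<< i))) (smul4 2 (app g (1 <<< i))) &&
    (List.range 8).all fun j => Nat.beq (herm (app g (1 <<< i)) (app g (1 <<< j))) (herm (1 <<< i) (1 <<< j))

theorem rep_unit : (List.range 135).all (fun i => unitOK (rep i)) = true := by decide +kernel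

theorem st_unit : (List.range 192).all (fun i => unitOK (st i)) = true := by decide +kernel

theorem herm_self : ∀ v < 256, herm v v = qf v := by decide +kernel

theorem nondeg : ∀ v < 256, (List.range 8).all (fun i => Nat.beq (herm v (1 <<< i)) 0) = true → v = 0 := by decide +kernel

theorem line_self : ∀ v < 256, herm v 1 = 0 → herm v 4 = 0 → v < 16 := by decide +kernel

theorem line_iso : ∀ u < 16, ∀ v < 16, herm u v = 0 := by decide +kernel

theorem sing_list : ((List.range 256).filter fun v => !Nat.beq v 0 && Nat.beq (qf v) 0) = singL := by decide +kernel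

theorem pts_list : (ptsL.all fun p => singL.elem p) = true ∧ ptsL.length = 45 ∧ singL.length = 135 := by decide +kernel

theorem pts_cover : (singL.all fun v => (List.range 4).any fun c => !Nat.beq c 0 && ptsL.elem (smul4 c v)) = true := by
  decide +kernel

theorem tv_scalar : (singL.all fun v => (List.range 4).all fun c => Nat.beq c 0 || Nat.beq (tv (smul4 c v)) (tv v)) = true := by
  decide +kernel

theorem tv_inj : ((ptsL.map tv).Nodup) := by decide +kernel

theorem rep_first : (List.range 135).map (fun i => app (rep i) 1) = singL ∧ rep 0 = one ∧ st 0 = one ∧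
    elt (0, 0) = one := by decide +kernel

theorem st_fix : (List.range 192).all (fun j => Nat.beq (app (st j) 1) 1) = true ∧ stL.Nodup := by decide +kernel

theorem words_rep : (List.range 135).all (fun i => Nat.beq (evalW (repW.getD i [])) (rep i) &&
    (repW.getD i []).all fun k => decide (k < 5)) = true := by decide +kernel

theorem words_st : (List.range 192).all (fun i => Nat.beq (evalW (stW.getD i [])) (st i) &&
    (stW.getD i []).all fun k => decide (k < 5)) = true := by decide +kernel

theorem gen_transv : (List.range 5).all (fun k => (ptsL.map tv).elem (gen k)) = true := by decide +kernel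

theorem gen_fix : ∀ v < 256, (List.range 5).all (fun k => Nat.beq (app (gen k) v) v) = true → v = 0 := by
  decide +kernel

theorem inv_conj : (List.range 192).all (fun j => !Nat.beq (comp (st j) (st j)) one || Nat.beq (st j) one ||
    (decide ((invW.getD j (0, 0)).1 < 192) && decide ((invW.getD j (0, 0)).2 < 16) &&
      Nat.beq (comp (st (invW.getD j (0, 0)).1) (st j)) (comp (rOf (invW.getD j (0, 0)).2) (st (invW.getD j (0, 0)).1))))
    = true := by decide +kernel

theorem par_list : ((List.range 135).flatMap fun i => bif Nat.ble 16 (app (rep i) 1) then [] else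
    ((List.range 192).filter fun j => Nat.ble (app (elt (i, j)) 4) 15).map fun j => (i, j)) = parW := by decide +kernel

theorem par_point : (List.range 960).all (fun k => !Nat.beq (app (par k) 1) 1 || !Nat.beq (app (par k) 4) 4 ||
    rL.elem (par k)) = true := by decide +kernel

theorem par_cent : (List.range 960).all (fun k => !([1, 2, 4, 8].all fun n => Nat.beq (comp (par k) (rOf n)) (comp (rOf n) (par k))) ||
    rL.elem (par k)) = true := by decide +kernel

theorem r_hom : ∀ n < 16, ∀ m < 16, comp (rOf n) (rOf m) = rOf (n ^^^ m) := by decide +kernel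

theorem r_fix : ∀ n < 16, ∀ v < 16, app (rOf n) v = v := by decide +kernel

theorem r_inj : rL.Nodup ∧ rL.length = 16 ∧ rOf 0 = one := by decide +kernel

/-- The transvection members of the radical. -/
def rPt (n : ℕ) : ℕ := ([0, 1, 4, 0, 5, 0, 0, 0, 6, 0, 0, 0, 0, 0, 0, 7] : List ℕ).getD n 0

theorem r_point : ∀ n < 16, rPt n ≠ 0 → rOf n = tv (rPt n) ∧ rPt n < 16 := by decide +kernel

theorem r_other : ∀ n < 16, n ≠ 0 → rPt n = 0 →
    ((List.range 256).all fun v => !Nat.beq (app (rOf n) v) v || Nat.ble v 15) = true ∧
      (ptsL.map tv).elem (rOf n) = false := by decide +kernel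

theorem line_tv : (ptsL.all fun p => !Nat.ble (app (tv p) 1) 15 || !Nat.ble (app (tv p) 4) 15 || Nat.ble p 15) = true := by
  decide +kernel

theorem to_five : (List.range 5).all (fun i => decide (toFive.getD i 960 < 960) &&
    Nat.beq (tv (app (par (toFive.getD i 0)) 1)) (tv ([1, 4, 5, 6, 7].getD i 0))) = true := by decide +kernel

theorem to_ten : (List.range 10).all (fun i => decide (toTen.getD i 960 < 960) &&
    Nat.beq (comp (par (toTen.getD i 0)) (rOf 3)) (comp (rOf ([3, 5, 6, 7, 9, 10, 11, 12, 13, 14].getD i 0)) (par (toTen.getD i 0))))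
    = true := by decide +kernel

theorem to_fifteen : (List.range 15).all (fun i => decide (toFifteen.getD i 960 < 960) &&
    Nat.beq (app (par (toFifteen.getD i 0)) 1) (i + 1)) = true := by decide +kernel

theorem to_coset : (List.range 3).all (fun i => decide (toCoset.getD i 960 < 960) &&
    Nat.beq (tv (app (par (toCoset.getD i 0)) 1)) (tv 1) &&
      Nat.beq ((app (par (toCoset.getD i 0)) 4) &&& 12) (4 * (i + 1))) = true := by decide +kernel

theorem kill : ∀ n < 16, n ≠ 0 → ((killW.getD n []).all fun k => decide (k < 960) &&
    Nat.beq (comp (par k) (rOf n)) (comp (rOf n) (par k))) = true ∧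
    ((List.range 16).all fun v => !((killW.getD n []).all fun k => Nat.beq (app (par k) v) v) || Nat.beq v 0) = true := by
  decide +kernel

/-- The line of an element contains a vector. -/
def onLine (g v : ℕ) : Bool := Nat.beq (herm v (app g 1)) 0 && Nat.beq (herm v (app g 4)) 0

theorem line_pairs : (ptsL.all fun p => ptsL.all fun p' => !Nat.beq (herm p p') 0 ||
    (List.range 27).any fun l => onLine (lineEl l) p && onLine (lineEl l) p') = true := by decide +kernel

theorem line_index : (List.range 27).all (fun l => decide ((lineW.getD l (0, 0)).1 < 135) &&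
    decide ((lineW.getD l (0, 0)).2 < 192)) = true := by decide +kernel

theorem par_index : parW.all (fun p => decide (p.1 < 135) && decide (p.2 < 192)) = true ∧ parW.length = 960 := by
  decide +kernel

theorem perp_count : (ptsL.all fun p => Nat.beq (ptsL.countP fun p' => !Nat.beq p' p && Nat.beq (herm p p') 0) 12 &&
    Nat.beq (ptsL.countP fun p' => !Nat.beq (herm p p') 0) 32) = true := by decide +kernel

theorem common_count : (ptsL.all fun p => ptsL.all fun p' => Nat.beq (herm p p') 0 ||
    Nat.beq (ptsL.countP fun c => Nat.beq (herm p c) 0 && Nat.beq (herm p' c) 0) 3) = true := by decide +kernel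

theorem odd_pairs : ((List.range 256).all fun v => Nat.beq v 0 || !Nat.beq (qf v) 0 || Nat.beq (herm 1 v) 0 ||
    Nat.beq (comp (comp (tv 1) (tv v)) (comp (tv 1) (comp (tv v) (comp (tv 1) (tv v))))) one) = true := by
  decide +kernel

end CfsgLib.U6Rec
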