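/-
Linearity facts on codes: extension from the basis, the elements of the group as isometries, transvections.
-/
import Cfsg.Agent.Lib.U6Rec.Checks

set_option autoImplicit false

namespace CfsgLib.U6Rec

/-- Additive maps agreeing on the basis agree on vectors. -/
theorem lin_ext {f f' : ℕ → ℕ} (hf : ∀ u v, f (u ^^^ v) = f u ^^^ f v) (hf' : ∀ u v, f' (u ^^^ v) = f' u ^^^ f' v)
    (hb : ∀ i < 8, f (1 <<< i) = f' (1 <<< i)) : ∀ v < 256, f v = f' v := by
  have z : f 0 = 0 := by have := hf 0 0; simp at this; exact this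
  have z' : f' 0 = 0 := by have := hf' 0 0; simp at this; exact this
  intro v hv
  have hp : ∀ i, i < 8 → f (pick one v i) = f' (pick one v i) := by
    intro i hi
    unfold pick
    cases Nat.beq ((v >>> i) &&& 1) 1
    · simp [z, z']
    · simp only [cond_true]
      have e : (one >>> (8 * i)) &&& 255 = 1 <<< i := (show ∀ i < 8, (one >>> (8 * i)) &&& 255 = 1 <<< i by decide) i hi
      rw [e]; exact hb i hi
  rw [← app_one v hv]
  simp only [app, hf, hf', hp 0 (by omega), hp 1 (by omega), hp 2 (by omega), hp 3 (by omega), hp 4 (by omega),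
    hp 5 (by omega), hp 6 (by omega), hp 7 (by omega)]

theorem m4_assoc : ∀ a < 4, ∀ b < 4, ∀ c < 4, m4 a (m4 b c) = m4 (m4 a b) c := by decide +kernel

theorem m4_lt : ∀ a < 4, ∀ b < 4, m4 a b < 4 := by decide +kernel

theorem smul4_co : ∀ c < 4, ∀ v < 256, ∀ i < 4, co (smul4 c v) i = m4 c (co v i) := by decide +kernel

theorem co_ext : ∀ v < 256, v = co v 0 + 4 * (co v 1 + 4 * (co v 2 + 4 * co v 3)) := by decide +kernel

theorem four_xor : ∀ a < 4, ∀ b < 4, ∀ x < 64, ∀ y < 64, (a ^^^ b) + 4 * (x ^^^ y) = (a + 4 * x) ^^^ (b + 4 * y) := by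
  decide +kernel

theorem smul4_lt {c : ℕ} (hc : c < 4) (v : ℕ) : smul4 c v < 256 := by
  have b := fun i => m4_lt c hc _ (co_lt v i)
  have := b 0; have := b 1; have := b 2; have := b 3
  unfold smul4; omega

theorem smul4_add {c : ℕ} (hc : c < 4) (u v : ℕ) : smul4 c (u ^^^ v) = smul4 c u ^^^ smul4 c v := by
  have a : ∀ i, m4 c (co (u ^^^ v) i) = m4 c (co u i) ^^^ m4 c (co v i) := fun i => by
    rw [co_add, m4_comm _ hc _ (Nat.xor_lt_two_pow (n := 2) (co_lt _ _) (co_lt _ _)),
      m4_add_left _ (co_lt _ _) _ (co_lt _ _) _ hc, m4_comm _ (co_lt _ _) _ hc, m4_comm _ (co_lt _ _) _ hc]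
  have b := fun w i => m4_lt c hc _ (co_lt w i)
  have := b u 0; have := b u 1; have := b u 2; have := b u 3
  have := b v 0; have := b v 1; have := b v 2; have := b v 3
  simp only [smul4, a]
  rw [four_xor _ (b u 2) _ (b v 2) _ (by omega) _ (by omega), four_xor _ (b u 1) _ (b v 1) _ (by omega) _ (by omega),
    four_xor _ (b u 0) _ (b v 0) _ (by omega) _ (by omega)]

theorem smul4_zero : ∀ c < 4, smul4 c 0 = 0 := by decide +kernel

theorem smul4_one : ∀ v < 256, smul4 1 v = v ∧ smul4 0 v = 0 := by decide +kernel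

theorem smul4_eq_zero : ∀ c < 4, ∀ v < 256, smul4 c v = 0 → c = 0 ∨ v = 0 := by decide +kernel

theorem scalar_two : ∀ c < 4, c = 0 ∨ c = 1 ∨ c = 2 ∨ c = m4 2 2 := by decide +kernel

theorem herm_lt (u v : ℕ) : herm u v < 4 := by
  have : ∀ i j, m4 (co u i) (cj (co v j)) < 2 ^ 2 := fun i j => m4_lt _ (co_lt _ _) _ (cj_lt _ (co_lt _ _))
  exact Nat.xor_lt_two_pow (n := 2) (Nat.xor_lt_two_pow (Nat.xor_lt_two_pow (this 0 2) (this 2 0)) (this 1 3)) (this 3 1)

theorem xor_cancel_left (a b : ℕ) : a ^^^ (a ^^^ b) = b := by rw [← Nat.xor_assoc, Nat.xor_self, Nat.zero_xor]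

theorem herm_smul_left : ∀ c < 4, ∀ u < 256, ∀ i < 8,
    herm (smul4 c u) (1 <<< i) = m4 c (herm u (1 <<< i)) := by decide +kernel

theorem herm_swap : ∀ u < 256, ∀ i < 8, herm (1 <<< i) u = cj (herm u (1 <<< i)) := by decide +kernel

theorem herm_zero (u : ℕ) : herm u 0 = 0 ∧ herm 0 u = 0 := by
  constructor
  · have h := herm_add_right u 0 0
    simp at h; exact h
  · have h := herm_add_left 0 0 u
    simp at h; exact h

theorem herm_smul {c : ℕ} (hc : c < 4) {u v : ℕ} (hu : u < 256) (hv : v < 256) :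
    herm (smul4 c u) v = m4 c (herm u v) :=
  lin_ext (f := herm (smul4 c u)) (f' := fun v => m4 c (herm u v)) (herm_add_right _) (fun a b => by
    simp only [herm_add_right]
    rw [m4_comm _ hc _ (Nat.xor_lt_two_pow (n := 2) (herm_lt _ _) (herm_lt _ _)),
      m4_add_left _ (herm_lt _ _) _ (herm_lt _ _) _ hc, m4_comm _ (herm_lt _ _) _ hc, m4_comm _ (herm_lt _ _) _ hc])
    (herm_smul_left c hc u hu) v hv

theorem herm_conj {u v : ℕ} (hu : u < 256) (hv : v < 256) : herm v u = cj (herm u v) :=
  lin_ext (f := fun v => herm v u) (f' := fun v => cj (herm u v)) (fun a b => herm_add_left a b u) (fun a b => by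
    simp only [herm_add_right]; exact cj_add _ (herm_lt _ _) _ (herm_lt _ _)) (herm_swap u hu) v hv

theorem qf_lt : ∀ v < 256, qf v < 2 := by decide +kernel

/-- The polar of the quadratic form. -/
def polar (u v : ℕ) : ℕ := herm u v ^^^ herm v u

theorem qf_add {u v : ℕ} (hu : u < 256) (hv : v < 256) : qf (u ^^^ v) = qf u ^^^ qf v ^^^ polar u v := by
  rw [← herm_self _ (Nat.xor_lt_two_pow (n := 8) hu hv), herm_add_left, herm_add_right, herm_add_right,
    herm_self u hu, herm_self v hv, polar]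
  ac_rfl

/-- An isometry commuting with the scalars. -/
structure Unit4 (g : ℕ) : Prop where
  herm_app : ∀ u v, u < 256 → v < 256 → herm (app g u) (app g v) = herm u v
  smul_app : ∀ c v, c < 4 → v < 256 → app g (smul4 c v) = smul4 c (app g v)

theorem unit_of_ok {g : ℕ} (h : unitOK g = true) : Unit4 g := by
  simp only [unitOK, List.all_eq_true, List.mem_range, Bool.and_eq_true] at h
  have h2 : ∀ v < 256, app g (smul4 2 v) = smul4 2 (app g v) :=
    lin_ext (f := fun v => app g (smul4 2 v)) (f' := fun v => smul4 2 (app g v))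
      (fun a b => by simp only [smul4_add (show (2 : ℕ) < 4 by norm_num), app_add])
      (fun a b => by simp only [app_add, smul4_add (show (2 : ℕ) < 4 by norm_num)])
      (fun i hi => Nat.eq_of_beq_eq_true (h i hi).1)
  refine ⟨fun u v hu hv => ?_, fun c v hc hv => ?_⟩
  · have hb : ∀ i < 8, ∀ v < 256, herm (app g (1 <<< i)) (app g v) = herm (1 <<< i) v := fun i hi =>
      lin_ext (f := fun v => herm (app g (1 <<< i)) (app g v)) (f' := herm (1 <<< i))
        (fun a b => by simp only [app_add, herm_add_right]) (herm_add_right _)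
        (fun j hj => Nat.eq_of_beq_eq_true ((h i hi).2 j hj))
    exact lin_ext (f := fun u => herm (app g u) (app g v)) (f' := fun u => herm u v)
      (fun a b => by simp only [app_add, herm_add_left]) (fun a b => herm_add_left a b v)
      (fun i hi => hb i hi v hv) u hu
  · rcases scalar_two c hc with rfl | rfl | rfl | rfl
    · rw [(smul4_one v hv).2, app_zero, (smul4_one _ (app_lt g v)).2]
    · rw [(smul4_one v hv).1, (smul4_one _ (app_lt g v)).1]
    · exact h2 v hv
    · have e : ∀ w < 256, smul4 (m4 2 2) w = smul4 2 (smul4 2 w) := by decide +kernel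
      rw [e v hv, e _ (app_lt g v), h2 _ (smul4_lt (by norm_num) v), h2 v hv]

theorem Unit4.comp {g k : ℕ} (hg : Unit4 g) (hk : Unit4 k) : Unit4 (U6Rec.comp g k) :=
  ⟨fun u v hu hv => by rw [app_comp, app_comp, hg.herm_app _ _ (app_lt _ _) (app_lt _ _), hk.herm_app u v hu hv],
    fun c v hc hv => by rw [app_comp, app_comp, hk.smul_app c v hc hv, hg.smul_app c _ hc (app_lt _ _)]⟩

theorem InU.unit {g : ℕ} (h : InU g) : Unit4 g := by
  obtain ⟨i, j, hi, hj, rfl⟩ := h
  exact (unit_of_ok (List.all_eq_true.mp rep_unit i (List.mem_range.mpr hi))).comp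
    (unit_of_ok (List.all_eq_true.mp st_unit j (List.mem_range.mpr hj)))

theorem Unit4.inj {g : ℕ} (hg : Unit4 g) {u v : ℕ} (hu : u < 256) (hv : v < 256) (e : app g u = app g v) : u = v := by
  have hw : u ^^^ v < 256 := Nat.xor_lt_two_pow (n := 8) hu hv
  have h0 : u ^^^ v = 0 := nondeg _ hw (List.all_eq_true.mpr fun i hi => by
    rw [← hg.herm_app _ _ hw (byte_one_lt i (List.mem_range.mp hi)), app_add, e, Nat.xor_self, (herm_zero _).2]
    rfl)
  rw [← xor_cancel_left u v, h0, Nat.xor_zero]

theorem Unit4.surj {g : ℕ} (hg : Unit4 g) {w : ℕ} (hw : w < 256) : ∃ v < 256, app g v = w := by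
  have hi : Function.Injective (fun v : Fin 256 => (⟨app g v, app_lt g v⟩ : Fin 256)) := fun a b e =>
    Fin.ext (hg.inj a.2 b.2 (congrArg Fin.val e))
  obtain ⟨v, hv⟩ := (Finite.injective_iff_surjective.mp hi) ⟨w, hw⟩
  exact ⟨v, v.2, congrArg Fin.val hv⟩

theorem Unit4.qf_app {g : ℕ} (hg : Unit4 g) {v : ℕ} (hv : v < 256) : qf (app g v) = qf v := by
  rw [← herm_self _ (app_lt g v), hg.herm_app v v hv hv, herm_self v hv]

theorem transv_add {p : ℕ} (u v : ℕ) : transv p (u ^^^ v) = transv p u ^^^ transv p v := by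
  have e : smul4 (herm (u ^^^ v) p) p = smul4 (herm u p) p ^^^ smul4 (herm v p) p := by
    rw [herm_add_left]
    have a : ∀ i, m4 (herm u p ^^^ herm v p) (co p i) = m4 (herm u p) (co p i) ^^^ m4 (herm v p) (co p i) :=
      fun i => m4_add_left _ (herm_lt _ _) _ (herm_lt _ _) _ (co_lt _ _)
    have b := fun w i => m4_lt (herm w p) (herm_lt w p) _ (co_lt p i)
    have := b u 0; have := b u 1; have := b u 2; have := b u 3
    have := b v 0; have := b v 1; have := b v 2; have := b v 3
    simp only [smul4, a]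
    rw [four_xor _ (b u 2) _ (b v 2) _ (by omega) _ (by omega), four_xor _ (b u 1) _ (b v 1) _ (by omega) _ (by omega),
      four_xor _ (b u 0) _ (b v 0) _ (by omega) _ (by omega)]
  simp only [transv, e]
  ac_rfl

theorem transv_lt {p v : ℕ} (hv : v < 256) : transv p v < 256 :=
  Nat.xor_lt_two_pow (n := 8) hv (smul4_lt (herm_lt v p) p)

theorem app_tv (p : ℕ) {v : ℕ} (hv : v < 256) : app (tv p) v = transv p v := by
  refine lin_ext (f := app (tv p)) (f' := transv p) (app_add _) (fun u w => transv_add u w) (fun i hi => ?_) v hv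
  rw [app_basis _ i hi]
  have h : ∀ k, (pack fun i => transv p (1 <<< i)) = pack fun i => if i < 8 then transv p (1 <<< i) else k := by
    intro k; simp [pack]
  rw [tv, h 0, byte_pack (fun k => by split <;> [exact transv_lt (byte_one_lt k ‹_›); norm_num]) hi, if_pos hi]

/-- Fixed vectors of a transvection. -/
theorem tv_fix {p v : ℕ} (hp : p < 256) (hp0 : p ≠ 0) (hv : v < 256) : app (tv p) v = v ↔ herm v p = 0 := by
  rw [app_tv p hv, transv]
  constructor
  · intro h
    have := congrArg (v ^^^ ·) h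
    simp only [xor_cancel_left, Nat.xor_self] at this
    exact (smul4_eq_zero _ (herm_lt v p) p hp this).resolve_right hp0
  · intro h; rw [h, (smul4_one p hp).2, Nat.xor_zero]

/-- A transvection moves a vector by a multiple of its point. -/
theorem tv_move (p : ℕ) {v : ℕ} (hv : v < 256) : v ^^^ app (tv p) v = smul4 (herm v p) p := by
  rw [app_tv p hv, transv, xor_cancel_left]

theorem Unit4.tv_app {g p v : ℕ} (hg : Unit4 g) (hp : p < 256) (hv : v < 256) :
    app (tv (app g p)) (app g v) = app g (app (tv p) v) := by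
  rw [app_tv _ (app_lt g v), app_tv p hv, transv, transv, hg.herm_app v p hv hp, app_add, hg.smul_app _ p (herm_lt v p) hp]

end CfsgLib.U6Rec
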