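/-
The group on codes: singular vectors, transvections, the standard line and its stabiliser.
-/
import Cfsg.Agent.Lib.U6Rec.Lin

set_option autoImplicit false

namespace CfsgLib.U6Rec

/-- A nonzero singular vector. -/
def Sing (v : ℕ) : Prop := v < 256 ∧ v ≠ 0 ∧ qf v = 0

theorem sing_iff {v : ℕ} : Sing v ↔ v ∈ singL := by
  rw [← sing_list, List.mem_filter, List.mem_range, Bool.and_eq_true, Nat.beq_eq, Bool.not_eq_true', ← Bool.not_eq_true,
    Nat.beq_eq]
  rfl

theorem forms : (repL.all fun g => Nat.beq (comp g one) g) = true ∧ (stL.all fun g => Nat.beq (comp g one) g) = true ∧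
    (rL.all fun g => Nat.beq (comp g one) g) = true ∧ (ptsL.all fun p => Nat.beq (comp (tv p) one) (tv p)) = true ∧
    Nat.beq (comp one one) one = true ∧ repL.length = 135 ∧ stL.length = 192 := by decide +kernel

theorem one_one : comp one one = one := Nat.eq_of_beq_eq_true forms.2.2.2.2.1

theorem getD_all {l : List ℕ} {P : ℕ → Bool} (h : l.all P = true) (h1 : P one = true) (i : ℕ) : P (l.getD i one) = true := by
  rw [List.getD_eq_getElem?_getD]
  rcases e : l[i]? with _ | a
  · simpa using h1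
  · simpa using List.all_eq_true.mp h a (List.mem_of_getElem? e)

theorem rep_form (i : ℕ) : comp (rep i) one = rep i :=
  Nat.eq_of_beq_eq_true (getD_all (P := fun g => Nat.beq (comp g one) g) forms.1 forms.2.2.2.2.1 i)

theorem st_form (i : ℕ) : comp (st i) one = st i :=
  Nat.eq_of_beq_eq_true (getD_all (P := fun g => Nat.beq (comp g one) g) forms.2.1 forms.2.2.2.2.1 i)

theorem r_form (i : ℕ) : comp (rOf i) one = rOf i :=
  Nat.eq_of_beq_eq_true (getD_all (P := fun g => Nat.beq (comp g one) g) forms.2.2.1 forms.2.2.2.2.1 i)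

theorem elt_left {i : ℕ} : elt (i, 0) = rep i := by
  show comp (rep i) (st 0) = _
  rw [rep_first.2.2.1, rep_form]

theorem elt_right {j : ℕ} : elt (0, j) = st j := by
  show comp (rep 0) (st j) = _
  rw [rep_first.2.1, ← st_form j, one_comp]

theorem inU_rep {i : ℕ} (hi : i < 135) : InU (rep i) := ⟨i, 0, hi, by norm_num, elt_left.symm⟩

theorem inU_st {j : ℕ} (hj : j < 192) : InU (st j) := ⟨0, j, by norm_num, hj, elt_right.symm⟩

theorem inU_one : InU one := ⟨0, 0, by norm_num, by norm_num, rep_first.2.2.2.symm⟩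

theorem inU_elt {p : ℕ × ℕ} (h1 : p.1 < 135) (h2 : p.2 < 192) : InU (elt p) := ⟨p.1, p.2, h1, h2, rfl⟩

theorem inU_par {k : ℕ} (hk : k < 960) : InU (par k) := by
  have hk' : k < parW.length := by rw [par_index.2]; exact hk
  have h := List.all_eq_true.mp par_index.1 _ (List.getElem_mem hk')
  simp only [Bool.and_eq_true, decide_eq_true_eq] at h
  rw [par, List.getD_eq_getElem?_getD, List.getElem?_eq_getElem hk']
  exact inU_elt h.1 h.2

theorem inU_line {l : ℕ} (hl : l < 27) : InU (lineEl l) := by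
  have h := List.all_eq_true.mp line_index l (List.mem_range.mpr hl)
  simp only [Bool.and_eq_true, decide_eq_true_eq] at h
  exact inU_elt h.1 h.2

theorem sing_rep {v : ℕ} (h : Sing v) : ∃ i < 135, app (rep i) 1 = v := by
  have hm : v ∈ (List.range 135).map fun i => app (rep i) 1 := by rw [rep_first.1]; exact sing_iff.mp h
  obtain ⟨i, hi, e⟩ := List.mem_map.mp hm
  exact ⟨i, List.mem_range.mp hi, e⟩

theorem st_one {j : ℕ} (hj : j < 192) : app (st j) 1 = 1 :=
  Nat.eq_of_beq_eq_true (List.all_eq_true.mp st_fix.1 j (List.mem_range.mpr hj))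

theorem elt_app {i j : ℕ} (hj : j < 192) : app (elt (i, j)) 1 = app (rep i) 1 := by
  show app (comp (rep i) (st j)) 1 = _
  rw [app_comp, st_one hj]

theorem singL_nodup : singL.Nodup := by
  rw [← sing_list]; exact List.nodup_range.filter _

theorem rep_inj {i i' : ℕ} (hi : i < 135) (hi' : i' < 135) (e : app (rep i) 1 = app (rep i') 1) : i = i' := by
  have hn : ((List.range 135).map fun i => app (rep i) 1).Nodup := by rw [rep_first.1]; exact singL_nodup
  exact List.inj_on_of_nodup_map hn (List.mem_range.mpr hi) (List.mem_range.mpr hi') e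

theorem elt_inj {i i' j j' : ℕ} (hi : i < 135) (hi' : i' < 135) (hj : j < 192) (hj' : j' < 192)
    (e : elt (i, j) = elt (i', j')) : i = i' ∧ j = j' := by
  have e1 : i = i' := rep_inj hi hi' (by rw [← elt_app hj, e, elt_app hj'])
  subst e1
  have e2 : st j = st j' := by
    rw [← st_form j, ← st_form j']
    refine comp_ext fun v hv => ?_
    simp only [app_comp, app_one v hv]
    have h := congrArg (fun g => app g v) e
    simp only [elt, app_comp] at h
    exact (inU_rep hi).unit.inj (app_lt _ _) (app_lt _ _) h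
  have hl := forms.2.2.2.2.2.2
  simp only [st, List.getD_eq_getElem?_getD, List.getElem?_eq_getElem (show j < stL.length by omega),
    List.getElem?_eq_getElem (show j' < stL.length by omega), Option.getD_some] at e2
  exact ⟨rfl, (st_fix.2.getElem_inj_iff).mp e2⟩

theorem card_inU : Nat.card {g : ℕ // InU g} = 25920 := by
  have hb : Function.Bijective (fun p : Fin 135 × Fin 192 => (⟨elt (p.1.1, p.2.1), inU_elt p.1.2 p.2.2⟩ : {g : ℕ // InU g})) := by
    refine ⟨fun a b e => ?_, fun g => ?_⟩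
    · obtain ⟨e1, e2⟩ := elt_inj a.1.2 b.1.2 a.2.2 b.2.2 (congrArg Subtype.val e)
      exact Prod.ext (Fin.ext e1) (Fin.ext e2)
    · obtain ⟨g, i, j, hi, hj, e⟩ := g
      exact ⟨(⟨i, hi⟩, ⟨j, hj⟩), Subtype.ext e.symm⟩
  rw [← Nat.card_eq_of_bijective _ hb]
  simp

theorem InU.form {g : ℕ} (h : InU g) : comp g one = g := by
  obtain ⟨i, j, -, -, rfl⟩ := h
  exact comp_one _ _

theorem InU.ext {g k : ℕ} (hg : InU g) (hk : InU k) (h : ∀ v < 256, app g v = app k v) : g = k := by
  rw [← hg.form, ← hk.form]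
  exact comp_ext fun v hv => by simp only [app_comp, app_one v hv]; exact h v hv

theorem stab_first {g : ℕ} (h : InU g) (e : app g 1 = 1) : ∃ j < 192, g = st j := by
  obtain ⟨i, j, hi, hj, rfl⟩ := h
  rw [elt_app hj] at e
  have h0 : i = 0 := rep_inj hi (by norm_num) (by rw [e, rep_first.2.1, app_one 1 (by norm_num)])
  subst h0
  exact ⟨j, hj, elt_right⟩

theorem par_spec {g : ℕ} (h : InU g) (h1 : app g 1 < 16) (h4 : app g 4 < 16) : ∃ k < 960, g = par k := by
  obtain ⟨i, j, hi, hj, rfl⟩ := h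
  rw [elt_app hj] at h1
  have hm : (i, j) ∈ parW := by
    rw [← par_list]
    refine List.mem_flatMap.mpr ⟨i, List.mem_range.mpr hi, ?_⟩
    rw [show Nat.ble 16 (app (rep i) 1) = false by rw [Bool.eq_false_iff]; intro e; have := Nat.le_of_ble_eq_true e; omega]
    exact List.mem_map.mpr ⟨j, List.mem_filter.mpr ⟨List.mem_range.mpr hj, Nat.ble_eq.mpr (by omega)⟩, rfl⟩
  obtain ⟨k, hk, e⟩ := List.getElem_of_mem hm
  exact ⟨k, by rw [← par_index.2]; exact hk, by
    rw [par, List.getD_eq_getElem?_getD, List.getElem?_eq_getElem hk, Option.getD_some, e]⟩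

theorem rL_mem {g : ℕ} (h : rL.elem g = true) : ∃ n < 16, g = rOf n := by
  obtain ⟨n, hn, e⟩ := List.getElem_of_mem (List.mem_of_elem_eq_true h)
  exact ⟨n, by rw [← r_inj.2.1]; exact hn, by
    rw [rOf, List.getD_eq_getElem?_getD, List.getElem?_eq_getElem hn, Option.getD_some, e]⟩

/-- The pointwise stabiliser of the standard line. -/
theorem point_line {g : ℕ} (h : InU g) (h1 : app g 1 = 1) (h4 : app g 4 = 4) : ∃ n < 16, g = rOf n := by
  obtain ⟨k, hk, rfl⟩ := par_spec h (by omega) (by omega)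
  have := List.all_eq_true.mp par_point k (List.mem_range.mpr hk)
  rw [Bool.or_eq_true, Bool.or_eq_true, Bool.not_eq_true', Bool.not_eq_true', h1, h4] at this
  rcases this with (t | t) | t
  · simp at t
  · simp at t
  · exact rL_mem t

/-- The pointwise stabiliser is self-centralising in the stabiliser. -/
theorem cent_line {g : ℕ} (h : InU g) (h1 : app g 1 < 16) (h4 : app g 4 < 16)
    (hc : ∀ n < 16, comp g (rOf n) = comp (rOf n) g) : ∃ n < 16, g = rOf n := by
  obtain ⟨k, hk, rfl⟩ := par_spec h h1 h4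
  have := List.all_eq_true.mp par_cent k (List.mem_range.mpr hk)
  rw [Bool.or_eq_true, Bool.not_eq_true'] at this
  rcases this with t | t
  · simp [hc] at t
  · exact rL_mem t

theorem r_mem_par : (List.range 16).all (fun n => (List.range 960).any fun k => Nat.beq (par k) (rOf n)) = true := by
  decide +kernel

theorem inU_r {n : ℕ} (hn : n < 16) : InU (rOf n) := by
  obtain ⟨k, hk, e⟩ := List.any_eq_true.mp (List.all_eq_true.mp r_mem_par n (List.mem_range.mpr hn))
  rw [← Nat.eq_of_beq_eq_true e]; exact inU_par (List.mem_range.mp hk)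

theorem tv_mem : (ptsL.all fun p => (List.range 135).any fun i => Nat.beq (app (rep i) 1) (app (tv p) 1) &&
    (List.range 192).any fun j => Nat.beq (elt (i, j)) (tv p)) = true := by decide +kernel

theorem pts_sing {p : ℕ} (hp : p ∈ ptsL) : Sing p :=
  sing_iff.mpr (List.mem_of_elem_eq_true (List.all_eq_true.mp pts_list.1 p hp))

theorem sing_point {v : ℕ} (h : Sing v) : ∃ c < 4, c ≠ 0 ∧ smul4 c v ∈ ptsL := by
  obtain ⟨c, hc, e⟩ := List.any_eq_true.mp (List.all_eq_true.mp pts_cover v (sing_iff.mp h))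
  rw [Bool.and_eq_true, Bool.not_eq_true'] at e
  refine ⟨c, List.mem_range.mp hc, ?_, List.mem_of_elem_eq_true e.2⟩
  rintro rfl; simp at e

theorem tv_smul {v c : ℕ} (h : Sing v) (hc : c < 4) (hc0 : c ≠ 0) : tv (smul4 c v) = tv v := by
  have := List.all_eq_true.mp (List.all_eq_true.mp tv_scalar v (sing_iff.mp h)) c (List.mem_range.mpr hc)
  simpa [hc0] using this

theorem tv_pts {v : ℕ} (h : Sing v) : ∃ p ∈ ptsL, tv p = tv v := by
  obtain ⟨c, hc, hc0, hm⟩ := sing_point h
  exact ⟨_, hm, tv_smul h hc hc0⟩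

theorem inU_tv {v : ℕ} (h : Sing v) : InU (tv v) := by
  obtain ⟨p, hp, e⟩ := tv_pts h
  obtain ⟨i, hi, ei⟩ := List.any_eq_true.mp (List.all_eq_true.mp tv_mem p hp)
  rw [Bool.and_eq_true] at ei
  obtain ⟨j, hj, ej⟩ := List.any_eq_true.mp ei.2
  rw [← e, ← Nat.eq_of_beq_eq_true ej]
  exact inU_elt (List.mem_range.mp hi) (List.mem_range.mp hj)

theorem Sing.app {g v : ℕ} (hg : Unit4 g) (h : Sing v) : Sing (app g v) := by
  refine ⟨app_lt _ _, fun e => h.2.1 (hg.inj h.1 (by norm_num) (by rw [e, app_zero])), ?_⟩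
  rw [hg.qf_app h.1, h.2.2]

/-- Membership of the line of an element. -/
theorem onLine_iff {g v : ℕ} (hg : InU g) (hv : v < 256) : onLine g v = true ↔ ∃ w < 16, app g w = v := by
  simp only [onLine, Bool.and_eq_true, Nat.beq_eq]
  constructor
  · rintro ⟨h1, h4⟩
    obtain ⟨w, hw, rfl⟩ := hg.unit.surj hv
    rw [hg.unit.herm_app w _ hw (by norm_num)] at h1
    rw [hg.unit.herm_app w _ hw (by norm_num)] at h4
    exact ⟨w, line_self w hw h1 h4, rfl⟩
  · rintro ⟨w, hw, rfl⟩
    rw [hg.unit.herm_app w 1 (by omega) (by norm_num), hg.unit.herm_app w 4 (by omega) (by norm_num)]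
    exact ⟨line_iso w hw 1 (by norm_num), line_iso w hw 4 (by norm_num)⟩

theorem smul4_inv : ∀ c < 4, c ≠ 0 → ∃ d < 4, d ≠ 0 ∧ m4 d c = 1 := by decide +kernel

theorem m4_zero : ∀ a < 4, ∀ b < 4, m4 a b = 0 ↔ a = 0 ∨ b = 0 := by decide +kernel

theorem herm_smul_zero {c u v : ℕ} (hc : c < 4) (hc0 : c ≠ 0) (hu : u < 256) (hv : v < 256) :
    herm (smul4 c u) v = 0 ↔ herm u v = 0 := by
  rw [herm_smul hc hu hv, m4_zero c hc _ (herm_lt u v), or_iff_right hc0]

theorem herm_symm {u v : ℕ} (hu : u < 256) (hv : v < 256) : herm u v = 0 ↔ herm v u = 0 := by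
  have h : ∀ a < 4, cj a = 0 ↔ a = 0 := by decide +kernel
  rw [herm_conj hu hv, h _ (herm_lt u v)]

/-- Two perpendicular singular vectors lie on a line. -/
theorem line_of_perp {p p' : ℕ} (hp : Sing p) (hp' : Sing p') (h : herm p p' = 0) :
    ∃ g, InU g ∧ ∃ w < 16, ∃ w' < 16, app g w = p ∧ app g w' = p' := by
  obtain ⟨c, hc, hc0, hm⟩ := sing_point hp
  obtain ⟨c', hc', hc0', hm'⟩ := sing_point hp'
  have hz : herm (smul4 c p) (smul4 c' p') = 0 := by
    rw [herm_smul_zero hc hc0 hp.1 (smul4_lt hc' _), herm_symm hp.1 (smul4_lt hc' _), herm_smul_zero hc' hc0' hp'.1 hp.1,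
      ← herm_symm hp.1 hp'.1, h]
  have hl := List.all_eq_true.mp (List.all_eq_true.mp line_pairs _ hm) _ hm'
  rw [hz, Bool.or_eq_true] at hl
  rcases hl with t | t
  · simp at t
  obtain ⟨l, hl, e⟩ := List.any_eq_true.mp t
  rw [Bool.and_eq_true] at e
  have hg := inU_line (List.mem_range.mp hl)
  refine ⟨_, hg, ?_⟩
  have back : ∀ {c v : ℕ}, c < 4 → c ≠ 0 → v < 256 → onLine (lineEl l) (smul4 c v) = true →
      ∃ w < 16, app (lineEl l) w = v := by
    intro c v hc hc0 hv h
    obtain ⟨w, hw, ew⟩ := (onLine_iff hg (smul4_lt hc v)).mp h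
    obtain ⟨d, hd, -, ed⟩ := smul4_inv c hc hc0
    have e16 : ∀ d < 4, ∀ w < 16, smul4 d w < 16 := by decide +kernel
    have eassoc : ∀ d < 4, ∀ c < 4, ∀ v < 256, smul4 d (smul4 c v) = smul4 (m4 d c) v := by decide +kernel
    refine ⟨smul4 d w, e16 d hd w hw, ?_⟩
    rw [hg.unit.smul_app d w hd (by omega), ew, eassoc d hd c hc v hv, ed, (smul4_one v hv).1]
  obtain ⟨w, hw, ew⟩ := back hc hc0 hp.1 e.1
  obtain ⟨w', hw', ew'⟩ := back hc' hc0' hp'.1 e.2
  exact ⟨w, hw, w', hw', ew, ew'⟩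

end CfsgLib.U6Rec
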