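/-
An involution normalising a fixed-point-free automorphism of large prime order of an elementary abelian group.
-/
import Mathlib.GroupTheory.Index
import Mathlib.GroupTheory.OrderOfElement
import Mathlib.Algebra.Group.End
import Mathlib.Tactic

set_option autoImplicit false

namespace CfsgLib.U6Rec

variable {X : Type*} [Group X] [Finite X]

theorem no_involution_normaliser {m p : ℕ} (hp : p.Prime) (hcard : Nat.card X = 2 ^ m) (hexp : ∀ x : X, x * x = 1)
    (g t : MulAut X) (hg : g ^ p = 1) (hfree : ∀ x, g x = x → x = 1) (ht : t * t = 1) (k : ℕ) (hk : t * g = g ^ k * t)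
    (hbig : ∀ f, f * f ≥ 2 ^ m → (f - 1) * p > 2 ^ m - 1)
    (hpow : ∀ i ≤ m, p ∣ 2 ^ i - 1 → i = 0 ∨ i = m) : t = 1 := by
  classical
  haveI := Fintype.ofFinite X
  have hcomm : ∀ a b : X, a * b = b * a := fun a b => by
    calc a * b = a * ((a * b) * (a * b)) * b := by rw [hexp (a * b), mul_one]
      _ = (a * a) * (b * a) * (b * b) := by group
      _ = b * a := by rw [hexp a, hexp b, one_mul, mul_one]
  let ψ : X →* X :=
    { toFun := fun x => x * t x
      map_one' := by simp
      map_mul' := fun a b => by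
        rw [map_mul]
        calc a * b * (t a * t b) = a * (b * t a) * t b := by group
          _ = _ := by rw [hcomm b (t a)]; group }
  have tt : ∀ x, t (t x) = x := fun x => by rw [← MulAut.mul_apply, ht, MulAut.one_apply]
  let F : Subgroup X :=
    { carrier := {x | t x = x}
      one_mem' := map_one t
      mul_mem' := fun {a b} ha hb => by
        simp only [Set.mem_setOf_eq] at *
        rw [map_mul, ha, hb]
      inv_mem' := fun {a} ha => by
        simp only [Set.mem_setOf_eq] at *
        rw [map_inv, ha] }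
  have hker : ψ.ker ≤ F := fun x hx => by
    have h : x * t x = 1 := hx
    show t x = x
    rw [← inv_eq_of_mul_eq_one_right h, inv_eq_of_mul_eq_one_right (hexp x)]
  have hran : ψ.range ≤ F := by
    rintro _ ⟨x, rfl⟩
    show t (x * t x) = x * t x
    rw [map_mul, tt, hcomm]
  have hsq : Nat.card F * Nat.card F ≥ 2 ^ m := by
    rw [← hcard, ← Subgroup.index_mul_card ψ.ker, Subgroup.index_ker]
    exact Nat.mul_le_mul (Subgroup.card_le_of_le hran) (Subgroup.card_le_of_le hker)
  -- some orbit contains two fixed elements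
  have fix_mul : ∀ x, ∀ n : ℕ, (g ^ n) x = x → x ≠ 1 → p ∣ n := by
    intro x n hn hx
    by_contra hd
    have hco : Nat.Coprime n p := (hp.coprime_iff_not_dvd.mpr hd).symm
    obtain ⟨a, ha⟩ := Nat.exists_mul_mod_eq_one_of_coprime hco hp.one_lt
    have h1 : (g ^ (n * a)) x = x := by
      clear ha
      induction a with
      | zero => simp
      | succ a ih => rw [Nat.mul_succ, pow_add, MulAut.mul_apply, hn, ih]
    rw [pow_eq_pow_mod _ hg, ha.2, pow_one] at h1
    exact hx (hfree x h1)
  have tg : ∀ (n : ℕ) (x : X), t ((g ^ n) x) = (g ^ (k * n)) (t x) := by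
    intro n
    induction n with
    | zero => intro x; simp
    | succ n ih =>
      intro x
      rw [pow_succ, MulAut.mul_apply, ih, show t (g x) = (t * g) x from rfl, hk, MulAut.mul_apply, ← MulAut.mul_apply,
        ← pow_add, Nat.mul_succ]
  obtain ⟨⟨x, i⟩, ⟨y, j⟩, hne, he⟩ : ∃ a b : {x : X // x ∈ F ∧ x ≠ 1} × Fin p, a ≠ b ∧
      (g ^ (a.2 : ℕ)) a.1.1 = (g ^ (b.2 : ℕ)) b.1.1 := by
    by_contra hall
    push Not at hall
    let ι : {x : X // x ∈ F ∧ x ≠ 1} × Fin p → {x : X // x ≠ 1} := fun a =>
      ⟨(g ^ (a.2 : ℕ)) a.1.1, fun e => a.1.2.2 ((g ^ (a.2 : ℕ)).injective (by rw [e, map_one]))⟩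
    have hle := Nat.card_le_card_of_injective ι fun a b e => by
      by_contra hne; exact hall a b hne (congrArg Subtype.val e)
    have c1 : Nat.card {x : X // x ∈ F ∧ x ≠ 1} = Nat.card F - 1 := by
      have e : {x : X // x ∈ F ∧ x ≠ 1} ≃ ↥((F : Set X) \ {1}) := Equiv.subtypeEquivRight (fun x => by simp)
      rw [Nat.card_congr e, Nat.card_coe_set_eq, Set.ncard_diff_singleton_of_mem (one_mem F)]
      rfl
    have c2 : Nat.card {x : X // x ≠ 1} = 2 ^ m - 1 := by
      rw [← hcard, Nat.card_eq_fintype_card, Nat.card_eq_fintype_card, Fintype.card_subtype_compl, Fintype.card_subtype_eq]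
    rw [Nat.card_prod, c1, c2, Nat.card_fin] at hle
    have := hbig _ hsq
    omega
  simp only at he
  have hx : t x.1 = x.1 := x.2.1
  have hy : t y.1 = y.1 := y.2.1
  -- the involution centralises the automorphism
  have hp1 := hp.one_lt
  set n := (p - (i : ℕ)) + j with hn
  have hxy : x.1 = (g ^ n) y.1 := by
    rw [hn, pow_add, MulAut.mul_apply, ← he, ← MulAut.mul_apply, ← pow_add, Nat.sub_add_cancel i.2.le, hg, MulAut.one_apply]
  have hn0 : ¬ p ∣ n := by
    intro hd
    obtain ⟨c, hc⟩ := hd
    have hlt : n < 2 * p := by omega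
    have : c = 1 := by
      rcases Nat.lt_or_ge c 1 with h | h
      · interval_cases c; omega
      · by_contra h2
        have : p * 2 ≤ p * c := Nat.mul_le_mul_left p (by omega)
        omega
    subst this
    have hij : (j : ℕ) = i := by omega
    apply hne
    have : x.1 = y.1 := by rw [hxy, hc, mul_one, hg, MulAut.one_apply]
    exact Prod.ext (Subtype.ext this) (Fin.ext hij.symm)
  have e2 : (g ^ (k * n)) y.1 = (g ^ n) y.1 := by
    rw [← hxy]
    conv_lhs => rw [← hy, ← tg n, ← hxy, hx]
  have hk1 : g ^ k = g := by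
    have hkn : (k * n) % p = n % p := by
      set a := (k * n) % p
      set b := n % p
      have e3 : (g ^ a) y.1 = (g ^ b) y.1 := by
        simp only [a, b]
        rwa [← pow_eq_pow_mod _ hg, ← pow_eq_pow_mod _ hg]
      rcases Nat.lt_trichotomy a b with h | h | h
      · have := fix_mul y.1 (b - a) ((g ^ a).injective (by rw [← MulAut.mul_apply, ← pow_add, Nat.add_sub_cancel' h.le, e3])) y.2.2
        have := Nat.le_of_dvd (by omega) this
        have : b < p := Nat.mod_lt _ hp.pos
        omega
      · exact h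
      · have := fix_mul y.1 (a - b) ((g ^ b).injective (by rw [← MulAut.mul_apply, ← pow_add, Nat.add_sub_cancel' h.le, e3])) y.2.2
        have := Nat.le_of_dvd (by omega) this
        have : a < p := Nat.mod_lt _ hp.pos
        omega
    have hmod : Nat.ModEq p (k * n) (1 * n) := by rw [one_mul]; exact hkn
    have : Nat.ModEq p k 1 := Nat.ModEq.cancel_right_of_coprime (hp.coprime_iff_not_dvd.mpr hn0) hmod
    rw [pow_eq_pow_mod k hg, this, Nat.mod_eq_of_lt hp1, pow_one]
  have tgc : ∀ x, t (g x) = g (t x) := fun x => by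
    have := tg 1 x
    rwa [mul_one, pow_one, hk1] at this
  -- the fixed elements are permuted in cycles of length p
  have hmem : ∀ a : X, a ∈ F → g a ∈ F := fun a ha => by show t (g a) = g a; rw [tgc, show t a = a from ha]
  let σ : Equiv.Perm F :=
    Equiv.ofBijective (fun a => ⟨g a.1, hmem _ a.2⟩)
      (Finite.injective_iff_bijective.mp fun a b e => Subtype.ext (g.injective (congrArg Subtype.val e)))
  have hσ : ∀ (n : ℕ) (a : F), ((σ ^ n) a).1 = (g ^ n) a.1 := by
    intro n
    induction n with
    | zero => intro a; simp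
    | succ n ih => intro a; rw [pow_succ, Equiv.Perm.mul_apply, ih, pow_succ, MulAut.mul_apply]; rfl
  haveI : Fact p.Prime := ⟨hp⟩
  haveI := Fintype.ofFinite F
  have hfix : ∀ a : F, σ a = a ↔ a = 1 := fun a =>
    ⟨fun e => Subtype.ext (hfree a.1 (congrArg Subtype.val e)), fun e => by subst e; exact Subtype.ext (map_one g)⟩
  have hsupp : p ∣ Fintype.card F - 1 := by
    have h := Equiv.Perm.card_compl_support_modEq (σ := σ) (p := p) (n := 1)
      (Equiv.ext fun a => Subtype.ext (by rw [pow_one, hσ, hg]; rfl))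
    rw [show σ.supportᶜ = {1} by ext a; simp [hfix a], Finset.card_singleton] at h
    exact (Nat.modEq_iff_dvd' Fintype.card_pos).mp h
  obtain ⟨i, hi, hF⟩ := (Nat.dvd_prime_pow Nat.prime_two).mp (hcard ▸ Subgroup.card_subgroup_dvd_card F : Nat.card F ∣ 2 ^ m)
  rw [← Nat.card_eq_fintype_card, hF] at hsupp
  rcases hpow i hi hsupp with r | r
  · exfalso
    subst r
    have := Subgroup.card_eq_one.mp (by rw [hF]; norm_num : Nat.card F = 1)
    exact x.2.2 (Subgroup.mem_bot.mp (this ▸ x.2.1))
  · have : F = ⊤ := Subgroup.eq_top_of_card_eq F (by rw [hF, r, hcard])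
    ext a
    exact (this ▸ Subgroup.mem_top a : a ∈ F)

end CfsgLib.U6Rec
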