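/-
An involution whose centraliser is an extraspecial group of order two to the nine extended by the
four-dimensional unitary group over the field of four elements in its natural action.
-/
import Cfsg.Agent.Lib.U6Rec.Group
import Mathlib.GroupTheory.OrderOfElement
import Mathlib.GroupTheory.Index

set_option autoImplicit false

namespace CfsgLib.U6Rec

/-- The data: coordinates of the extraspecial group and of the action on it. -/
structure Core (G : Type*) [Group G] where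
  z : G
  hz : orderOf z = 2
  J : Subgroup G
  zJ : z ∈ J
  Jz : ∀ j ∈ J, Commute j z
  Jcard : Nat.card J = 512
  conjJ : ∀ h, Commute h z → ∀ j ∈ J, h * j * h⁻¹ ∈ J
  κ : G → ℕ
  κ_lt : ∀ j ∈ J, κ j < 256
  κ_mul : ∀ a ∈ J, ∀ b ∈ J, κ (a * b) = κ a ^^^ κ b
  κ_ker : ∀ j ∈ J, κ j = 0 ↔ j = 1 ∨ j = z
  κ_surj : ∀ v < 256, ∃ j ∈ J, κ j = v
  sq : ∀ j ∈ J, j * j = if qf (κ j) = 1 then z else 1
  ρ : G → ℕ
  ρ_mem : ∀ h, Commute h z → InU (ρ h)
  κ_conj : ∀ h, Commute h z → ∀ j ∈ J, κ (h * j * h⁻¹) = app (ρ h) (κ j)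
  ρ_surj : ∀ g, InU g → ∃ h, Commute h z ∧ ρ h = g
  cent : ∀ h, Commute h z → (∀ j ∈ J, Commute h j) → h ∈ J

theorem polar_fun : ∀ b < 256, ∃ u < 256, ∀ i < 8, polar u (1 <<< i) = (b >>> i) &&& 1 := by decide +kernel

theorem polar_lt {u v : ℕ} (hu : u < 256) (hv : v < 256) : polar u v < 2 := by
  have h : ∀ a < 4, a ^^^ cj a < 2 := by decide +kernel
  rw [polar, herm_conj hu hv]; exact h _ (herm_lt u v)

theorem polar_add (u a b : ℕ) : polar u (a ^^^ b) = polar u a ^^^ polar u b := by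
  simp only [polar, herm_add_left, herm_add_right]; ac_rfl

theorem polar_self {u : ℕ} : polar u u = 0 := Nat.xor_self _

namespace Core

variable {G : Type*} [Group G] (C : Core G)

/-- A power of the involution. -/
def zp (n : ℕ) : G := if n = 1 then C.z else 1

theorem zz : C.z * C.z = 1 := by rw [← pow_two, ← C.hz, pow_orderOf_eq_one]

theorem z_ne : C.z ≠ 1 := fun h => by have := C.hz; rw [h, orderOf_one] at this; exact absurd this (by norm_num)

theorem z_inv : C.z⁻¹ = C.z := inv_eq_of_mul_eq_one_right C.zz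

theorem zp_mem (n : ℕ) : C.zp n ∈ C.J := by unfold zp; split <;> [exact C.zJ; exact one_mem _]

theorem zp_comm (n : ℕ) {h : G} (hh : Commute h C.z) : Commute h (C.zp n) := by
  unfold zp; split <;> [exact hh; exact Commute.one_right _]

theorem zp_xor {a b : ℕ} (ha : a < 2) (hb : b < 2) : C.zp (a ^^^ b) = C.zp a * C.zp b := by
  interval_cases a <;> interval_cases b <;> simp [zp, C.zz]

theorem zp_eq_one {a : ℕ} (ha : a < 2) : C.zp a = 1 ↔ a = 0 := by
  interval_cases a <;> simp [zp, C.z_ne]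

theorem sq' {j : G} (hj : j ∈ C.J) : j * j = C.zp (qf (C.κ j)) := C.sq j hj

theorem κ_one : C.κ 1 = 0 := (C.κ_ker 1 (one_mem _)).mpr (Or.inl rfl)

theorem κ_z : C.κ C.z = 0 := (C.κ_ker _ C.zJ).mpr (Or.inr rfl)

theorem κ_inv {j : G} (hj : j ∈ C.J) : C.κ j⁻¹ = C.κ j := by
  have h := C.κ_mul j⁻¹ (inv_mem hj) j hj
  rw [inv_mul_cancel, C.κ_one] at h
  have := congrArg (· ^^^ C.κ j) h.symm
  simpa [Nat.xor_assoc] using this

theorem κ_eq {a b : G} (ha : a ∈ C.J) (hb : b ∈ C.J) : C.κ a = C.κ b ↔ a = b ∨ a = b * C.z := by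
  have hm : C.κ (b⁻¹ * a) = C.κ b ^^^ C.κ a := by rw [C.κ_mul _ (inv_mem hb) _ ha, C.κ_inv hb]
  constructor
  · intro e
    rcases (C.κ_ker _ (mul_mem (inv_mem hb) ha)).mp (by rw [hm, e, Nat.xor_self]) with h | h
    · exact Or.inl (inv_mul_eq_one.mp h).symm
    · exact Or.inr (by rw [← h]; group)
  · rintro (rfl | rfl)
    · rfl
    · rw [C.κ_mul b hb C.z C.zJ, C.κ_z, Nat.xor_zero]

theorem inv_eq {j : G} (hj : j ∈ C.J) : j⁻¹ = C.zp (qf (C.κ j)) * j := by
  refine inv_eq_of_mul_eq_one_right ?_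
  rw [← mul_assoc, (C.zp_comm _ (C.Jz j hj)).eq, mul_assoc, C.sq' hj]
  have := qf_lt _ (C.κ_lt j hj)
  rw [← C.zp_xor this this, Nat.xor_self]; rfl

theorem swap {a b : G} (ha : a ∈ C.J) (hb : b ∈ C.J) : a * b = C.zp (polar (C.κ a) (C.κ b)) * (b * a) := by
  have hu := C.κ_lt a ha
  have hv := C.κ_lt b hb
  have e : (a * b) * (a * b) = C.zp (qf (C.κ a) ^^^ qf (C.κ b) ^^^ polar (C.κ a) (C.κ b)) := by
    rw [C.sq' (mul_mem ha hb), C.κ_mul a ha b hb, qf_add hu hv]
  have h2 := fun {n : ℕ} => C.zp_comm n (C.Jz b hb)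
  have l1 : qf (C.κ a) < 2 := qf_lt _ hu
  have l2 : qf (C.κ b) < 2 := qf_lt _ hv
  have l3 := polar_lt hu hv
  calc a * b = (a * b) * (a * b) * (b⁻¹ * a⁻¹) := by group
    _ = _ := by
      rw [e, C.inv_eq ha, C.inv_eq hb, C.zp_xor (Nat.xor_lt_two_pow (n := 1) l1 l2) l3, C.zp_xor l1 l2]
      set A := C.zp (qf (C.κ a)) with hA
      set B := C.zp (qf (C.κ b))
      set P := C.zp (polar (C.κ a) (C.κ b))
      have cA : A * A = 1 := by rw [hA, ← C.zp_xor l1 l1, Nat.xor_self]; rfl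
      have cB : B * B = 1 := by rw [show B = C.zp (qf (C.κ b)) from rfl, ← C.zp_xor l2 l2, Nat.xor_self]; rfl
      have hAB : Commute A B := C.zp_comm _ (C.Jz _ (C.zp_mem _))
      have hAP : Commute P A := C.zp_comm _ (C.Jz _ (C.zp_mem _))
      have hBP : Commute P B := C.zp_comm _ (C.Jz _ (C.zp_mem _))
      have hbA : Commute b A := h2
      calc A * B * P * (B * b * (A * a)) = A * B * P * B * A * (b * a) := by
            simp only [mul_assoc]; rw [← mul_assoc b A, hbA.eq, mul_assoc]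
        _ = P * ((A * B) * (B * A)) * (b * a) := by
            simp only [mul_assoc]; rw [← mul_assoc B P, ← hBP.eq, mul_assoc, ← mul_assoc A P, ← hAP.eq, mul_assoc]
        _ = P * (b * a) := by rw [mul_assoc A B, ← mul_assoc B B, cB, one_mul, cA, mul_one]

theorem comm_iff {a b : G} (ha : a ∈ C.J) (hb : b ∈ C.J) : Commute a b ↔ polar (C.κ a) (C.κ b) = 0 := by
  rw [← C.zp_eq_one (polar_lt (C.κ_lt a ha) (C.κ_lt b hb))]
  constructor
  · intro h
    have e := C.swap ha hb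
    rw [h.eq] at e
    exact mul_eq_right.mp e.symm
  · intro h
    show a * b = b * a
    rw [C.swap ha hb, h, one_mul]

theorem ρ_mul {g h : G} (hg : Commute g C.z) (hh : Commute h C.z) : C.ρ (g * h) = comp (C.ρ g) (C.ρ h) := by
  rw [← (C.ρ_mem _ (hg.mul_left hh)).form]
  refine comp_ext fun v hv => ?_
  obtain ⟨j, hj, rfl⟩ := C.κ_surj v hv
  rw [app_comp, app_one _ hv, app_comp, ← C.κ_conj h hh j hj, ← C.κ_conj g hg _ (C.conjJ h hh j hj),
    ← C.κ_conj _ (hg.mul_left hh) j hj]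
  congr 1; group

theorem κ_conj_J {j k : G} (hj : j ∈ C.J) (hk : k ∈ C.J) : C.κ (j * k * j⁻¹) = C.κ k := by
  rw [C.κ_mul _ (mul_mem hj hk) _ (inv_mem hj), C.κ_mul j hj k hk, C.κ_inv hj, Nat.xor_comm (C.κ j) (C.κ k),
    Nat.xor_assoc, Nat.xor_self, Nat.xor_zero]

theorem ρ_J {j : G} (hj : j ∈ C.J) : C.ρ j = one :=
  (C.ρ_mem _ (C.Jz j hj)).ext inU_one fun v hv => by
    obtain ⟨k, hk, rfl⟩ := C.κ_surj v hv
    rw [← C.κ_conj j (C.Jz j hj) k hk, C.κ_conj_J hj hk, app_one _ hv]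

theorem ρ_one : C.ρ 1 = one := C.ρ_J (one_mem _)

theorem ρ_inv_left {h : G} (hh : Commute h C.z) : comp (C.ρ h⁻¹) (C.ρ h) = one := by
  rw [← C.ρ_mul hh.inv_left hh, inv_mul_cancel, C.ρ_one]

/-- The kernel of the action. -/
theorem ρ_ker {h : G} (hh : Commute h C.z) : C.ρ h = one ↔ h ∈ C.J := by
  refine ⟨fun e => ?_, C.ρ_J⟩
  classical
  have hk : ∀ j ∈ C.J, h * j * h⁻¹ * j⁻¹ = 1 ∨ h * j * h⁻¹ * j⁻¹ = C.z := by
    intro j hj
    refine (C.κ_ker _ (mul_mem (C.conjJ h hh j hj) (inv_mem hj))).mp ?_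
    rw [C.κ_mul _ (C.conjJ h hh j hj) _ (inv_mem hj), C.κ_inv hj, C.κ_conj h hh j hj, e, app_one _ (C.κ_lt j hj),
      Nat.xor_self]
  choose s hs hκs using fun v => C.κ_surj (v % 256) (Nat.mod_lt _ (by norm_num))
  let f : ℕ → ℕ := fun v => if h * s v * h⁻¹ * (s v)⁻¹ = 1 then 0 else 1
  have key : ∀ j ∈ C.J, h * j * h⁻¹ = C.zp (f (C.κ j)) * j := by
    intro j hj
    have hv := C.κ_lt j hj
    have hs' : C.κ (s (C.κ j)) = C.κ j := by rw [hκs, Nat.mod_eq_of_lt hv]
    have d : h * s (C.κ j) * h⁻¹ = C.zp (f (C.κ j)) * s (C.κ j) := by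
      simp only [f]
      split
      · next c => rw [mul_inv_eq_one.mp c]; exact (one_mul _).symm
      · next c => rw [show C.zp 1 = C.z from rfl, ← (hk _ (hs _)).resolve_left c]; group
    rcases (C.κ_eq hj (hs _)).mp hs'.symm with a | a
    · conv_lhs => rw [a]
      rw [d]; exact congrArg _ a.symm
    · conv_lhs => rw [a]
      conv_rhs => arg 2; rw [a]
      rw [show h * (s (C.κ j) * C.z) * h⁻¹ = (h * s (C.κ j) * h⁻¹) * (h * C.z * h⁻¹) by group, d, hh.eq,
        mul_inv_cancel_right, mul_assoc]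
  have fl : ∀ v, f v < 2 := fun v => by simp only [f]; split <;> norm_num
  have fadd : ∀ u < 256, ∀ v < 256, f (u ^^^ v) = f u ^^^ f v := by
    intro u hu v hv
    obtain ⟨a, ha, rfl⟩ := C.κ_surj u hu
    obtain ⟨b, hb, rfl⟩ := C.κ_surj v hv
    have e1 := key _ (mul_mem ha hb)
    rw [show h * (a * b) * h⁻¹ = (h * a * h⁻¹) * (h * b * h⁻¹) by group, key a ha, key b hb, C.κ_mul a ha b hb] at e1
    rw [show C.zp (f (C.κ a)) * a * (C.zp (f (C.κ b)) * b) = C.zp (f (C.κ a)) * C.zp (f (C.κ b)) * (a * b) by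
      simp only [mul_assoc]; rw [← mul_assoc a, (C.zp_comm _ (C.Jz a ha)).eq, mul_assoc],
      mul_left_inj, ← C.zp_xor (fl _) (fl _)] at e1
    have l := Nat.xor_lt_two_pow (n := 1) (fl (C.κ a)) (fl (C.κ b))
    have := C.zp_xor (fl (C.κ a ^^^ C.κ b)) l
    rw [← e1, ← C.zp_xor l l, Nat.xor_self] at this
    have h0 := (C.zp_eq_one (Nat.xor_lt_two_pow (n := 1) (fl _) l)).mp (this.trans (by simp [zp]))
    exact ((xor_cancel_left (f (C.κ a ^^^ C.κ b)) _).symm.trans (by rw [h0, Nat.xor_zero])).symm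
  let b := f 1 + 2 * (f 2 + 2 * (f 4 + 2 * (f 8 + 2 * (f 16 + 2 * (f 32 + 2 * (f 64 + 2 * f 128))))))
  have hb : b < 256 := by
    have := fl 1; have := fl 2; have := fl 4; have := fl 8; have := fl 16; have := fl 32; have := fl 64; have := fl 128
    simp only [b]; omega
  obtain ⟨u, hu, hbit⟩ := polar_fun b hb
  obtain ⟨a, ha, rfl⟩ := C.κ_surj u hu
  have agree : ∀ i < 8, f (1 <<< i) = polar (C.κ a) (1 <<< i) := by
    intro i hi
    rw [hbit i hi, Nat.shiftRight_eq_div_pow, Nat.and_one_is_mod]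
    have := fl 1; have := fl 2; have := fl 4; have := fl 8; have := fl 16; have := fl 32; have := fl 64; have := fl 128
    simp only [b]
    interval_cases i <;> norm_num [Nat.shiftLeft_eq] <;> omega
  have all : ∀ v < 256, f v = polar (C.κ a) v := by
    intro v hv
    have := lin_ext (f := fun v => f (v % 256)) (f' := fun v => polar (C.κ a) (v % 256))
      (fun x y => by
        have ex : (x ^^^ y) % 256 = (x % 256) ^^^ (y % 256) := Nat.xor_mod_two_pow (n := 8)
        simp only [ex]; exact fadd _ (Nat.mod_lt _ (by norm_num)) _ (Nat.mod_lt _ (by norm_num)))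
      (fun x y => by
        have ex : (x ^^^ y) % 256 = (x % 256) ^^^ (y % 256) := Nat.xor_mod_two_pow (n := 8)
        simp only [ex]; exact polar_add _ _ _)
      (fun i hi => by simp only [Nat.mod_eq_of_lt (byte_one_lt i hi)]; exact agree i hi) v hv
    simpa [Nat.mod_eq_of_lt hv] using this
  have hah : Commute (a⁻¹ * h) C.z := (C.Jz a ha).inv_left.mul_left hh
  have := C.cent _ hah fun j hj => by
    show a⁻¹ * h * j = j * (a⁻¹ * h)
    rw [mul_assoc, show h * j = h * j * h⁻¹ * h by group, key j hj, all _ (C.κ_lt j hj)]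
    have e1 := C.swap ha hj
    calc a⁻¹ * (C.zp (polar (C.κ a) (C.κ j)) * j * h) = a⁻¹ * (C.zp (polar (C.κ a) (C.κ j)) * (j * a)) * a⁻¹ * h := by group
      _ = _ := by rw [← e1]; group
  simpa using mul_mem ha this

/-- The centraliser. -/
def H : Subgroup G := Subgroup.centralizer {C.z}

theorem mem_H {h : G} : h ∈ C.H ↔ Commute h C.z := by
  show h ∈ Subgroup.centralizer {C.z} ↔ _
  rw [Subgroup.mem_centralizer_singleton_iff]
  exact Iff.rfl

theorem J_le_H : C.J ≤ C.H := fun _ hj => C.mem_H.mpr (C.Jz _ hj)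

theorem ρ_eq_iff {g h : G} (hg : Commute g C.z) (hh : Commute h C.z) : C.ρ g = C.ρ h ↔ g⁻¹ * h ∈ C.J := by
  rw [← C.ρ_ker (hg.inv_left.mul_left hh), C.ρ_mul hg.inv_left hh]
  constructor
  · intro e; rw [← e, C.ρ_inv_left hg]
  · intro e
    have := congrArg (comp (C.ρ g)) e
    rw [← comp_assoc, ← C.ρ_mul hg hg.inv_left, mul_inv_cancel, C.ρ_one, (C.ρ_mem g hg).form] at this
    rw [← this, ← (C.ρ_mem h hh).form, one_comp]

theorem card_H [Finite G] : Nat.card C.H = 25920 * 512 := by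
  let f : ↥C.H → {g : ℕ // InU g} := fun h => ⟨C.ρ h, C.ρ_mem _ (C.mem_H.mp h.2)⟩
  have hq : ∀ a b : ↥C.H, (QuotientGroup.leftRel (C.J.subgroupOf C.H)).r a b ↔ f a = f b := fun a b => by
    rw [QuotientGroup.leftRel_apply, Subgroup.mem_subgroupOf, Subtype.ext_iff,
      C.ρ_eq_iff (C.mem_H.mp a.2) (C.mem_H.mp b.2)]
    rfl
  let e : ↥C.H ⧸ C.J.subgroupOf C.H → {g : ℕ // InU g} := Quotient.lift f fun a b h => (hq a b).mp h
  have hb : Function.Bijective e := by
    refine ⟨fun x y => Quotient.inductionOn₂ x y fun a b h => Quotient.sound ((hq a b).mpr h), fun g => ?_⟩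
    obtain ⟨h, hh, e'⟩ := C.ρ_surj g.1 g.2
    exact ⟨QuotientGroup.mk ⟨h, C.mem_H.mpr hh⟩, Subtype.ext e'⟩
  rw [Subgroup.card_eq_card_quotient_mul_card_subgroup (C.J.subgroupOf C.H), Nat.card_eq_of_bijective _ hb, card_inU,
    Nat.card_congr (Subgroup.subgroupOfEquivOfLe C.J_le_H).toEquiv, C.Jcard]

end Core

end CfsgLib.U6Rec
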