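/-
The centraliser of the preimage of a line: order two to the nine, and the squares of its elements.
-/
import Cfsg.Agent.Lib.U6Rec.Core
import Mathlib.GroupTheory.Perm.Cycle.Type

set_option autoImplicit false

namespace CfsgLib.U6Rec

theorem line_perp : ∀ v < 256, polar v 1 = 0 → polar v 2 = 0 → polar v 4 = 0 → polar v 8 = 0 → v < 16 := by decide +kernel

theorem line_polar : ∀ u < 16, ∀ v < 16, polar u v = 0 ∧ qf u = 0 := by decide +kernel

theorem par_line : (List.range 960).all (fun k => (List.range 16).all fun v => Nat.ble (app (par k) v) 15) = true := by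
  decide +kernel

theorem bits16 : ∀ v < 16, v = pick one v 0 ^^^ pick one v 1 ^^^ pick one v 2 ^^^ pick one v 3 ∧
    pick one v 0 ∈ [0, 1] ∧ pick one v 1 ∈ [0, 2] ∧ pick one v 2 ∈ [0, 4] ∧ pick one v 3 ∈ [0, 8] := by decide +kernel

/-- The two complements modulo the line inside the perp of a point. -/
def compU (n : ℕ) : ℕ × ℕ :=
  bif Nat.beq n 1 then (64, 128) else bif Nat.beq n 2 then (16, 32) else bif Nat.beq n 4 then (80, 160)
  else bif Nat.beq n 8 then (96, 176) else (112, 144)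

theorem comp_perp : ∀ n ∈ [1, 2, 4, 8, 15], rPt n ≠ 0 ∧ herm (compU n).1 (rPt n) = 0 ∧ herm (compU n).2 (rPt n) = 0 ∧
    ((List.range 256).all fun v => !Nat.beq (herm v (rPt n)) 0 ||
      [0, (compU n).1, (compU n).2, (compU n).1 ^^^ (compU n).2].any fun u => Nat.ble (v ^^^ u) 15) = true ∧
    (∀ x < 2, ∀ y < 2, ∃ w < 16, polar w (compU n).1 = x ∧ polar w (compU n).2 = y) := by decide +kernel

theorem five_or_ten : ∀ n < 16, n = 0 ∨ n ∈ [1, 2, 4, 8, 15] ∨ (n ∈ [3, 5, 6, 7, 9, 10, 11, 12, 13, 14] ∧ rPt n = 0) := by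
  decide +kernel

theorem rOf_inj {n m : ℕ} (hn : n < 16) (hm : m < 16) (e : rOf n = rOf m) : n = m := by
  simp only [rOf, List.getD_eq_getElem?_getD, List.getElem?_eq_getElem (show n < rL.length by rw [r_inj.2.1]; omega),
    List.getElem?_eq_getElem (show m < rL.length by rw [r_inj.2.1]; omega), Option.getD_some] at e
  exact r_inj.1.getElem_inj_iff.mp e

theorem Unit4.tv_comm {g p : ℕ} (hg : Unit4 g) (hp : p < 256) :
    U6Rec.comp g (tv p) = U6Rec.comp (tv (app g p)) g :=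
  comp_ext fun v hv => by rw [app_comp, app_comp, hg.tv_app hp hv]

namespace Core

variable {G : Type*} [Group G] (C : Core G)

/-- The preimage of the line. -/
def Wt : Subgroup G where
  carrier := {j | j ∈ C.J ∧ C.κ j < 16}
  one_mem' := ⟨one_mem _, by rw [C.κ_one]; norm_num⟩
  mul_mem' {a b} ha hb := ⟨mul_mem ha.1 hb.1, by rw [C.κ_mul a ha.1 b hb.1]; exact Nat.xor_lt_two_pow (n := 4) ha.2 hb.2⟩
  inv_mem' {a} ha := ⟨inv_mem ha.1, by rw [C.κ_inv ha.1]; exact ha.2⟩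

/-- The centraliser of the preimage of the line. -/
def A : Subgroup G := Subgroup.centralizer (C.Wt : Set G)

theorem mem_A {a : G} : a ∈ C.A ↔ ∀ j ∈ C.J, C.κ j < 16 → Commute a j := by
  simp only [A, Subgroup.mem_centralizer_iff]
  exact ⟨fun h j hj hk => (h j ⟨hj, hk⟩).symm, fun h j hj => (h j hj.1 hj.2).symm⟩

theorem z_Wt : C.z ∈ C.Wt := ⟨C.zJ, by rw [C.κ_z]; norm_num⟩

theorem A_comm {a : G} (ha : a ∈ C.A) : Commute a C.z := C.mem_A.mp ha _ C.zJ C.z_Wt.2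

theorem A_le_H : C.A ≤ C.H := fun _ ha => C.mem_H.mpr (C.A_comm ha)

theorem Wt_le_A : C.Wt ≤ C.A := fun a ha =>
  C.mem_A.mpr fun j hj hk => (C.comm_iff ha.1 hj).mpr (line_polar _ ha.2 _ hk).1

theorem Wt_sq {w : G} (hw : w ∈ C.Wt) : w * w = 1 := by
  rw [C.sq' hw.1, (line_polar _ hw.2 _ hw.2).2]; rfl

theorem mem_Wt {j : G} (hj : j ∈ C.J) (hA : j ∈ C.A) : j ∈ C.Wt := by
  refine ⟨hj, line_perp _ (C.κ_lt j hj) ?_ ?_ ?_ ?_⟩
  all_goals
    first
    | (obtain ⟨w, hw, e⟩ := C.κ_surj 1 (by norm_num)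
       have := (C.comm_iff hj hw).mp (C.mem_A.mp hA w hw (by omega)); rwa [e] at this)
    | (obtain ⟨w, hw, e⟩ := C.κ_surj 2 (by norm_num)
       have := (C.comm_iff hj hw).mp (C.mem_A.mp hA w hw (by omega)); rwa [e] at this)
    | (obtain ⟨w, hw, e⟩ := C.κ_surj 4 (by norm_num)
       have := (C.comm_iff hj hw).mp (C.mem_A.mp hA w hw (by omega)); rwa [e] at this)
    | (obtain ⟨w, hw, e⟩ := C.κ_surj 8 (by norm_num)
       have := (C.comm_iff hj hw).mp (C.mem_A.mp hA w hw (by omega)); rwa [e] at this)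

theorem ρ_A {a : G} (ha : a ∈ C.A) : ∃ n < 16, C.ρ a = rOf n := by
  have hz := C.A_comm ha
  have fix : ∀ v < 16, app (C.ρ a) v = v := fun v hv => by
    obtain ⟨j, hj, rfl⟩ := C.κ_surj v (by omega)
    rw [← C.κ_conj a hz j hj, (C.mem_A.mp ha j hj hv).eq, mul_inv_cancel_right]
  exact point_line (C.ρ_mem _ hz) (fix 1 (by norm_num)) (fix 4 (by norm_num))

/-- Values of the commutator with a line vector. -/
theorem comm_line_ext {h : G} (hz : Commute h C.z) (hb : ∀ i < 4, ∃ j ∈ C.J, C.κ j = 1 <<< i ∧ Commute h j) :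
    h ∈ C.A := by
  refine C.mem_A.mpr fun j hj hk => ?_
  have mem : ∀ i, i < 4 → ∀ v ∈ [0, 1 <<< i], ∃ j ∈ C.J, C.κ j = v ∧ Commute h j := by
    intro i hi v hv
    rcases List.mem_cons.mp hv with rfl | hv
    · exact ⟨1, one_mem _, C.κ_one, Commute.one_right h⟩
    · rw [List.mem_singleton.mp hv]; exact hb i hi
  obtain ⟨e, m0, m1, m2, m3⟩ := bits16 _ hk
  obtain ⟨j0, a0, k0, c0⟩ := mem 0 (by norm_num) _ m0
  obtain ⟨j1, a1, k1, c1⟩ := mem 1 (by norm_num) _ m1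
  obtain ⟨j2, a2, k2, c2⟩ := mem 2 (by norm_num) _ m2
  obtain ⟨j3, a3, k3, c3⟩ := mem 3 (by norm_num) _ m3
  have hm := mul_mem (mul_mem (mul_mem a0 a1) a2) a3
  have : C.κ j = C.κ (j0 * j1 * j2 * j3) := by
    rw [C.κ_mul _ (mul_mem (mul_mem a0 a1) a2) _ a3, C.κ_mul _ (mul_mem a0 a1) _ a2, C.κ_mul _ a0 _ a1, k0, k1, k2, k3, ← e]
  rcases (C.κ_eq hj hm).mp this with r | r <;> rw [r]
  · exact ((c0.mul_right c1).mul_right c2).mul_right c3
  · exact (((c0.mul_right c1).mul_right c2).mul_right c3).mul_right hz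

theorem lift_A {n : ℕ} (hn : n < 16) : ∃ a ∈ C.A, C.ρ a = rOf n := by
  classical
  obtain ⟨h, hz, e⟩ := C.ρ_surj _ (inU_r hn)
  choose s hs hκs using fun v => C.κ_surj (v % 256) (Nat.mod_lt _ (by norm_num))
  let f : ℕ → ℕ := fun i => if h * s (1 <<< i) * h⁻¹ * (s (1 <<< i))⁻¹ = 1 then 0 else 1
  have fl : ∀ i, f i < 2 := fun i => by simp only [f]; split <;> norm_num
  let b := f 0 + 2 * (f 1 + 2 * (f 2 + 2 * f 3))
  have hb : b < 256 := by
    have := fl 0; have := fl 1; have := fl 2; have := fl 3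
    simp only [b]; omega
  obtain ⟨u, hu, hbit⟩ := polar_fun b hb
  obtain ⟨a, ha, rfl⟩ := C.κ_surj u hu
  have hz' : Commute (a⁻¹ * h) C.z := (C.Jz a ha).inv_left.mul_left hz
  refine ⟨a⁻¹ * h, C.comm_line_ext hz' fun i hi => ⟨s (1 <<< i), hs _, ?_, ?_⟩, ?_⟩
  · rw [hκs, Nat.mod_eq_of_lt (byte_one_lt i (by omega))]
  · have hκ : C.κ (s (1 <<< i)) = 1 <<< i := by rw [hκs, Nat.mod_eq_of_lt (byte_one_lt i (by omega))]
    have lt16 : 1 <<< i < 16 := by interval_cases i <;> decide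
    have hc : h * s (1 <<< i) * h⁻¹ * (s (1 <<< i))⁻¹ = 1 ∨ h * s (1 <<< i) * h⁻¹ * (s (1 <<< i))⁻¹ = C.z := by
      refine (C.κ_ker _ (mul_mem (C.conjJ h hz _ (hs _)) (inv_mem (hs _)))).mp ?_
      rw [C.κ_mul _ (C.conjJ h hz _ (hs _)) _ (inv_mem (hs _)), C.κ_inv (hs _), C.κ_conj h hz _ (hs _), hκ, e,
        r_fix n hn _ lt16, Nat.xor_self]
    have d : h * s (1 <<< i) * h⁻¹ = C.zp (f i) * s (1 <<< i) := by
      simp only [f]
      split
      · next c => rw [mul_inv_eq_one.mp c]; exact (one_mul _).symm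
      · next c => rw [show C.zp 1 = C.z from rfl, ← hc.resolve_left c]; group
    have hp : polar (C.κ a) (1 <<< i) = f i := by
      rw [hbit i (by omega), Nat.shiftRight_eq_div_pow, Nat.and_one_is_mod]
      have := fl 0; have := fl 1; have := fl 2; have := fl 3
      simp only [b]
      interval_cases i <;> norm_num <;> omega
    show a⁻¹ * h * s (1 <<< i) = s (1 <<< i) * (a⁻¹ * h)
    have sw := C.swap ha (hs (1 <<< i))
    rw [hκ, hp] at sw
    calc a⁻¹ * h * s (1 <<< i) = a⁻¹ * (h * s (1 <<< i) * h⁻¹) * h := by group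
      _ = a⁻¹ * (C.zp (f i) * (s (1 <<< i) * a)) * a⁻¹ * h := by rw [d]; group
      _ = _ := by rw [← sw]; group
  · rw [C.ρ_mul (C.Jz a ha).inv_left hz, e, C.ρ_J (inv_mem ha), ← (inU_r hn).form, one_comp]

theorem A_conj {p a : G} (hp : Commute p C.z) (hw : ∀ v < 16, app (C.ρ p) v < 16) (ha : a ∈ C.A) : p * a * p⁻¹ ∈ C.A := by
  refine C.mem_A.mpr fun j hj hk => ?_
  have hmem : C.κ (p⁻¹ * j * p) < 16 := by
    have hi : C.κ (p⁻¹ * j * p) < 256 := C.κ_lt _ (by simpa using C.conjJ _ hp.inv_left j hj)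
    have e := C.κ_conj p hp (p⁻¹ * j * p) (by simpa using C.conjJ _ hp.inv_left j hj)
    rw [show p * (p⁻¹ * j * p) * p⁻¹ = j by group] at e
    have u := (C.ρ_mem p hp).unit
    have inj : Function.Injective (fun v : Fin 16 => (⟨app (C.ρ p) v, hw v v.2⟩ : Fin 16)) := fun x y h =>
      Fin.ext (u.inj (by omega) (by omega) (congrArg Fin.val h))
    obtain ⟨w, hw'⟩ := Finite.injective_iff_surjective.mp inj ⟨C.κ j, hk⟩
    rw [← u.inj (show (w : ℕ) < 256 by omega) hi (by rw [← e]; exact congrArg Fin.val hw')]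
    exact w.2
  have c := C.mem_A.mp ha (p⁻¹ * j * p) (by simpa using C.conjJ _ hp.inv_left j hj) hmem
  show p * a * p⁻¹ * j = j * (p * a * p⁻¹)
  calc p * a * p⁻¹ * j = p * (a * (p⁻¹ * j * p)) * p⁻¹ := by group
    _ = _ := by rw [c.eq]; group

theorem par_A {p a : G} (hp : Commute p C.z) {k : ℕ} (hk : k < 960) (e : C.ρ p = par k) (ha : a ∈ C.A) :
    p * a * p⁻¹ ∈ C.A := C.A_conj hp (fun v hv => by
  have := Nat.le_of_ble_eq_true (List.all_eq_true.mp (List.all_eq_true.mp par_line k (List.mem_range.mpr hk)) v (List.mem_range.mpr hv))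
  rw [e]; omega) ha

theorem same_image {a b : G} (ha : a ∈ C.A) (hb : b ∈ C.A) (e : C.ρ a = C.ρ b) : ∃ w ∈ C.Wt, b = a * w :=
  ⟨a⁻¹ * b, C.mem_Wt ((C.ρ_eq_iff (C.A_comm ha) (C.A_comm hb)).mp e) (mul_mem (inv_mem ha) hb), by group⟩

theorem mul_Wt_sq {a w : G} (ha : a ∈ C.A) (hw : w ∈ C.Wt) : (a * w) * (a * w) = a * a := by
  have c : Commute a w := C.mem_A.mp ha w hw.1 hw.2
  rw [mul_assoc, ← mul_assoc w a, ← c.eq, mul_assoc a w w, C.Wt_sq hw, mul_one]

/-- Squares in the centraliser of the line are powers of the involution. -/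
theorem A_sq {a : G} (ha : a ∈ C.A) : a * a = 1 ∨ a * a = C.z := by
  obtain ⟨n, hn, e⟩ := C.ρ_A ha
  have hz := C.A_comm ha
  have hJ : a * a ∈ C.J := by
    rw [← C.ρ_ker (hz.mul_left hz), C.ρ_mul hz hz, e, r_hom n hn n hn, Nat.xor_self, r_inj.2.2]
  by_cases hn0 : n = 0
  · subst hn0
    exact Or.inl (C.Wt_sq (C.mem_Wt ((C.ρ_ker hz).mp (by rw [e, r_inj.2.2])) ha))
  refine (C.κ_ker _ hJ).mp ?_
  have hv : C.κ (a * a) < 16 := (C.mem_Wt hJ (mul_mem ha ha)).2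
  obtain ⟨hc, hfix⟩ := kill n hn hn0
  have hz0 := List.all_eq_true.mp hfix _ (List.mem_range.mpr hv)
  rw [Bool.or_eq_true] at hz0
  rcases hz0 with t | t
  · rw [Bool.not_eq_true', ← Bool.not_eq_true, List.all_eq_true] at t
    refine absurd (fun k hk => ?_) t
    have hkc := List.all_eq_true.mp hc k hk
    rw [Bool.and_eq_true, decide_eq_true_eq, Nat.beq_eq] at hkc
    obtain ⟨p, hp, ep⟩ := C.ρ_surj _ (inU_par hkc.1)
    have hpa := C.par_A hp hkc.1 ep ha
    obtain ⟨w, hw, ew⟩ := C.same_image ha hpa (by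
      rw [C.ρ_mul (hp.mul_left hz) hp.inv_left, C.ρ_mul hp hz, ep, e, hkc.2, comp_assoc, ← ep, ← C.ρ_mul hp hp.inv_left,
        mul_inv_cancel, C.ρ_one, r_form])
    have := C.κ_conj p hp _ hJ
    rw [show p * (a * a) * p⁻¹ = (p * a * p⁻¹) * (p * a * p⁻¹) by group, ew, C.mul_Wt_sq ha hw, ep] at this
    exact Nat.beq_eq.mpr this.symm
  · exact Nat.eq_of_beq_eq_true t

end Core

end CfsgLib.U6Rec
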