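/-
Squares on the centraliser of the line, canonical lifts of transvections, and the involutions.
-/
import Cfsg.Agent.Lib.U6Rec.Line

set_option autoImplicit false

namespace CfsgLib.U6Rec

/-- A two-valued candidate for the squares. -/
def sigma (x y n : ℕ) : ℕ := bif Nat.beq n 0 then 0 else bif ([1, 2, 4, 8, 15] : List ℕ).elem n then x else y

theorem sigma_options : ∀ x < 2, ∀ y < 2, ((List.range 16).all fun a => (List.range 16).all fun b => (List.range 16).all fun c =>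
    Nat.beq (sigma x y (a ^^^ (b ^^^ c)) ^^^ sigma x y a ^^^ sigma x y (b ^^^ c))
      ((sigma x y (a ^^^ b) ^^^ sigma x y a ^^^ sigma x y b) ^^^ (sigma x y (a ^^^ c) ^^^ sigma x y a ^^^ sigma x y c))) = true →
    x = 0 := by decide +kernel

theorem five_index : ∀ n ∈ [1, 2, 4, 8, 15], ∃ i < 5, rPt n = [1, 4, 5, 6, 7].getD i 0 := by decide +kernel

theorem ten_index : ∀ n ∈ [3, 5, 6, 7, 9, 10, 11, 12, 13, 14],
    ∃ i < 10, n = [3, 5, 6, 7, 9, 10, 11, 12, 13, 14].getD i 0 := by decide +kernel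

theorem rPt_sing : ∀ n < 16, rPt n ≠ 0 → rPt n < 16 ∧ qf (rPt n) = 0 := by decide +kernel

theorem sing_one : Sing 1 := ⟨by norm_num, by norm_num, by decide⟩

namespace Core

variable {G : Type*} [Group G] (C : Core G)

open Classical in
/-- The square bit. -/
noncomputable def sg (n : ℕ) : ℕ := if ∃ a ∈ C.A, C.ρ a = rOf n ∧ a * a = 1 then 0 else 1

theorem sg_lt (n : ℕ) : C.sg n < 2 := by unfold sg; split <;> norm_num

theorem sg_spec {a : G} {n : ℕ} (ha : a ∈ C.A) (e : C.ρ a = rOf n) : a * a = C.zp (C.sg n) := by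
  unfold sg
  split
  · next h =>
    obtain ⟨b, hb, eb, b2⟩ := h
    obtain ⟨w, hw, rfl⟩ := C.same_image hb ha (eb.trans e.symm)
    rw [C.mul_Wt_sq hb hw, b2]; rfl
  · next h => exact (C.A_sq ha).resolve_left fun a2 => h ⟨a, ha, e, a2⟩

theorem zp_inj {a b : ℕ} (ha : a < 2) (hb : b < 2) (e : C.zp a = C.zp b) : a = b := by
  interval_cases a <;> interval_cases b <;> simp [zp, C.z_ne, C.z_ne.symm] at e ⊢

/-- The commutator bit. -/
noncomputable def tb (n m : ℕ) : ℕ := C.sg (n ^^^ m) ^^^ C.sg n ^^^ C.sg m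

theorem tb_lt (n m : ℕ) : C.tb n m < 2 :=
  Nat.xor_lt_two_pow (n := 1) (Nat.xor_lt_two_pow (n := 1) (C.sg_lt _) (C.sg_lt _)) (C.sg_lt _)

theorem zp_sq (n : ℕ) : C.zp n * C.zp n = 1 := by unfold zp; split <;> simp [C.zz]

theorem A_mul_ρ {a b : G} {n m : ℕ} (ha : a ∈ C.A) (hb : b ∈ C.A) (hn : n < 16) (hm : m < 16) (ea : C.ρ a = rOf n)
    (eb : C.ρ b = rOf m) : C.ρ (a * b) = rOf (n ^^^ m) := by
  rw [C.ρ_mul (C.A_comm ha) (C.A_comm hb), ea, eb, r_hom n hn m hm]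

theorem A_swap {a b : G} {n m : ℕ} (ha : a ∈ C.A) (hb : b ∈ C.A) (hn : n < 16) (hm : m < 16) (ea : C.ρ a = rOf n)
    (eb : C.ρ b = rOf m) : b * a = C.zp (C.tb n m) * (a * b) := by
  have e1 := C.sg_spec ha ea
  have e2 := C.sg_spec hb eb
  have e3 := C.sg_spec (mul_mem ha hb) (C.A_mul_ρ ha hb hn hm ea eb)
  have hca := C.zp_comm (C.sg n) (C.A_comm ha)
  have hcb := C.zp_comm (C.sg m) (C.A_comm hb)
  have hcb' := C.zp_comm (C.sg n) (C.A_comm hb)
  have h1 : a⁻¹ = C.zp (C.sg n) * a := inv_eq_of_mul_eq_one_right (by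
    rw [← mul_assoc, hca.eq, mul_assoc, e1, C.zp_sq])
  have h2 : b⁻¹ = C.zp (C.sg m) * b := inv_eq_of_mul_eq_one_right (by
    rw [← mul_assoc, hcb.eq, mul_assoc, e2, C.zp_sq])
  calc b * a = a⁻¹ * ((a * b) * (a * b)) * b⁻¹ := by group
    _ = C.zp (C.sg n) * a * C.zp (C.sg (n ^^^ m)) * (C.zp (C.sg m) * b) := by rw [e3, h1, h2]
    _ = C.zp (C.sg n) * C.zp (C.sg (n ^^^ m)) * C.zp (C.sg m) * (a * b) := by
      simp only [mul_assoc]
      rw [← mul_assoc a (C.zp (C.sg (n ^^^ m))), (C.zp_comm _ (C.A_comm ha)).eq, mul_assoc, ← mul_assoc a (C.zp (C.sg m)),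
        (C.zp_comm _ (C.A_comm ha)).eq, mul_assoc]
    _ = _ := by
      have := C.sg_lt n; have := C.sg_lt m; have := C.sg_lt (n ^^^ m)
      rw [← C.zp_xor ‹_› ‹_›, ← C.zp_xor (Nat.xor_lt_two_pow (n := 1) ‹_› ‹_›) ‹_›, tb, Nat.xor_comm (C.sg n)]

theorem tb_add {n m k : ℕ} (hn : n < 16) (hm : m < 16) (hk : k < 16) : C.tb n (m ^^^ k) = C.tb n m ^^^ C.tb n k := by
  obtain ⟨a, ha, ea⟩ := C.lift_A hn
  obtain ⟨b, hb, eb⟩ := C.lift_A hm
  obtain ⟨c, hc, ec⟩ := C.lift_A hk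
  have e1 := C.A_swap ha (mul_mem hb hc) hn (Nat.xor_lt_two_pow (n := 4) hm hk) ea (C.A_mul_ρ hb hc hm hk eb ec)
  have e2 := C.A_swap ha hb hn hm ea eb
  have e3 := C.A_swap ha hc hn hk ea ec
  refine C.zp_inj (C.tb_lt _ _) (Nat.xor_lt_two_pow (n := 1) (C.tb_lt _ _) (C.tb_lt _ _)) ?_
  rw [C.zp_xor (C.tb_lt _ _) (C.tb_lt _ _)]
  refine mul_right_cancel (b := a * (b * c)) ?_
  rw [← e1]
  calc b * c * a = b * (c * a) := mul_assoc _ _ _
    _ = C.zp (C.tb n k) * (b * a) * c := by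
      rw [e3, ← mul_assoc, ((C.zp_comm _ (C.A_comm hb))).eq]; group
    _ = _ := by rw [e2, (C.zp_comm (C.tb n k) (C.Jz _ (C.zp_mem (C.tb n m)))).eq]; group

theorem sg_inv {k n m : ℕ} (hk : k < 960) (hn : n < 16) (e : comp (par k) (rOf n) = comp (rOf m) (par k)) :
    C.sg n = C.sg m := by
  obtain ⟨a, ha, ea⟩ := C.lift_A hn
  obtain ⟨p, hp, ep⟩ := C.ρ_surj _ (inU_par hk)
  have hz := C.A_comm ha
  have e' : C.ρ (p * a * p⁻¹) = rOf m := by
    rw [C.ρ_mul (hp.mul_left hz) hp.inv_left, C.ρ_mul hp hz, ep, ea, e, comp_assoc, ← ep, ← C.ρ_mul hp hp.inv_left,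
      mul_inv_cancel, C.ρ_one, r_form]
  have h := C.sg_spec (C.par_A hp hk ep ha) e'
  rw [show (p * a * p⁻¹) * (p * a * p⁻¹) = p * (a * a) * p⁻¹ by group, C.sg_spec ha ea, (C.zp_comm _ hp).eq,
    mul_inv_cancel_right] at h
  exact C.zp_inj (C.sg_lt _) (C.sg_lt _) h

theorem sg_five {n : ℕ} (hn : n ∈ [1, 2, 4, 8, 15]) : C.sg n = C.sg 1 := by
  have h16 : n < 16 := (show ∀ n ∈ [1, 2, 4, 8, 15], n < 16 by decide) n hn
  have hp := (comp_perp n hn).1
  obtain ⟨i, hi, ei⟩ := five_index n hn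
  have h := List.all_eq_true.mp to_five i (List.mem_range.mpr hi)
  rw [Bool.and_eq_true, decide_eq_true_eq, Nat.beq_eq] at h
  have hk : toFive.getD i 0 < 960 := by
    have l : toFive.length = 5 := by decide +kernel
    have := h.1
    simp only [List.getD_eq_getElem?_getD, List.getElem?_eq_getElem (show i < toFive.length by omega), Option.getD_some] at this ⊢
    exact this
  refine (C.sg_inv hk (by norm_num) ?_).symm
  rw [(r_point 1 (by norm_num) (by decide)).1, show rPt 1 = 1 from rfl, (inU_par hk).unit.tv_comm (by norm_num), h.2, ← ei,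
    (r_point n h16 hp).1]

theorem sg_ten {n : ℕ} (hn : n ∈ [3, 5, 6, 7, 9, 10, 11, 12, 13, 14]) : C.sg n = C.sg 3 := by
  obtain ⟨i, hi, ei⟩ := ten_index n hn
  have h := List.all_eq_true.mp to_ten i (List.mem_range.mpr hi)
  rw [Bool.and_eq_true, decide_eq_true_eq, Nat.beq_eq, ← ei] at h
  have hk : toTen.getD i 0 < 960 := by
    have l : toTen.length = 10 := by decide +kernel
    have := h.1
    simp only [List.getD_eq_getElem?_getD, List.getElem?_eq_getElem (show i < toTen.length by omega), Option.getD_some] at this ⊢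
    exact this
  exact (C.sg_inv hk (by norm_num) h.2).symm

theorem sg_zero : C.sg 0 = 0 := by
  refine C.zp_inj (C.sg_lt 0) (by norm_num) ?_
  rw [← C.sg_spec (one_mem C.A) (by rw [C.ρ_one, r_inj.2.2]), mul_one]; rfl

theorem sg_eq {n : ℕ} (hn : n < 16) : C.sg n = sigma (C.sg 1) (C.sg 3) n := by
  rcases five_or_ten n hn with rfl | h | ⟨h, -⟩
  · rw [C.sg_zero]; rfl
  · rw [C.sg_five h]; fin_cases h <;> rfl
  · rw [C.sg_ten h]; fin_cases h <;> rfl

/-- Lifts of transvections are involutions. -/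
theorem sg_one : C.sg 1 = 0 := by
  refine sigma_options _ (C.sg_lt 1) _ (C.sg_lt 3) ?_
  simp only [List.all_eq_true, List.mem_range, Nat.beq_eq]
  intro a ha b hb c hc
  have hbc : b ^^^ c < 16 := Nat.xor_lt_two_pow (n := 4) hb hc
  rw [← C.sg_eq (Nat.xor_lt_two_pow (n := 4) ha hbc), ← C.sg_eq ha, ← C.sg_eq hbc,
    ← C.sg_eq (Nat.xor_lt_two_pow (n := 4) ha hb), ← C.sg_eq hb, ← C.sg_eq (Nat.xor_lt_two_pow (n := 4) ha hc), ← C.sg_eq hc]
  exact C.tb_add ha hb hc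

theorem five_sq {a : G} {n : ℕ} (hn : n ∈ [1, 2, 4, 8, 15]) (ha : a ∈ C.A) (e : C.ρ a = rOf n) : a * a = 1 := by
  rw [C.sg_spec ha e, C.sg_five hn, C.sg_one]; rfl

/-- A type-two involution makes the centraliser of the line elementary. -/
theorem sq_of_ten (h : C.sg 3 = 0) {a : G} (ha : a ∈ C.A) : a * a = 1 := by
  obtain ⟨n, hn, e⟩ := C.ρ_A ha
  rw [C.sg_spec ha e, C.sg_eq hn, C.sg_one, h]
  unfold sigma
  cases Nat.beq n 0 <;> cases ([1, 2, 4, 8, 15] : List ℕ).elem n <;> rfl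

/-- The preimage of the perp of a point. -/
def Kr (p : ℕ) : Subgroup G where
  carrier := {j | j ∈ C.J ∧ herm (C.κ j) p = 0}
  one_mem' := ⟨one_mem _, by rw [C.κ_one]; exact (herm_zero p).2⟩
  mul_mem' {a b} ha hb := ⟨mul_mem ha.1 hb.1, by rw [C.κ_mul a ha.1 b hb.1, herm_add_left, ha.2, hb.2]; rfl⟩
  inv_mem' {a} ha := ⟨inv_mem ha.1, by rw [C.κ_inv ha.1]; exact ha.2⟩

/-- The canonical lift of a transvection in the line. -/
theorem canon {n : ℕ} (hn : n ∈ [1, 2, 4, 8, 15]) :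
    ∃ a ∈ C.A, C.ρ a = rOf n ∧ ∀ j ∈ C.Kr (rPt n), Commute a j := by
  have h16 : n < 16 := (show ∀ n ∈ [1, 2, 4, 8, 15], n < 16 by decide) n hn
  obtain ⟨hp, h1, h2, hspan, hw⟩ := comp_perp n hn
  obtain ⟨er, hp16⟩ := r_point n h16 hp
  obtain ⟨a, ha, ea⟩ := C.lift_A h16
  have hz := C.A_comm ha
  have lu : (compU n).1 < 256 ∧ (compU n).2 < 256 :=
    (show ∀ n ∈ [1, 2, 4, 8, 15], (compU n).1 < 256 ∧ (compU n).2 < 256 by decide +kernel) n hn
  have bit : ∀ j ∈ C.Kr (rPt n), ∃ x < 2, a * j * a⁻¹ = C.zp x * j := by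
    intro j hj
    have e : C.κ (a * j * a⁻¹) = C.κ j := by
      rw [C.κ_conj a hz j hj.1, ea, er, (tv_fix (by omega) hp (C.κ_lt j hj.1)).mpr hj.2]
    rcases (C.κ_eq (C.conjJ a hz j hj.1) hj.1).mp e with r | r
    · exact ⟨0, by norm_num, by rw [r]; exact (one_mul j).symm⟩
    · exact ⟨1, by norm_num, by rw [r]; exact (C.Jz j hj.1).eq⟩
  obtain ⟨j1, hj1, k1⟩ := C.κ_surj _ lu.1
  obtain ⟨j2, hj2, k2⟩ := C.κ_surj _ lu.2
  obtain ⟨x, hx, ex⟩ := bit j1 ⟨hj1, by rw [k1]; exact h1⟩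
  obtain ⟨y, hy, ey⟩ := bit j2 ⟨hj2, by rw [k2]; exact h2⟩
  obtain ⟨u, hu, hux, huy⟩ := hw x hx y hy
  obtain ⟨w, hwJ, rfl⟩ := C.κ_surj u (by omega)
  have hW : w ∈ C.Wt := ⟨hwJ, hu⟩
  have hc : Commute a w := C.mem_A.mp ha w hwJ hu
  refine ⟨w * a, mul_mem (C.Wt_le_A hW) ha, by rw [C.ρ_mul (C.Jz w hwJ) hz, C.ρ_J hwJ, ea, ← r_form n, one_comp], fun j hj => ?_⟩
  have fixes : ∀ {t : ℕ} {k : G}, k ∈ C.J → t < 2 → polar (C.κ w) (C.κ k) = t → a * k * a⁻¹ = C.zp t * k → Commute (w * a) k := by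
    intro t k hk ht hpol ek
    show w * a * k = k * (w * a)
    have s := C.swap hwJ hk
    rw [hpol] at s
    calc w * a * k = w * (a * k * a⁻¹) * a := by group
      _ = C.zp t * (w * k) * a := by rw [ek, ← mul_assoc w, (C.zp_comm t (C.Jz w hwJ)).eq, mul_assoc (C.zp t)]
      _ = _ := by rw [s, ← mul_assoc, C.zp_sq, one_mul, mul_assoc]
  have c1 : Commute (w * a) j1 := fixes hj1 hx (by rw [k1]; exact hux) ex
  have c2 : Commute (w * a) j2 := fixes hj2 hy (by rw [k2]; exact huy) ey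
  have cA := C.mem_A.mp (mul_mem (C.Wt_le_A hW) ha)
  have hs := List.all_eq_true.mp hspan (C.κ j) (List.mem_range.mpr (C.κ_lt j hj.1))
  rw [hj.2, Bool.or_eq_true] at hs
  rcases hs with t | t
  · simp at t
  obtain ⟨v, hv, e16⟩ := List.any_eq_true.mp t
  have e16' := Nat.le_of_ble_eq_true e16
  have split : ∀ k ∈ C.J, C.κ k = v → Commute (w * a) k → Commute (w * a) j := by
    intro k hk ek ck
    have := cA (j * k⁻¹) (mul_mem hj.1 (inv_mem hk)) (by rw [C.κ_mul _ hj.1 _ (inv_mem hk), C.κ_inv hk, ek]; omega)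
    simpa using this.mul_right ck
  simp only [List.mem_cons, List.not_mem_nil, or_false] at hv
  rcases hv with rfl | rfl | rfl | rfl
  · exact split 1 (one_mem _) C.κ_one (Commute.one_right _)
  · exact split j1 hj1 k1 c1
  · exact split j2 hj2 k2 c2
  · exact split (j1 * j2) (mul_mem hj1 hj2) (by rw [C.κ_mul _ hj1 _ hj2, k1, k2]) (c1.mul_right c2)

theorem sing_fixed [Finite G] {u : G} (hu : Commute u C.z) (h2 : u * u = 1) : ∃ v, Sing v ∧ app (C.ρ u) v = v := by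
  classical
  have hU := (C.ρ_mem u hu).unit
  have inv : ∀ v, v < 256 → app (C.ρ u) (app (C.ρ u) v) = v := fun v hv => by
    rw [← app_comp, ← C.ρ_mul hu hu, h2, C.ρ_one, app_one v hv]
  let σ : Equiv.Perm {v : ℕ // v ∈ singL.toFinset} :=
    { toFun := fun v => ⟨app (C.ρ u) v.1, List.mem_toFinset.mpr (sing_iff.mp ((sing_iff.mpr (List.mem_toFinset.mp v.2)).app hU))⟩
      invFun := fun v => ⟨app (C.ρ u) v.1, List.mem_toFinset.mpr (sing_iff.mp ((sing_iff.mpr (List.mem_toFinset.mp v.2)).app hU))⟩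
      left_inv := fun v => Subtype.ext (inv _ (sing_iff.mpr (List.mem_toFinset.mp v.2)).1)
      right_inv := fun v => Subtype.ext (inv _ (sing_iff.mpr (List.mem_toFinset.mp v.2)).1) }
  have hc : Fintype.card {v : ℕ // v ∈ singL.toFinset} = 135 := by
    rw [Fintype.card_coe, List.toFinset_card_of_nodup singL_nodup, pts_list.2.2]
  haveI : Fact (Nat.Prime 2) := ⟨Nat.prime_two⟩
  obtain ⟨v, hv⟩ := Equiv.Perm.exists_fixed_point_of_prime (σ := σ) (p := 2) (n := 1) (by rw [hc]; decide)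
    (Equiv.ext fun v => by
      rw [pow_one, pow_two]
      exact Subtype.ext (inv _ (sing_iff.mpr (List.mem_toFinset.mp v.2)).1))
  exact ⟨v.1, sing_iff.mpr (List.mem_toFinset.mp v.2), congrArg Subtype.val hv⟩

/-- Every involution of the centraliser is conjugate into the centraliser of the line. -/
theorem invol_conj [Finite G] {u : G} (hu : Commute u C.z) (h2 : u * u = 1) :
    ∃ h, Commute h C.z ∧ h * u * h⁻¹ ∈ C.A := by
  by_cases huJ : u ∈ C.J
  · by_cases h0 : C.κ u < 16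
    · exact ⟨1, Commute.one_left _, by simpa using C.Wt_le_A ⟨huJ, h0⟩⟩
    have hq : qf (C.κ u) = 0 := by
      have := C.sq' huJ
      rw [h2] at this
      exact (C.zp_eq_one (qf_lt _ (C.κ_lt u huJ))).mp this.symm
    obtain ⟨i, hi, ei⟩ := sing_rep ⟨C.κ_lt u huJ, by omega, hq⟩
    obtain ⟨h, hh, eh⟩ := C.ρ_surj _ (inU_rep hi)
    refine ⟨h⁻¹, hh.inv_left, C.Wt_le_A ⟨by simpa using C.conjJ _ hh.inv_left u huJ, ?_⟩⟩
    have hm : h⁻¹ * u * h⁻¹⁻¹ ∈ C.J := C.conjJ _ hh.inv_left u huJ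
    have e := C.κ_conj h hh _ hm
    rw [show h * (h⁻¹ * u * h⁻¹⁻¹) * h⁻¹ = u by group, eh, ← ei] at e
    rw [← (inU_rep hi).unit.inj (by norm_num) (C.κ_lt _ hm) e]
    norm_num
  obtain ⟨v, hv, ev⟩ := C.sing_fixed hu h2
  obtain ⟨i, hi, ei⟩ := sing_rep hv
  obtain ⟨h, hh, eh⟩ := C.ρ_surj _ (inU_rep hi)
  have hu1 : Commute (h⁻¹ * u * h) C.z := (hh.inv_left.mul_left hu).mul_left hh
  have f1 : app (C.ρ (h⁻¹ * u * h)) 1 = 1 := by
    have e2 : app (C.ρ h⁻¹) (app (C.ρ h) 1) = 1 := by rw [← app_comp, C.ρ_inv_left hh, app_one 1 (by norm_num)]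
    rw [eh, ei] at e2
    rw [C.ρ_mul (hh.inv_left.mul_left hu) hh, C.ρ_mul hh.inv_left hu, app_comp, app_comp, eh, ei, ev, e2]
  obtain ⟨j, hj, ej⟩ := stab_first (C.ρ_mem _ hu1) f1
  have t := List.all_eq_true.mp inv_conj j (List.mem_range.mpr hj)
  have hsq : comp (st j) (st j) = one := by
    rw [← ej, ← C.ρ_mul hu1 hu1, show h⁻¹ * u * h * (h⁻¹ * u * h) = h⁻¹ * (u * u) * h by group, h2, mul_one,
      inv_mul_cancel, C.ρ_one]
  have hne : st j ≠ one := by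
    rw [← ej]
    intro e
    have hm := C.conjJ h hh _ ((C.ρ_ker hu1).mp e)
    rw [show h * (h⁻¹ * u * h) * h⁻¹ = u by group] at hm
    exact huJ hm
  simp only [hsq, Bool.or_eq_true, Bool.and_eq_true, decide_eq_true_eq, Nat.beq_eq, Bool.not_eq_true', hne, or_false] at t
  rcases t with t | ⟨⟨hk, hn⟩, et⟩
  · simp at t
  obtain ⟨g, hg, eg⟩ := C.ρ_surj _ (inU_st hk)
  set n := (invW.getD j (0, 0)).2
  set u' := g * (h⁻¹ * u * h) * g⁻¹ with hu'
  have hu'z : Commute u' C.z := (hg.mul_left hu1).mul_left hg.inv_left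
  have eu' : C.ρ u' = rOf n := by
    rw [C.ρ_mul (hg.mul_left hu1) hg.inv_left, C.ρ_mul hg hu1, eg, ej, et, comp_assoc, ← eg, ← C.ρ_mul hg hg.inv_left,
      mul_inv_cancel, C.ρ_one, r_form]
  have u2 : u' * u' = 1 := by
    rw [hu', show g * (h⁻¹ * u * h) * g⁻¹ * (g * (h⁻¹ * u * h) * g⁻¹) = g * h⁻¹ * (u * u) * h * g⁻¹ by group, h2]; group
  suffices ∃ k, Commute k C.z ∧ k * u' * k⁻¹ ∈ C.A by
    obtain ⟨k, hk', hm⟩ := this
    refine ⟨k * g * h⁻¹, (hk'.mul_left hg).mul_left hh.inv_left, ?_⟩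
    rwa [show k * g * h⁻¹ * u * (k * g * h⁻¹)⁻¹ = k * u' * k⁻¹ by rw [hu']; group]
  rcases five_or_ten n hn with hn0 | hfive | ⟨hten, htp⟩
  · refine absurd ?_ huJ
    have hJ' : u' ∈ C.J := (C.ρ_ker hu'z).mp (by rw [eu', hn0, r_inj.2.2])
    have := C.conjJ _ (hh.mul_left hg.inv_left) _ hJ'
    rwa [hu', show h * g⁻¹ * (g * (h⁻¹ * u * h) * g⁻¹) * (h * g⁻¹)⁻¹ = u by group] at this
  · obtain ⟨a, ha, ea, hka⟩ := C.canon hfive
    have haz := C.A_comm ha
    obtain ⟨hp, -⟩ := comp_perp n hfive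
    obtain ⟨er, hp16⟩ := r_point n hn hp
    have a2 := C.five_sq hfive ha ea
    have ai : a⁻¹ = a := inv_eq_of_mul_eq_one_right a2
    set x := a * u' with hx
    have hxJ : x ∈ C.J := by
      rw [← C.ρ_ker (haz.mul_left hu'z), C.ρ_mul haz hu'z, ea, eu', r_hom n hn n hn, Nat.xor_self, r_inj.2.2]
    have xc : a * x * a⁻¹ * x = 1 := by
      rw [hx, ai, show a * (a * u') * a * (a * u') = a * a * u' * (a * a) * u' by group, a2]; simpa using u2
    have kx : herm (C.κ x) (rPt n) = 0 := by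
      have := congrArg C.κ xc
      rw [C.κ_mul _ (C.conjJ a haz x hxJ) _ hxJ, C.κ_conj a haz x hxJ, ea, er, C.κ_one, Nat.xor_comm,
        tv_move _ (C.κ_lt x hxJ)] at this
      exact (smul4_eq_zero _ (herm_lt _ _) _ (by omega) this).resolve_right hp
    have cx : Commute a x := hka x ⟨hxJ, kx⟩
    have hx2 : x * x = 1 := by rwa [cx.eq, mul_inv_cancel_right] at xc
    have ex : u' = a * x := by rw [hx, ← mul_assoc, a2, one_mul]
    by_cases h16 : C.κ x < 16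
    · exact ⟨1, Commute.one_left _, by rw [one_mul, inv_one, mul_one, ex]; exact mul_mem ha (C.Wt_le_A ⟨hxJ, h16⟩)⟩
    have hq : qf (C.κ x) = 0 := by
      have := C.sq' hxJ
      rw [hx2] at this
      exact (C.zp_eq_one (qf_lt _ (C.κ_lt x hxJ))).mp this.symm
    have sp : Sing (rPt n) := ⟨by omega, hp, (rPt_sing n hn hp).2⟩
    obtain ⟨f, hf, w, hw, w', hw', ew, ew'⟩ := line_of_perp sp ⟨C.κ_lt x hxJ, by omega, hq⟩
      ((herm_symm (by omega) (C.κ_lt x hxJ)).mpr kx)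
    obtain ⟨k, hkz, ek⟩ := C.ρ_surj f hf
    refine ⟨k⁻¹, hkz.inv_left, ?_⟩
    rw [ex, inv_inv, show k⁻¹ * (a * x) * k = (k⁻¹ * a * k) * (k⁻¹ * x * k) by group]
    refine mul_mem (C.mem_A.mpr fun j hj hj16 => ?_) (C.Wt_le_A ⟨by simpa using C.conjJ _ hkz.inv_left x hxJ, ?_⟩)
    · have hm : k * j * k⁻¹ ∈ C.Kr (rPt n) := ⟨C.conjJ k hkz j hj, by
        rw [C.κ_conj k hkz j hj, ek, ← ew, hf.unit.herm_app _ _ (by omega) (by omega), line_iso _ hj16 w hw]⟩
      show k⁻¹ * a * k * j = j * (k⁻¹ * a * k)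
      calc k⁻¹ * a * k * j = k⁻¹ * (a * (k * j * k⁻¹)) * k := by group
        _ = _ := by rw [(hka _ hm).eq]; group
    · have hm : k⁻¹ * x * k ∈ C.J := by simpa using C.conjJ _ hkz.inv_left x hxJ
      have e := C.κ_conj k hkz _ hm
      rw [show k * (k⁻¹ * x * k) * k⁻¹ = x by group, ek, ← ew'] at e
      rw [← hf.unit.inj (by omega) (C.κ_lt _ hm) e]
      exact hw'
  · have hn0 : n ≠ 0 := by rintro h; rw [h] at hten; simp at hten
    obtain ⟨hfix, -⟩ := r_other n hn hn0 htp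
    obtain ⟨a, ha, ea⟩ := C.lift_A hn
    have haz := C.A_comm ha
    set x := a⁻¹ * u' with hx
    have hxJ : x ∈ C.J := (C.ρ_eq_iff haz hu'z).mp (ea.trans eu'.symm)
    have xc : a * x * a⁻¹ * (a * a) * x = 1 := by
      rw [hx, show a * (a⁻¹ * u') * a⁻¹ * (a * a) * (a⁻¹ * u') = u' * u' by group]; exact u2
    have aJ : a * a ∈ C.J := by rw [C.sg_spec ha ea]; exact C.zp_mem _
    have := congrArg C.κ xc
    rw [C.κ_mul _ (mul_mem (C.conjJ a haz x hxJ) aJ) _ hxJ, C.κ_mul _ (C.conjJ a haz x hxJ) _ aJ, C.κ_conj a haz x hxJ,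
      C.κ_one, ea, C.sg_spec ha ea, show C.κ (C.zp (C.sg n)) = 0 by unfold zp; split <;> simp [C.κ_z, C.κ_one],
      Nat.xor_zero] at this
    have fx : app (rOf n) (C.κ x) = C.κ x := by
      have h' := congrArg (· ^^^ C.κ x) this
      simpa [Nat.xor_assoc] using h'
    have := List.all_eq_true.mp hfix _ (List.mem_range.mpr (C.κ_lt x hxJ))
    rw [fx, Bool.or_eq_true] at this
    rcases this with t | t
    · simp at t
    exact ⟨1, Commute.one_left _, by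
      rw [one_mul, inv_one, mul_one, show u' = a * x by rw [hx]; group]
      exact mul_mem ha (C.Wt_le_A ⟨hxJ, by have := Nat.le_of_ble_eq_true t; omega⟩)⟩

end Core

end CfsgLib.U6Rec
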