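/-
If the involution is not isolated, the centraliser of the line is elementary abelian.
-/
import Cfsg.Agent.Lib.U6Rec.Sq

set_option autoImplicit false
set_option maxRecDepth 100000

namespace CfsgLib.U6Rec

/-- A singular pair with nonzero polar, both orthogonal to a given vector and perpendicular to a given point. -/
def pairOK (p w : ℕ) : Bool :=
  singL.any fun a => Nat.beq (herm a p) 0 && Nat.beq (polar a w) 0 &&
    singL.any fun b => Nat.beq (herm b p) 0 && Nat.beq (polar b w) 0 && Nat.beq (polar a b) 1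

theorem pair_sing : singL.all (fun v => pairOK 0 v) = true := by decide +kernel

theorem pair_five : ∀ n ∈ [1, 2, 4, 8, 15], ∀ w < 16, pairOK (rPt n) w = true := by decide +kernel

theorem flip_one : ∃ k < 256, polar 1 k = 1 := by decide +kernel

theorem pairOK_spec {p w : ℕ} (h : pairOK p w = true) : ∃ a b, Sing a ∧ Sing b ∧ herm a p = 0 ∧ herm b p = 0 ∧
    polar a w = 0 ∧ polar b w = 0 ∧ polar a b = 1 := by
  obtain ⟨a, ha, t⟩ := List.any_eq_true.mp h
  rw [Bool.and_eq_true, Bool.and_eq_true] at t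
  obtain ⟨b, hb, t'⟩ := List.any_eq_true.mp t.2
  rw [Bool.and_eq_true, Bool.and_eq_true] at t'
  exact ⟨a, b, sing_iff.mpr ha, sing_iff.mpr hb, Nat.eq_of_beq_eq_true t.1.1, Nat.eq_of_beq_eq_true t'.1.1,
    Nat.eq_of_beq_eq_true t.1.2, Nat.eq_of_beq_eq_true t'.1.2, Nat.eq_of_beq_eq_true t'.2⟩

/-- Two transvections at non-perpendicular points have product of order three. -/
theorem tv_three : ∀ v < 256, v ≠ 0 → qf v = 0 → herm 1 v ≠ 0 →
    comp (comp (tv 1) (tv v)) (comp (tv 1) (comp (tv v) (comp (tv 1) (tv v)))) = one := by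
  intro v hv h0 hq hh
  have := List.all_eq_true.mp odd_pairs v (List.mem_range.mpr hv)
  simp only [Bool.or_eq_true, Nat.beq_eq, Bool.not_eq_true'] at this
  rcases this with ((t | t) | t) | t
  · exact absurd t h0
  · rw [hq] at t; simp at t
  · exact absurd t hh
  · exact t

namespace Core

variable {G : Type*} [Group G] (C : Core G)

theorem sing_of_invol {j : G} (hj : j ∈ C.J) (h2 : j * j = 1) (h1 : j ≠ 1) (hz : j ≠ C.z) : Sing (C.κ j) := by
  refine ⟨C.κ_lt j hj, fun e => ?_, ?_⟩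
  · rcases (C.κ_ker j hj).mp e with r | r
    · exact h1 r
    · exact hz r
  · have := C.sq' hj
    rw [h2] at this
    exact (C.zp_eq_one (qf_lt _ (C.κ_lt j hj))).mp this.symm

theorem invol_of_sing {j : G} (hj : j ∈ C.J) (h : Sing (C.κ j)) : j * j = 1 ∧ j ≠ 1 ∧ j ≠ C.z := by
  refine ⟨by rw [C.sq' hj, h.2.2]; rfl, fun e => h.2.1 (by rw [e, C.κ_one]), fun e => h.2.1 (by rw [e, C.κ_z])⟩

/-- The noncentral involutions of the extraspecial group are conjugate in the centraliser. -/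
theorem J_invol_conj {a b : G} (ha : a ∈ C.J) (hb : b ∈ C.J) (sa : Sing (C.κ a)) (sb : Sing (C.κ b)) :
    ∃ h, Commute h C.z ∧ h * a * h⁻¹ = b := by
  obtain ⟨e1, he1, k1⟩ := C.κ_surj 1 (by norm_num)
  suffices ∀ c ∈ C.J, Sing (C.κ c) → ∃ h, Commute h C.z ∧ h * e1 * h⁻¹ = c by
    obtain ⟨h, hh, eh⟩ := this a ha sa
    obtain ⟨k, hk, ek⟩ := this b hb sb
    exact ⟨k * h⁻¹, hk.mul_left hh.inv_left, by rw [← ek, ← eh]; group⟩
  intro c hc sc
  obtain ⟨i, hi, ei⟩ := sing_rep sc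
  obtain ⟨h, hh, eh⟩ := C.ρ_surj _ (inU_rep hi)
  have e : C.κ (h * e1 * h⁻¹) = C.κ c := by rw [C.κ_conj h hh _ he1, eh, k1, ei]
  rcases (C.κ_eq (C.conjJ h hh _ he1) hc).mp e with r | r
  · exact ⟨h, hh, r⟩
  obtain ⟨f, hf, pf⟩ := flip_one
  obtain ⟨k, hk, ek⟩ := C.κ_surj f hf
  refine ⟨h * k, hh.mul_left (C.Jz k hk), ?_⟩
  have s := C.swap he1 hk
  rw [k1, ek, pf, show C.zp 1 = C.z from rfl] at s
  rw [show h * k * e1 * (h * k)⁻¹ = h * (C.z * (C.z * (k * e1))) * k⁻¹ * h⁻¹ by rw [← mul_assoc C.z, C.zz]; group, ← s]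
  rw [show h * (C.z * (e1 * k)) * k⁻¹ * h⁻¹ = (h * C.z * h⁻¹) * (h * e1 * h⁻¹) by group, r, hh.eq, mul_inv_cancel_right,
    ← mul_assoc, (C.Jz c hc).symm.eq, mul_assoc, C.zz, mul_one]

/-- Without type-two involutions the images of involutions are transvections. -/
theorem invol_image [Finite G] (hs : C.sg 3 = 1) {u : G} (hu : Commute u C.z) (h2 : u * u = 1) :
    C.ρ u = one ∨ ∃ h, Commute h C.z ∧ h * u * h⁻¹ ∈ C.A ∧ ∃ n ∈ [1, 2, 4, 8, 15], C.ρ (h * u * h⁻¹) = rOf n := by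
  obtain ⟨h, hh, hA⟩ := C.invol_conj hu h2
  obtain ⟨n, hn, e⟩ := C.ρ_A hA
  rcases five_or_ten n hn with rfl | hf | ⟨ht, -⟩
  · left
    have hJ := (C.ρ_ker (C.A_comm hA)).mp (e.trans r_inj.2.2)
    have := C.conjJ _ hh.inv_left _ hJ
    rw [show h⁻¹ * (h * u * h⁻¹) * h⁻¹⁻¹ = u by group] at this
    exact C.ρ_J this
  · exact Or.inr ⟨h, hh, hA, n, hf, e⟩
  · exfalso
    have := C.sg_spec hA e
    rw [C.sg_ten ht, hs, show h * u * h⁻¹ * (h * u * h⁻¹) = h * (u * u) * h⁻¹ by group, h2, mul_one, mul_inv_cancel] at this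
    exact C.z_ne this.symm

theorem image_tv [Finite G] (hs : C.sg 3 = 1) {u : G} (hu : Commute u C.z) (h2 : u * u = 1) :
    C.ρ u = one ∨ ∃ p, Sing p ∧ C.ρ u = tv p := by
  rcases C.invol_image hs hu h2 with r | ⟨h, hh, hA, n, hn, e⟩
  · exact Or.inl r
  have h16 : n < 16 := (show ∀ n ∈ [1, 2, 4, 8, 15], n < 16 by decide) n hn
  obtain ⟨hp, -⟩ := comp_perp n hn
  obtain ⟨er, hp16⟩ := r_point n h16 hp
  have sp : Sing (rPt n) := ⟨by omega, hp, (rPt_sing n h16 hp).2⟩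
  have hU := C.ρ_mem _ hh.inv_left
  refine Or.inr ⟨app (C.ρ h⁻¹) (rPt n), sp.app hU.unit, ?_⟩
  rw [show u = h⁻¹ * (h * u * h⁻¹) * h by group, C.ρ_mul (hh.inv_left.mul_left (C.A_comm hA)) hh,
    C.ρ_mul hh.inv_left (C.A_comm hA), e, er, hU.unit.tv_comm sp.1, comp_assoc, C.ρ_inv_left hh]
  exact (inU_tv (sp.app hU.unit)).form

/-- Two non-commuting involutions of the extraspecial group centralise a given involution. -/
theorem two_in_J [Finite G] (hs : C.sg 3 = 1) {w : G} (hw : Commute w C.z) (h2 : w * w = 1) (h1 : w ≠ 1) (hwz : w ≠ C.z) :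
    ∃ i ∈ C.J, ∃ j ∈ C.J, i * i = 1 ∧ j * j = 1 ∧ Commute i w ∧ Commute j w ∧ i * j = C.z * (j * i) := by
  have fin : ∀ a b : G, a ∈ C.J → b ∈ C.J → polar (C.κ a) (C.κ b) = 1 → a * b = C.z * (b * a) := fun a b ha hb e => by
    rw [C.swap ha hb, e]; rfl
  rcases C.invol_image hs hw h2 with e | ⟨h, hh, hA, n, hn, e⟩
  · have hJ := (C.ρ_ker hw).mp e
    obtain ⟨a, b, sa, sb, -, -, pa, pb, pab⟩ :=
      pairOK_spec (List.all_eq_true.mp pair_sing _ (sing_iff.mp (C.sing_of_invol hJ h2 h1 hwz)))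
    obtain ⟨i, hi, rfl⟩ := C.κ_surj a sa.1
    obtain ⟨j, hj, rfl⟩ := C.κ_surj b sb.1
    exact ⟨i, hi, j, hj, (C.invol_of_sing hi sa).1, (C.invol_of_sing hj sb).1, (C.comm_iff hi hJ).mpr pa,
      (C.comm_iff hj hJ).mpr pb, fin i j hi hj pab⟩
  · obtain ⟨a, ha, ea, hka⟩ := C.canon hn
    obtain ⟨x, hx, ex⟩ := C.same_image ha hA (ea.trans e.symm)
    obtain ⟨u, v, su, sv, hu, hv, pu, pv, puv⟩ := pairOK_spec (pair_five n hn _ hx.2)
    obtain ⟨i, hi, rfl⟩ := C.κ_surj u su.1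
    obtain ⟨j, hj, rfl⟩ := C.κ_surj v sv.1
    have cc : ∀ k ∈ C.J, herm (C.κ k) (rPt n) = 0 → polar (C.κ k) (C.κ x) = 0 → Commute (h⁻¹ * k * h) w := by
      intro k hk e1 e2
      have c : Commute k (a * x) := ((hka k ⟨hk, e1⟩).symm).mul_right ((C.comm_iff hk hx.1).mpr e2)
      rw [← ex] at c
      show h⁻¹ * k * h * w = w * (h⁻¹ * k * h)
      calc h⁻¹ * k * h * w = h⁻¹ * (k * (h * w * h⁻¹)) * h := by group
        _ = _ := by rw [c.eq]; group
    refine ⟨h⁻¹ * i * h, by simpa using C.conjJ _ hh.inv_left i hi, h⁻¹ * j * h, by simpa using C.conjJ _ hh.inv_left j hj,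
      ?_, ?_, cc i hi hu pu, cc j hj hv pv, ?_⟩
    · rw [show h⁻¹ * i * h * (h⁻¹ * i * h) = h⁻¹ * (i * i) * h by group, (C.invol_of_sing hi su).1]; group
    · rw [show h⁻¹ * j * h * (h⁻¹ * j * h) = h⁻¹ * (j * j) * h by group, (C.invol_of_sing hj sv).1]; group
    · rw [show h⁻¹ * i * h * (h⁻¹ * j * h) = h⁻¹ * (i * j) * h by group, fin i j hi hj puv,
        show h⁻¹ * (C.z * (j * i)) * h = (h⁻¹ * C.z * h) * (h⁻¹ * j * h * (h⁻¹ * i * h)) by group, hh.inv_left.eq,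
        inv_mul_cancel_right]

/-- The involution has a conjugate in its centraliser other than itself. -/
def NonIsolated : Prop := ∃ g : G, Commute (g * C.z * g⁻¹) C.z ∧ g * C.z * g⁻¹ ≠ C.z

theorem conj_invol (g : G) : g * C.z * g⁻¹ * (g * C.z * g⁻¹) = 1 ∧ g * C.z * g⁻¹ ≠ 1 := by
  refine ⟨by rw [show g * C.z * g⁻¹ * (g * C.z * g⁻¹) = g * (C.z * C.z) * g⁻¹ by group, C.zz]; group, fun e => C.z_ne ?_⟩
  have h' := congrArg (fun x => g⁻¹ * x * g) e
  simpa [mul_assoc] using h'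

theorem elementary [Finite G] (hne : C.NonIsolated) : C.sg 3 = 0 := by
  by_contra h0
  have hs : C.sg 3 = 1 := by have := C.sg_lt 3; omega
  -- pulled back pair
  have pull : ∀ g, Commute (g * C.z * g⁻¹) C.z → g * C.z * g⁻¹ ≠ C.z → Commute (g⁻¹ * C.z * g) C.z ∧ g⁻¹ * C.z * g ≠ C.z := by
    intro g hc hn
    refine ⟨?_, fun e => hn ?_⟩
    · show g⁻¹ * C.z * g * C.z = C.z * (g⁻¹ * C.z * g)
      calc g⁻¹ * C.z * g * C.z = g⁻¹ * (C.z * (g * C.z * g⁻¹)) * g := by group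
        _ = _ := by rw [← hc.eq]; group
    · conv_lhs => rw [← e]
      group
  have back : ∀ g w i : G, w = g⁻¹ * C.z * g → Commute i w → Commute (g * i * g⁻¹) C.z := by
    intro g w i hw hc
    show g * i * g⁻¹ * C.z = C.z * (g * i * g⁻¹)
    calc g * i * g⁻¹ * C.z = g * (i * w) * g⁻¹ := by rw [hw]; group
      _ = _ := by rw [hc.eq, hw]; group
  -- a conjugate outside
  obtain ⟨g, hc, hn, hout⟩ : ∃ g, Commute (g * C.z * g⁻¹) C.z ∧ g * C.z * g⁻¹ ≠ C.z ∧ g * C.z * g⁻¹ ∉ C.J := by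
    obtain ⟨g, hc, hn⟩ := hne
    by_contra hall
    push Not at hall
    obtain ⟨hwz, hwn⟩ := pull g hc hn
    have w2 := C.conj_invol g⁻¹
    simp only [inv_inv] at w2
    have hwJ : g⁻¹ * C.z * g ∈ C.J := by simpa using hall g⁻¹ (by simpa using hwz) (by simpa using hwn)
    obtain ⟨i, hi, j, hj, i2, j2, ci, cj, sw⟩ := C.two_in_J hs hwz w2.1 w2.2 hwn
    have key : ∀ k ∈ C.J, k * k = 1 → k ≠ 1 → k ≠ C.z → Commute k (g⁻¹ * C.z * g) → g * k * g⁻¹ ∈ C.J := by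
      intro k hk k2 k1 kz ck
      obtain ⟨h, hh, eh⟩ := C.J_invol_conj hwJ hk (C.sing_of_invol hwJ w2.1 w2.2 hwn) (C.sing_of_invol hk k2 k1 kz)
      have e : g * k * g⁻¹ = g * h * g⁻¹ * C.z * (g * h * g⁻¹)⁻¹ := by rw [← eh]; group
      by_cases hk' : g * k * g⁻¹ = C.z
      · rw [hk']; exact C.zJ
      · rw [e]; exact hall _ (e ▸ back g _ k rfl ck) (e ▸ hk')
    have hij : i * j ≠ j * i := fun e => C.z_ne (mul_eq_right.mp (e ▸ sw).symm)
    have i1 : i ≠ 1 := by rintro rfl; simp at hij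
    have j1 : j ≠ 1 := by rintro rfl; simp at hij
    have iz : i ≠ C.z := by rintro rfl; exact hij (C.Jz j hj).symm.eq
    have jz : j ≠ C.z := by rintro rfl; exact hij (C.Jz i hi).eq
    have si := key i hi i2 i1 iz ci
    have sj := key j hj j2 j1 jz cj
    have e := C.swap si sj
    rw [show g * i * g⁻¹ * (g * j * g⁻¹) = g * (i * j) * g⁻¹ by group, sw,
      show g * (C.z * (j * i)) * g⁻¹ = (g * C.z * g⁻¹) * (g * j * g⁻¹ * (g * i * g⁻¹)) by group, mul_left_inj] at e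
    have := e ▸ C.zp_comm (polar (C.κ (g * i * g⁻¹)) (C.κ (g * j * g⁻¹))) (Commute.refl C.z)
    unfold zp at e
    split at e
    · exact hn e
    · exact (C.conj_invol g).2 e
  obtain ⟨hwz, hwn⟩ := pull g hc hn
  have w2 := C.conj_invol g⁻¹
  simp only [inv_inv] at w2
  obtain ⟨i, hi, j, hj, i2, j2, ci, cj, sw⟩ := C.two_in_J hs hwz w2.1 w2.2 hwn
  have hI := back g _ i rfl ci
  have hJ' := back g _ j rfl cj
  have hu : C.ρ (g * C.z * g⁻¹) ≠ one := fun e => hout ((C.ρ_ker hc).mp e)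
  have rel : g * i * g⁻¹ * (g * j * g⁻¹) = (g * C.z * g⁻¹) * (g * j * g⁻¹ * (g * i * g⁻¹)) := by
    rw [show g * i * g⁻¹ * (g * j * g⁻¹) = g * (i * j) * g⁻¹ by group, sw]; group
  have rel' : comp (C.ρ (g * i * g⁻¹)) (C.ρ (g * j * g⁻¹)) =
      comp (C.ρ (g * C.z * g⁻¹)) (comp (C.ρ (g * j * g⁻¹)) (C.ρ (g * i * g⁻¹))) := by
    rw [← C.ρ_mul hI hJ', ← C.ρ_mul hJ' hI, ← C.ρ_mul hc (hJ'.mul_left hI), rel]
  have hUu := C.ρ_mem _ hc
  have I2 : g * i * g⁻¹ * (g * i * g⁻¹) = 1 := by rw [show g * i * g⁻¹ * (g * i * g⁻¹) = g * (i * i) * g⁻¹ by group, i2]; group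
  have J2 : g * j * g⁻¹ * (g * j * g⁻¹) = 1 := by rw [show g * j * g⁻¹ * (g * j * g⁻¹) = g * (j * j) * g⁻¹ by group, j2]; group
  have case_one : ∀ {x y : ℕ}, InU x → InU y → (x = one ∨ y = one) → comp x y = comp (C.ρ (g * C.z * g⁻¹)) (comp y x) → False := by
    intro x y hx hy hor e
    refine hu (hUu.ext inU_one fun v hv => ?_)
    have ox : ∀ {t : ℕ}, InU t → comp one t = t := fun {t} ht => by rw [← ht.form, one_comp, ht.form]
    rcases hor with rfl | rfl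
    · rw [ox hy, hy.form] at e
      obtain ⟨w, hw, rfl⟩ := hy.unit.surj hv
      have := congrArg (fun k => app k w) e
      rw [app_comp] at this
      rw [← this, app_one _ (app_lt _ _)]
    · rw [ox hx, hx.form] at e
      obtain ⟨w, hw, rfl⟩ := hx.unit.surj hv
      have := congrArg (fun k => app k w) e
      rw [app_comp] at this
      rw [← this, app_one _ (app_lt _ _)]
  rcases C.image_tv hs hI I2 with r | ⟨p, sp, ep⟩
  · exact case_one (C.ρ_mem _ hI) (C.ρ_mem _ hJ') (Or.inl r) rel'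
  rcases C.image_tv hs hJ' J2 with r | ⟨p', sp', ep'⟩
  · exact case_one (C.ρ_mem _ hI) (C.ρ_mem _ hJ') (Or.inr r) rel'
  -- move the first point to the standard one
  obtain ⟨r, hr, er⟩ := sing_rep sp
  obtain ⟨f, hf, ef⟩ := C.ρ_surj _ (inU_rep hr)
  obtain ⟨v, hv, ev⟩ := (inU_rep hr).unit.surj sp'.1
  set X := f⁻¹ * (g * i * g⁻¹) * f with hX
  set Y := f⁻¹ * (g * j * g⁻¹) * f with hY
  have hXz : Commute X C.z := (hf.inv_left.mul_left hI).mul_left hf
  have hYz : Commute Y C.z := (hf.inv_left.mul_left hJ').mul_left hf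
  have img : ∀ {k : G} {q q' : ℕ}, Commute k C.z → q' < 256 → app (rep r) q' = q → InU (tv q') → C.ρ k = tv q →
      C.ρ (f⁻¹ * k * f) = tv q' := by
    intro k q q' hk hq' e hin ek
    rw [C.ρ_mul (hf.inv_left.mul_left hk) hf, C.ρ_mul hf.inv_left hk, ek, comp_assoc, ef, ← e,
      ← (inU_rep hr).unit.tv_comm hq', ← comp_assoc, ← ef, C.ρ_inv_left hf, ← hin.form, one_comp]
  have sv : Sing v := ⟨hv, fun e => sp'.2.1 (by rw [← ev, e, app_zero]), by rw [← (inU_rep hr).unit.qf_app hv, ev, sp'.2.2]⟩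
  have eX : C.ρ X = tv 1 := img hI (by norm_num) er (inU_tv sing_one) ep
  have eY : C.ρ Y = tv v := img hJ' hv ev (inU_tv sv) ep'
  have relXY : X * Y = (f⁻¹ * (g * C.z * g⁻¹) * f) * (Y * X) := by
    rw [hX, hY, show f⁻¹ * (g * i * g⁻¹) * f * (f⁻¹ * (g * j * g⁻¹) * f) = f⁻¹ * (g * i * g⁻¹ * (g * j * g⁻¹)) * f by group, rel]
    group
  by_cases hh : herm 1 v = 0
  · apply hu
    have hcomm : comp (tv 1) (tv v) = comp (tv v) (tv 1) := by
      rw [(inU_tv sing_one).unit.tv_comm sv.1,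
        (tv_fix (by norm_num) (by norm_num) sv.1).mpr ((herm_symm (by norm_num) sv.1).mp hh)]
    have hcU : Commute (f⁻¹ * (g * C.z * g⁻¹) * f) C.z := (hf.inv_left.mul_left hc).mul_left hf
    have hk : f⁻¹ * (g * C.z * g⁻¹) * f ∈ C.J := by
      have hq : (Y * X)⁻¹ * (X * Y) ∈ C.J := (C.ρ_eq_iff (hYz.mul_left hXz) (hXz.mul_left hYz)).mp
        (by rw [C.ρ_mul hXz hYz, C.ρ_mul hYz hXz, eX, eY, hcomm])
      rw [relXY] at hq
      have := C.conjJ _ (hYz.mul_left hXz) _ hq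
      simpa [mul_assoc] using this
    have := C.conjJ f hf _ hk
    rw [show f * (f⁻¹ * (g * C.z * g⁻¹) * f) * f⁻¹ = g * C.z * g⁻¹ by group] at this
    exact absurd this hout
  · have h3 := tv_three v hv sv.2.1 sv.2.2 hh
    have four : (X * Y) * (X * Y) * ((X * Y) * (X * Y)) = 1 := by
      rw [hX, hY, show f⁻¹ * (g * i * g⁻¹) * f * (f⁻¹ * (g * j * g⁻¹) * f) = (f⁻¹ * g) * (i * j) * (f⁻¹ * g)⁻¹ by group]
      set c := f⁻¹ * g
      have e2 : (i * j) * (i * j) = C.z := by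
        calc i * j * (i * j) = C.z * (j * i) * (i * j) := by rw [← sw]
          _ = C.z * (j * (i * i) * j) := by group
          _ = _ := by rw [i2, mul_one, j2, mul_one]
      rw [show c * (i * j) * c⁻¹ * (c * (i * j) * c⁻¹) = c * (i * j * (i * j)) * c⁻¹ by group, e2,
        show c * C.z * c⁻¹ * (c * C.z * c⁻¹) = c * (C.z * C.z) * c⁻¹ by group, C.zz]; group
    have hP : Commute (X * Y) C.z := hXz.mul_left hYz
    have three : C.ρ ((X * Y) * (X * (Y * (X * Y)))) = one := by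
      rw [C.ρ_mul hP (hXz.mul_left (hYz.mul_left hP)), C.ρ_mul hXz (hYz.mul_left hP), C.ρ_mul hYz hP, C.ρ_mul hXz hYz, eX, eY]
      exact h3
    have m : X * Y ∈ C.J := by
      have h3J := (C.ρ_ker (hP.mul_left (hXz.mul_left (hYz.mul_left hP)))).mp three
      have e : (X * Y * (X * (Y * (X * Y))))⁻¹ = X * Y := by
        refine inv_eq_of_mul_eq_one_right ?_
        calc X * Y * (X * (Y * (X * Y))) * (X * Y) = X * Y * (X * Y) * (X * Y * (X * Y)) := by group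
          _ = 1 := four
      rw [← e]; exact inv_mem h3J
    have hone := C.ρ_J m
    rw [C.ρ_mul hXz hYz, eX, eY] at hone
    have a1 := congrArg (fun k => app k v) hone
    rw [app_comp, app_one v hv, app_tv v hv, transv, herm_self v hv, sv.2.2, (smul4_one v hv).2, Nat.xor_zero,
      tv_fix (by norm_num) (by norm_num) hv, herm_symm hv (by norm_num)] at a1
    exact hh a1

end Core

end CfsgLib.U6Rec
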