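/-
The elementary abelian subgroup of order two to the nine: order, uniqueness up to conjugation, normaliser.
-/
import Cfsg.Agent.Lib.U6Rec.Elem

set_option autoImplicit false
set_option maxRecDepth 100000

namespace CfsgLib.U6Rec

/-- Involutions of the stabiliser of the line commuting with a type-two element. -/
def invThree : List ℕ :=
  ((List.range 960).map par).filter fun g => Nat.beq (comp g g) one && Nat.beq (comp g (rOf 3)) (comp (rOf 3) g)

theorem inv_three : (invThree.all fun g => rL.elem g ||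
    Nat.ble (invThree.countP fun k => Nat.beq (comp g k) (comp k g)) 8) = true := by decide +kernel

theorem par_nodup : ((List.range 960).map par).Nodup := by decide +kernel

theorem par_line_image : (List.range 960).all (fun k => decide ((parW.getD k (0, 0)).1 < 135)) = true := by decide +kernel

theorem polar_half : ∀ u < 256, u ≠ 0 → (List.range 256).countP (fun v => Nat.beq (polar u v) 0) = 128 := by
  decide +kernel

theorem polar_basis_inj : ∀ u < 256, ∀ u' < 256,
    ((List.range 8).all fun i => Nat.beq (polar u (1 <<< i)) (polar u' (1 <<< i))) = true → u = u' := by decide +kernel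

theorem polar_half_card {u : ℕ} (hu : u < 256) (h0 : u ≠ 0) :
    ((Finset.range 256).filter fun v => polar u v = 0).card = 128 := by
  rw [← polar_half u hu h0, List.countP_eq_length_filter, ← List.toFinset_card_of_nodup (List.nodup_range.filter _)]
  congr 1
  ext v
  simp

namespace Core

variable {G : Type*} [Group G] (C : Core G)

theorem card_J_map (S : Subgroup G) (hS : S ≤ C.J) (hz : C.z ∈ S) [Finite G] :
    Nat.card S = 2 * Nat.card (C.κ '' (S : Set G)) := by
  classical
  haveI := Fintype.ofFinite G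
  rw [Nat.card_coe_set_eq, show Nat.card S = (S : Set G).ncard from (Nat.card_coe_set_eq _)]
  rw [Set.ncard_eq_toFinset_card', Set.ncard_eq_toFinset_card', Set.toFinset_image,
    Finset.card_eq_sum_card_image C.κ]
  rw [Finset.sum_const_nat (m := 2)]
  · ring
  intro v hv
  obtain ⟨a, ha, rfl⟩ := Finset.mem_image.mp hv
  have ha' : a ∈ S := Set.mem_toFinset.mp ha
  rw [show ((S : Set G).toFinset.filter fun b => C.κ b = C.κ a) = {a, a * C.z} by
    ext b
    simp only [Finset.mem_filter, Set.mem_toFinset, SetLike.mem_coe, Finset.mem_insert, Finset.mem_singleton]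
    constructor
    · exact fun h => (C.κ_eq (hS h.1) (hS ha')).mp h.2
    · intro h
      rcases h with h | h <;> subst h
      · exact ⟨ha', rfl⟩
      · exact ⟨mul_mem ha' hz, by rw [C.κ_mul a (hS ha') _ C.zJ, C.κ_z, Nat.xor_zero]⟩]
  refine Finset.card_pair fun e => C.z_ne ?_
  exact mul_eq_left.mp e.symm

theorem card_Wt [Finite G] : Nat.card C.Wt = 32 := by
  rw [C.card_J_map C.Wt (fun _ h => h.1) C.z_Wt]
  have : C.κ '' (C.Wt : Set G) = Set.Iio 16 := by
    ext v
    constructor
    · rintro ⟨j, hj, rfl⟩; exact hj.2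
    · intro hv
      obtain ⟨j, hj, rfl⟩ := C.κ_surj v (by simp at hv; omega)
      exact ⟨j, ⟨hj, hv⟩, rfl⟩
  rw [this, Nat.card_coe_set_eq, ← Finset.coe_Iio, Set.ncard_coe_finset, Nat.card_Iio]

theorem A_inf_J : C.A ⊓ C.J = C.Wt :=
  le_antisymm (fun _ h => C.mem_Wt h.2 h.1) fun _ h => ⟨C.Wt_le_A h, h.1⟩

theorem card_of_image [Finite G] (S : Subgroup G) (hS : S ≤ C.H) :
    Nat.card S = Nat.card (C.ρ '' (S : Set G)) * Nat.card ↥(S ⊓ C.J) := by
  rw [← Subgroup.index_mul_card (C.J.subgroupOf S)]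
  congr 1
  · let f : ↥S → ↥(C.ρ '' (S : Set G)) := fun h => ⟨C.ρ h, h, h.2, rfl⟩
    have hq : ∀ a b : ↥S, (QuotientGroup.leftRel (C.J.subgroupOf S)).r a b ↔ f a = f b := fun a b => by
      rw [QuotientGroup.leftRel_apply, Subgroup.mem_subgroupOf, Subtype.ext_iff,
        C.ρ_eq_iff (C.mem_H.mp (hS a.2)) (C.mem_H.mp (hS b.2))]
      rfl
    have hb : Function.Bijective (Quotient.lift f fun a b h => (hq a b).mp h : ↥S ⧸ C.J.subgroupOf S → _) := by
      refine ⟨fun x y => Quotient.inductionOn₂ x y fun a b h => Quotient.sound ((hq a b).mpr h), fun g => ?_⟩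
      obtain ⟨g, h, hh, e⟩ := g
      exact ⟨QuotientGroup.mk ⟨h, hh⟩, Subtype.ext e⟩
    exact Nat.card_eq_of_bijective _ hb
  · rw [← Subgroup.inf_subgroupOf_left, Nat.card_congr (Subgroup.subgroupOfEquivOfLe inf_le_left).toEquiv]

theorem rho_A : C.ρ '' (C.A : Set G) = rOf '' Set.Iio 16 := by
  ext g
  constructor
  · rintro ⟨a, ha, rfl⟩
    obtain ⟨n, hn, e⟩ := C.ρ_A ha
    exact ⟨n, hn, e.symm⟩
  · rintro ⟨n, hn, rfl⟩
    obtain ⟨a, ha, e⟩ := C.lift_A hn
    exact ⟨a, ha, e⟩

theorem card_A [Finite G] : Nat.card C.A = 512 := by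
  rw [C.card_of_image C.A C.A_le_H, C.A_inf_J, C.card_Wt, C.rho_A, Nat.card_coe_set_eq,
    Set.InjOn.ncard_image (s := Set.Iio 16) (fun a ha b hb e => rOf_inj ha hb e), ← Finset.coe_Iio, Set.ncard_coe_finset, Nat.card_Iio]

variable [Finite G]

theorem A_sq_one (hne : C.NonIsolated) {a : G} (ha : a ∈ C.A) : a * a = 1 := C.sq_of_ten (C.elementary hne) ha

theorem A_abelian (hne : C.NonIsolated) {a b : G} (ha : a ∈ C.A) (hb : b ∈ C.A) : Commute a b := by
  have e1 := C.A_sq_one hne ha
  have e2 := C.A_sq_one hne hb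
  have e3 := C.A_sq_one hne (mul_mem ha hb)
  show a * b = b * a
  calc a * b = a * (a * b * (a * b)) * b := by rw [e3, mul_one]
    _ = (a * a) * (b * a) * (b * b) := by group
    _ = b * a := by rw [e1, e2, one_mul, mul_one]

theorem cent_A {g : G} (hne : C.NonIsolated) : (∀ a ∈ C.A, Commute g a) ↔ g ∈ C.A :=
  ⟨fun h => C.mem_A.mpr fun j hj hk => h j (C.Wt_le_A ⟨hj, hk⟩), fun h _ ha => C.A_abelian hne h ha⟩

/-- A small abelian subgroup of the extraspecial group. -/
theorem abelian_small {N : Subgroup G} (hN : N ≤ C.J) (hc : ∀ a ∈ N, ∀ b ∈ N, Commute a b) : Nat.card N < 256 := by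
  classical
  by_contra hbig
  push Not at hbig
  haveI := Fintype.ofFinite G
  set T := N ⊔ Subgroup.zpowers C.z
  have hTJ : T ≤ C.J := sup_le hN (Subgroup.zpowers_le.mpr C.zJ)
  have hT : ∀ a ∈ T, ∀ b ∈ N, Commute a b := by
    intro a ha b hb
    have : T ≤ Subgroup.centralizer (N : Set G) := sup_le
      (fun x hx => Subgroup.mem_centralizer_iff.mpr fun y hy => (hc x hx y hy).symm.eq)
      (Subgroup.zpowers_le.mpr (Subgroup.mem_centralizer_iff.mpr fun y hy => (C.Jz y (hN hy)).eq))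
    exact (Subgroup.mem_centralizer_iff.mp (this ha) b hb).symm
  have cardT : 256 ≤ Nat.card T := le_trans hbig (Subgroup.card_le_of_le le_sup_left)
  rw [C.card_J_map T hTJ (Subgroup.mem_sup_right (Subgroup.mem_zpowers _)), Nat.card_coe_set_eq] at cardT
  -- all vectors of the image are orthogonal to one another
  have orth : ∀ u ∈ C.κ '' (T : Set G), ∀ v ∈ C.κ '' (T : Set G), polar u v = 0 := by
    rintro u ⟨a, ha, rfl⟩ v ⟨b, hb, rfl⟩
    refine (C.comm_iff (hTJ ha) (hTJ hb)).mp ?_
    have hT' : T ≤ Subgroup.centralizer {a} := sup_le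
      (fun y hy => Subgroup.mem_centralizer_singleton_iff.mpr (hT a ha y hy).symm.eq)
      (Subgroup.zpowers_le.mpr (Subgroup.mem_centralizer_singleton_iff.mpr (C.Jz a (hTJ ha)).symm.eq))
    exact ((Subgroup.mem_centralizer_singleton_iff.mp (hT' hb)) : Commute b a).symm
  have perp_inj : ∀ u < 256, ∀ u' < 256, (∀ i < 8, polar u (1 <<< i) = polar u' (1 <<< i)) → u = u' := fun u hu u' hu' h =>
    polar_basis_inj u hu u' hu' (List.all_eq_true.mpr fun i hi => Nat.beq_eq.mpr (h i (List.mem_range.mp hi)))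
  have hsub : ∀ u ∈ C.κ '' (T : Set G), u ≠ 0 → C.κ '' (T : Set G) = ↑((Finset.range 256).filter fun v => polar u v = 0) := by
    intro u hu h0
    obtain ⟨a, ha, rfl⟩ := hu
    refine Set.eq_of_subset_of_ncard_le ?_ ?_ (Finset.finite_toSet _)
    · rintro v ⟨b, hb, rfl⟩
      simp only [Finset.coe_filter, Finset.mem_range, Set.mem_setOf_eq]
      exact ⟨C.κ_lt b (hTJ hb), orth _ ⟨a, ha, rfl⟩ _ ⟨b, hb, rfl⟩⟩
    · rw [Set.ncard_coe_finset, polar_half_card (C.κ_lt a (hTJ ha)) h0]; omega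
  have three : 3 ≤ (C.κ '' (T : Set G)).ncard := by omega
  obtain ⟨u, hu, u', hu', hne', h0, h0'⟩ : ∃ u ∈ C.κ '' (T : Set G), ∃ u' ∈ C.κ '' (T : Set G), u ≠ u' ∧ u ≠ 0 ∧ u' ≠ 0 := by
    obtain ⟨a, b, c, ha, hb, hc', hab, hac, hbc⟩ := (Set.two_lt_ncard_iff (s := C.κ '' (T : Set G)) (Set.toFinite _)).mp (by omega)
    by_cases a0 : a = 0
    · exact ⟨b, hb, c, hc', hbc, fun e => hab (a0.trans e.symm), fun e => hac (a0.trans e.symm)⟩
    · by_cases b0 : b = 0
      · exact ⟨a, ha, c, hc', hac, a0, fun e => hbc (b0.trans e.symm)⟩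
      · exact ⟨a, ha, b, hb, hab, a0, b0⟩
  have lt : ∀ w ∈ C.κ '' (T : Set G), w < 256 := by rintro w ⟨a, ha, rfl⟩; exact C.κ_lt a (hTJ ha)
  refine hne' (perp_inj u (lt u hu) u' (lt u' hu') fun i hi => ?_)
  have e := (hsub u hu h0).symm.trans (hsub u' hu' h0')
  have mem := Finset.ext_iff.mp (Finset.coe_injective e) (1 <<< i)
  simp only [Finset.mem_filter, Finset.mem_range, byte_one_lt i hi, true_and] at mem
  have l1 := polar_lt (lt u hu) (byte_one_lt i hi)
  have l2 := polar_lt (lt u' hu') (byte_one_lt i hi)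
  rcases Nat.lt_or_ge (polar u (1 <<< i)) 1 with h | h
  · have := mem.mp (by omega); omega
  · rcases Nat.lt_or_ge (polar u' (1 <<< i)) 1 with h' | h'
    · have := mem.mpr (by omega); omega
    · omega

theorem prod_not_tv : ∀ n ∈ [1, 2, 4, 8, 15], ∀ m ∈ [1, 2, 4, 8, 15], n ≠ m →
    (n ^^^ m) ∈ [3, 5, 6, 7, 9, 10, 11, 12, 13, 14] := by decide

/-- Elementary abelian subgroups of order two to the nine of the centraliser are conjugate to the standard one. -/
theorem elem_conj (hne : C.NonIsolated) {B : Subgroup G} (hB : B ≤ C.H) (hab : ∀ a ∈ B, ∀ b ∈ B, Commute a b)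
    (h2 : ∀ b ∈ B, b * b = 1) (hcard : 512 ≤ Nat.card B) : ∃ h, Commute h C.z ∧ ∀ b ∈ B, h * b * h⁻¹ ∈ C.A := by
  classical
  have hnJ : Nat.card ↥(B ⊓ C.J) < 256 := C.abelian_small inf_le_right fun a ha b hb => hab a ha.1 b hb.1
  by_cases hten : ∃ b ∈ B, ∃ h, Commute h C.z ∧ h * b * h⁻¹ ∈ C.A ∧ C.ρ (h * b * h⁻¹) = rOf 3
  · obtain ⟨b, hb, h, hh, hA, e⟩ := hten
    refine ⟨h, hh, ?_⟩
    set B' := B.map (MulAut.conj h).toMonoidHom with hB'
    have mB : ∀ {x : G}, x ∈ B' ↔ ∃ y ∈ B, h * y * h⁻¹ = x := fun {x} => Subgroup.mem_map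
    have B'H : B' ≤ C.H := by
      intro x hx; obtain ⟨y, hy, rfl⟩ := mB.mp hx
      exact C.mem_H.mpr ((hh.mul_left (C.mem_H.mp (hB hy))).mul_left hh.inv_left)
    have c2 : ∀ x ∈ B', x * x = 1 := by
      intro x hx; obtain ⟨y, hy, rfl⟩ := mB.mp hx
      rw [show h * y * h⁻¹ * (h * y * h⁻¹) = h * (y * y) * h⁻¹ by group, h2 y hy]; group
    have cab : ∀ x ∈ B', ∀ y ∈ B', Commute x y := by
      intro x hx y hy; obtain ⟨u, hu, rfl⟩ := mB.mp hx; obtain ⟨v, hv, rfl⟩ := mB.mp hy
      show h * u * h⁻¹ * (h * v * h⁻¹) = h * v * h⁻¹ * (h * u * h⁻¹)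
      rw [show h * u * h⁻¹ * (h * v * h⁻¹) = h * (u * v) * h⁻¹ by group, (hab u hu v hv).eq]; group
    have hb' : h * b * h⁻¹ ∈ B' := mB.mpr ⟨b, hb, rfl⟩
    have hfix := (r_other 3 (by norm_num) (by norm_num) (by decide)).1
    have fixW : ∀ v < 256, app (rOf 3) v = v → v < 16 := fun v hv ev => by
      have := List.all_eq_true.mp hfix v (List.mem_range.mpr hv)
      rw [ev, Bool.or_eq_true] at this
      rcases this with t | t
      · simp at t
      · have := Nat.le_of_ble_eq_true t; omega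
    have imB : ∀ x ∈ B', C.ρ x ∈ invThree := by
      intro x hx
      have xz := C.mem_H.mp (B'H hx)
      have hzb := C.mem_H.mp (B'H hb')
      have hc : comp (C.ρ x) (rOf 3) = comp (rOf 3) (C.ρ x) := by
        rw [← e, ← C.ρ_mul xz hzb, ← C.ρ_mul hzb xz, (cab x hx _ hb').eq]
      have low : ∀ v < 16, app (C.ρ x) v < 16 := fun v hv => fixW _ (app_lt _ _) (by
        have := congrArg (fun k => app k v) hc
        simp only [app_comp, r_fix 3 (by norm_num) v hv] at this
        exact this.symm)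
      obtain ⟨k, hk, ek⟩ := par_spec (C.ρ_mem x xz) (low 1 (by norm_num)) (low 4 (by norm_num))
      refine List.mem_filter.mpr ⟨List.mem_map.mpr ⟨k, List.mem_range.mpr hk, ek.symm⟩, ?_⟩
      rw [hc, ← C.ρ_mul xz xz, c2 x hx, C.ρ_one]; simp
    have inW : B' ⊓ C.J ≤ C.Wt := by
      intro j hj
      refine ⟨hj.2, fixW _ (C.κ_lt j hj.2) ?_⟩
      rw [← e, ← C.κ_conj _ (C.mem_H.mp (B'H hb')) j hj.2, (cab _ hb' j hj.1).eq, mul_inv_cancel_right]
    have cardB' : Nat.card B' = Nat.card B := Nat.card_congr (Subgroup.equivMapOfInjective _ _ (MulAut.conj h).injective).symm.toEquiv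
    have hN : Nat.card ↥(B' ⊓ C.J) ≤ 32 := le_trans (Subgroup.card_le_of_le inW) C.card_Wt.le
    have him : ∀ x ∈ B', ∃ n < 16, C.ρ x = rOf n := by
      intro x hx
      have := List.all_eq_true.mp inv_three _ (imB x hx)
      rw [Bool.or_eq_true] at this
      rcases this with t | t
      · exact rL_mem t
      exfalso
      have t' := Nat.le_of_ble_eq_true t
      have hsub : C.ρ '' (B' : Set G) ⊆ ↑((invThree.filter fun k => Nat.beq (comp (C.ρ x) k) (comp k (C.ρ x))).toFinset) := by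
        rintro g ⟨y, hy, rfl⟩
        rw [Finset.mem_coe, List.mem_toFinset, List.mem_filter]
        refine ⟨imB y hy, Nat.beq_eq.mpr ?_⟩
        rw [← C.ρ_mul (C.mem_H.mp (B'H hx)) (C.mem_H.mp (B'H hy)), ← C.ρ_mul (C.mem_H.mp (B'H hy)) (C.mem_H.mp (B'H hx)),
          (cab x hx y hy).eq]
      have := Set.ncard_le_ncard hsub (Finset.finite_toSet _)
      rw [Set.ncard_coe_finset] at this
      have h8 : Nat.card (C.ρ '' (B' : Set G)) ≤ 8 := by
        rw [Nat.card_coe_set_eq]
        exact le_trans this (le_trans (List.toFinset_card_le _) (by rw [← List.countP_eq_length_filter]; exact t'))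
      have := C.card_of_image B' B'H
      rw [cardB'] at this
      nlinarith [Nat.mul_le_mul h8 hN]
    have h16 : Nat.card (C.ρ '' (B' : Set G)) ≤ 16 := by
      have hsub : C.ρ '' (B' : Set G) ⊆ rOf '' Set.Iio 16 := by
        rintro g ⟨x, hx, rfl⟩
        obtain ⟨n, hn, en⟩ := him x hx
        exact ⟨n, hn, en.symm⟩
      rw [Nat.card_coe_set_eq]
      refine le_trans (Set.ncard_le_ncard hsub (Set.toFinite _)) ?_
      rw [Set.InjOn.ncard_image (s := Set.Iio 16) (fun a ha b hb e => rOf_inj ha hb e), ← Finset.coe_Iio, Set.ncard_coe_finset, Nat.card_Iio]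
    have full : B' ⊓ C.J = C.Wt := Subgroup.eq_of_le_of_card_ge inW (by
      have := C.card_of_image B' B'H
      rw [cardB'] at this
      rw [C.card_Wt]
      nlinarith [Nat.mul_le_mul h16 hN])
    intro y hy
    refine C.mem_A.mpr fun j hj hk => cab _ (mB.mpr ⟨y, hy, rfl⟩) j ?_
    exact (full.symm ▸ (⟨hj, hk⟩ : j ∈ C.Wt) : j ∈ B' ⊓ C.J).1
  · -- all images are transvections
    exfalso
    push Not at hten
    have noten : ∀ b ∈ B, ∀ h, Commute h C.z → h * b * h⁻¹ ∈ C.A → ∀ n ∈ [3, 5, 6, 7, 9, 10, 11, 12, 13, 14],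
        C.ρ (h * b * h⁻¹) ≠ rOf n := by
      intro b hb h hh hA n hn e
      obtain ⟨i, hi, ei⟩ := ten_index n hn
      have t := List.all_eq_true.mp to_ten i (List.mem_range.mpr hi)
      rw [Bool.and_eq_true, decide_eq_true_eq, Nat.beq_eq, ← ei] at t
      have hk : toTen.getD i 0 < 960 := by
        have l : toTen.length = 10 := by decide +kernel
        have := t.1
        simp only [List.getD_eq_getElem?_getD, List.getElem?_eq_getElem (show i < toTen.length by omega), Option.getD_some] at this ⊢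
        exact this
      obtain ⟨p, hp, ep⟩ := C.ρ_surj _ (inU_par hk)
      set a := h * b * h⁻¹
      have az := C.A_comm hA
      obtain ⟨a3, ha3, ea3⟩ := C.lift_A (show 3 < 16 by norm_num)
      have hpa : p⁻¹ * a * p ∈ C.A := by
        have hlow : ∀ v < 16, app (C.ρ p⁻¹) v < 16 := by
          intro v hv
          have inj : Function.Injective (fun v : Fin 16 => (⟨app (par (toTen.getD i 0)) v, by
              have := Nat.le_of_ble_eq_true (List.all_eq_true.mp (List.all_eq_true.mp par_line _ (List.mem_range.mpr hk)) v (List.mem_range.mpr v.2))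
              omega⟩ : Fin 16)) := fun x y h =>
            Fin.ext ((inU_par hk).unit.inj (by omega) (by omega) (congrArg Fin.val h))
          obtain ⟨w, hw⟩ := Finite.injective_iff_surjective.mp inj ⟨v, hv⟩
          have hw' : app (par (toTen.getD i 0)) w = v := congrArg Fin.val hw
          rw [← hw', ← app_comp, ← ep, C.ρ_inv_left hp, app_one _ (by omega)]
          exact w.2
        have := C.A_conj hp.inv_left hlow hA
        rwa [inv_inv] at this
      have e3 : C.ρ (p⁻¹ * a * p) = rOf 3 := by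
        rw [C.ρ_mul (hp.inv_left.mul_left az) hp, C.ρ_mul hp.inv_left az, e, comp_assoc, ep, ← t.2, ← comp_assoc, ← ep,
          C.ρ_inv_left hp, ← r_form 3, one_comp]
      refine hten b hb (p⁻¹ * h) (hp.inv_left.mul_left hh) ?_ ?_
      · rwa [show p⁻¹ * h * b * (p⁻¹ * h)⁻¹ = p⁻¹ * a * p by simp only [a]; group]
      · rwa [show p⁻¹ * h * b * (p⁻¹ * h)⁻¹ = p⁻¹ * a * p by simp only [a]; group]
    have img : ∀ b ∈ B, C.ρ b = one ∨ ∃ p, Sing p ∧ C.ρ b = tv p := by
      intro b hb
      obtain ⟨h, hh, hA⟩ := C.invol_conj (C.mem_H.mp (hB hb)) (h2 b hb)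
      obtain ⟨n, hn, e⟩ := C.ρ_A hA
      have hU := C.ρ_mem _ hh.inv_left
      have az := C.A_comm hA
      have eb : C.ρ b = comp (comp (C.ρ h⁻¹) (rOf n)) (C.ρ h) := by
        rw [← e, ← C.ρ_mul hh.inv_left az, ← C.ρ_mul (hh.inv_left.mul_left az) hh]; congr 1; group
      rcases five_or_ten n hn with rfl | hf | ⟨ht, -⟩
      · left; rw [eb, r_inj.2.2, hU.form, C.ρ_inv_left hh]
      · obtain ⟨hp, -⟩ := comp_perp n hf
        obtain ⟨er, hp16⟩ := r_point n hn hp
        have sp : Sing (rPt n) := ⟨by omega, hp, (rPt_sing n hn hp).2⟩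
        refine Or.inr ⟨app (C.ρ h⁻¹) (rPt n), sp.app hU.unit, ?_⟩
        rw [eb, er, hU.unit.tv_comm sp.1, comp_assoc, C.ρ_inv_left hh]
        exact (inU_tv (sp.app hU.unit)).form
      · exact absurd e (noten b hb h hh hA n ht)
    -- at most one transvection
    have uniq : ∀ a ∈ B, ∀ b ∈ B, C.ρ a ≠ one → C.ρ b ≠ one → C.ρ a = C.ρ b := by
      intro a ha b hb na nb
      by_contra hab'
      obtain ⟨p, sp, ep⟩ := (img a ha).resolve_left na
      obtain ⟨q, sq, eq⟩ := (img b hb).resolve_left nb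
      have az := C.mem_H.mp (hB ha)
      have bz := C.mem_H.mp (hB hb)
      have hperp : herm p q = 0 := by
        by_contra hh'
        -- commuting transvections have perpendicular points
        have hcm : comp (tv p) (tv q) = comp (tv q) (tv p) := by
          rw [← ep, ← eq, ← C.ρ_mul az bz, ← C.ρ_mul bz az, (hab a ha b hb).eq]
        have := congrArg (fun k => app k p) hcm
        simp only [app_comp] at this
        have fp : app (tv p) p = p := (tv_fix sp.1 sp.2.1 sp.1).mpr (by rw [herm_self p sp.1, sp.2.2])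
        rw [fp] at this
        have hw : app (tv q) p < 256 := app_lt _ _
        have h0 := (tv_fix sp.1 sp.2.1 hw).mp this
        rw [app_tv q sp.1, transv, herm_add_left, herm_self p sp.1, sp.2.2, Nat.zero_xor, herm_smul (herm_lt _ _) sq.1 sp.1,
          m4_zero _ (herm_lt _ _) _ (herm_lt _ _), ← herm_symm sp.1 sq.1, or_self] at h0
        exact hh' h0
      obtain ⟨g, hg, w, hw, w', hw', ew, ew'⟩ := line_of_perp sp sq hperp
      obtain ⟨k, hk, ek⟩ := C.ρ_surj g hg
      have five_of : ∀ {u : ℕ}, u < 16 → u ≠ 0 → ∃ n ∈ [1, 2, 4, 8, 15], tv u = rOf n := by decide +kernel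
      have w0 : w ≠ 0 := fun e => sp.2.1 (by rw [← ew, e, app_zero])
      have w0' : w' ≠ 0 := fun e => sq.2.1 (by rw [← ew', e, app_zero])
      obtain ⟨n, hn, en⟩ := five_of hw w0
      obtain ⟨m, hm, em⟩ := five_of hw' w0'
      have h16 : ∀ n ∈ [1, 2, 4, 8, 15], n < 16 := by decide
      have back : ∀ {y : G} {u v n' : ℕ}, Commute y C.z → u < 16 → n' < 16 → app g u = v → C.ρ y = tv v → tv u = rOf n' →
          C.ρ (k⁻¹ * y * k) = rOf n' := by
        intro y u v n' hy hu hn' e e1 e2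
        rw [C.ρ_mul (hk.inv_left.mul_left hy) hk, C.ρ_mul hk.inv_left hy, e1, comp_assoc, ek, ← e,
          ← hg.unit.tv_comm (by omega), ← comp_assoc, ← ek, C.ρ_inv_left hk, e2, ← r_form n', one_comp]
      have ea' := back az hw (h16 n hn) ew ep en
      have eb' := back bz hw' (h16 m hm) ew' eq em
      have hnm : n ≠ m := by
        rintro rfl
        apply hab'
        have h := ea'.trans eb'.symm
        have h1 := congrArg (fun t => comp (comp (C.ρ k) t) (C.ρ k⁻¹)) h
        rw [← C.ρ_mul hk ((hk.inv_left.mul_left az).mul_left hk), ← C.ρ_mul hk ((hk.inv_left.mul_left bz).mul_left hk),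
          ← C.ρ_mul (hk.mul_left ((hk.inv_left.mul_left az).mul_left hk)) hk.inv_left,
          ← C.ρ_mul (hk.mul_left ((hk.inv_left.mul_left bz).mul_left hk)) hk.inv_left] at h1
        simpa [mul_assoc] using h1
      have hab2 : a * b ∈ B := mul_mem ha hb
      have eab : C.ρ (k⁻¹ * (a * b) * k) = rOf (n ^^^ m) := by
        rw [show k⁻¹ * (a * b) * k = (k⁻¹ * a * k) * (k⁻¹ * b * k) by group,
          C.ρ_mul ((hk.inv_left.mul_left az).mul_left hk) ((hk.inv_left.mul_left bz).mul_left hk), ea', eb',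
          r_hom n (h16 n hn) m (h16 m hm)]
      have ht := prod_not_tv n hn m hm hnm
      have h10 : ∀ t ∈ [3, 5, 6, 7, 9, 10, 11, 12, 13, 14], t < 16 ∧ t ≠ 0 ∧ rPt t = 0 := by decide
      obtain ⟨t16, t0, tp⟩ := h10 _ ht
      rcases img (a * b) hab2 with r | ⟨p', sp', ep'⟩
      · have := C.ρ_J ((C.ρ_ker (az.mul_left bz)).mp r |> fun hJ => (by simpa using C.conjJ _ hk.inv_left _ hJ :
            k⁻¹ * (a * b) * k ∈ C.J))
        rw [eab, ← r_inj.2.2] at this
        exact t0 (rOf_inj t16 (by norm_num) this)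
      · obtain ⟨u, hu, eu⟩ := hg.unit.surj sp'.1
        have su : Sing u := ⟨hu, fun e => sp'.2.1 (by rw [← eu, e, app_zero]), by rw [← hg.unit.qf_app hu, eu, sp'.2.2]⟩
        have e' : C.ρ (k⁻¹ * (a * b) * k) = tv u := by
          rw [C.ρ_mul (hk.inv_left.mul_left (az.mul_left bz)) hk, C.ρ_mul hk.inv_left (az.mul_left bz), ep', comp_assoc, ek, ← eu,
            ← hg.unit.tv_comm hu, ← comp_assoc, ← ek, C.ρ_inv_left hk, ← (inU_tv su).form, one_comp]
        obtain ⟨p0, hp0, e0⟩ := tv_pts su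
        have := (r_other _ t16 t0 tp).2
        rw [← eab, e', ← e0, List.elem_eq_mem, decide_eq_false_iff_not] at this
        exact this (List.mem_map.mpr ⟨p0, hp0, rfl⟩)
    have h2im : Nat.card (C.ρ '' (B : Set G)) ≤ 2 := by
      rw [Nat.card_coe_set_eq]
      by_cases hex : ∃ a ∈ B, C.ρ a ≠ one
      · obtain ⟨a, ha, na⟩ := hex
        refine le_trans (Set.ncard_le_ncard (t := {one, C.ρ a}) ?_ (Set.toFinite _)) (Set.ncard_pair (Ne.symm na)).le
        rintro g ⟨b, hb, rfl⟩
        by_cases nb : C.ρ b = one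
        · exact Or.inl nb
        · exact Or.inr (uniq b hb a ha nb na)
      · push Not at hex
        refine le_trans (Set.ncard_le_ncard (t := {one}) ?_ (Set.toFinite _)) (by rw [Set.ncard_singleton]; norm_num)
        rintro g ⟨b, hb, rfl⟩; exact hex b hb
    have := C.card_of_image B hB
    nlinarith [Nat.mul_le_mul h2im hnJ.le]

end Core

end CfsgLib.U6Rec
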