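/-
Fusion in the elementary abelian subgroup: the normaliser is transitive on the conjugates of the involution.
-/
import Cfsg.Agent.Lib.U6Rec.Sub

set_option autoImplicit false
set_option maxRecDepth 100000

namespace CfsgLib.U6Rec

theorem par_lt_low {k : ℕ} (hk : k < 960) {v : ℕ} (hv : v < 16) : app (par k) v < 16 := by
  have := Nat.le_of_ble_eq_true (List.all_eq_true.mp (List.all_eq_true.mp par_line k (List.mem_range.mpr hk)) v (List.mem_range.mpr hv))
  omega

theorem getD_lt {l : List ℕ} {i n b : ℕ} (hl : l.length = n) (hi : i < n) (h : l.getD i b < b) : l.getD i 0 < b := by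
  simp only [List.getD_eq_getElem?_getD, List.getElem?_eq_getElem (show i < l.length by omega), Option.getD_some] at h ⊢
  exact h

theorem toFive_lt {i : ℕ} (hi : i < 5) : toFive.getD i 0 < 960 := by
  have h := List.all_eq_true.mp to_five i (List.mem_range.mpr hi)
  rw [Bool.and_eq_true, decide_eq_true_eq] at h
  exact getD_lt (show toFive.length = 5 by decide +kernel) hi h.1

theorem toTen_lt {i : ℕ} (hi : i < 10) : toTen.getD i 0 < 960 := by
  have h := List.all_eq_true.mp to_ten i (List.mem_range.mpr hi)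
  rw [Bool.and_eq_true, decide_eq_true_eq] at h
  exact getD_lt (show toTen.length = 10 by decide +kernel) hi h.1

theorem toFifteen_lt {i : ℕ} (hi : i < 15) : toFifteen.getD i 0 < 960 := by
  have h := List.all_eq_true.mp to_fifteen i (List.mem_range.mpr hi)
  rw [Bool.and_eq_true, decide_eq_true_eq] at h
  exact getD_lt (show toFifteen.length = 15 by decide +kernel) hi h.1

theorem five_par {n : ℕ} (hn : n ∈ [1, 2, 4, 8, 15]) :
    ∃ k < 960, comp (par k) (rOf 1) = comp (rOf n) (par k) := by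
  obtain ⟨i, hi, ei⟩ := five_index n hn
  have h16 : n < 16 := (show ∀ n ∈ [1, 2, 4, 8, 15], n < 16 by decide) n hn
  have h := List.all_eq_true.mp to_five i (List.mem_range.mpr hi)
  rw [Bool.and_eq_true, decide_eq_true_eq, Nat.beq_eq] at h
  refine ⟨_, toFive_lt hi, ?_⟩
  rw [(r_point 1 (by norm_num) (by decide)).1, show rPt 1 = 1 from rfl, (inU_par (toFive_lt hi)).unit.tv_comm (by norm_num),
    h.2, ← ei, (r_point n h16 (comp_perp n hn).1).1]

theorem ten_par {n : ℕ} (hn : n ∈ [3, 5, 6, 7, 9, 10, 11, 12, 13, 14]) :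
    ∃ k < 960, comp (par k) (rOf 3) = comp (rOf n) (par k) := by
  obtain ⟨i, hi, ei⟩ := ten_index n hn
  have h := List.all_eq_true.mp to_ten i (List.mem_range.mpr hi)
  rw [Bool.and_eq_true, decide_eq_true_eq, Nat.beq_eq, ← ei] at h
  exact ⟨_, toTen_lt hi, h.2⟩

namespace Core

variable {G : Type*} [Group G] (C : Core G)

/-- Conjugate to the involution. -/
def Cj (x : G) : Prop := ∃ g, g * C.z * g⁻¹ = x

theorem Cj_conj {x : G} (h : C.Cj x) (k : G) : C.Cj (k * x * k⁻¹) := by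
  obtain ⟨g, rfl⟩ := h; exact ⟨k * g, by group⟩

theorem Cj_conj_iff {x : G} (k : G) : C.Cj (k * x * k⁻¹) ↔ C.Cj x :=
  ⟨fun h => by simpa [mul_assoc] using C.Cj_conj h k⁻¹, fun h => C.Cj_conj h k⟩

theorem Cj_z : C.Cj C.z := ⟨1, by group⟩

theorem Cj_ne_one {x : G} (h : C.Cj x) : x ≠ 1 := by obtain ⟨g, rfl⟩ := h; exact (C.conj_invol g).2

theorem Cj_sq {x : G} (h : C.Cj x) : x * x = 1 := by obtain ⟨g, rfl⟩ := h; exact (C.conj_invol g).1

/-- The normaliser of the elementary abelian subgroup. -/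
def NA : Subgroup G := Subgroup.normalizer (C.A : Set G)

/-- Its part in the centraliser. -/
def NH : Subgroup G := C.NA ⊓ C.H

variable [Finite G]

theorem mem_NA {g : G} : g ∈ C.NA ↔ ∀ a ∈ C.A, g * a * g⁻¹ ∈ C.A := by
  refine ⟨fun h a ha => (Subgroup.mem_normalizer_iff.mp h a).mp ha, fun h => Subgroup.mem_normalizer_iff.mpr fun a => ⟨h a, fun ha => ?_⟩⟩
  let f : ↥C.A → ↥C.A := fun a => ⟨g * a.1 * g⁻¹, h a.1 a.2⟩
  have hf : Function.Injective f := fun a b e => Subtype.ext (by simpa [f] using congrArg Subtype.val e)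
  obtain ⟨b, hb⟩ := Finite.injective_iff_surjective.mp hf ⟨_, ha⟩
  have : b.1 = a := by simpa [f] using congrArg Subtype.val hb
  rw [← this]; exact b.2

theorem NA_conj {g a : G} (hg : g ∈ C.NA) (ha : a ∈ C.A) : g * a * g⁻¹ ∈ C.A := C.mem_NA.mp hg a ha

theorem J_le_NH : C.J ≤ C.NH := fun j hj => ⟨C.mem_NA.mpr fun _ ha =>
  C.A_conj (C.Jz j hj) (fun v hv => by rw [C.ρ_J hj, app_one v (by omega)]; exact hv) ha, C.J_le_H hj⟩

theorem par_mem_NH {p : G} (hp : Commute p C.z) {k : ℕ} (hk : k < 960) (e : C.ρ p = par k) : p ∈ C.NH :=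
  ⟨C.mem_NA.mpr fun _ ha => C.par_A hp hk e ha, C.mem_H.mpr hp⟩

theorem par_lift {k : ℕ} (hk : k < 960) : ∃ p ∈ C.NH, C.ρ p = par k := by
  obtain ⟨p, hp, e⟩ := C.ρ_surj _ (inU_par hk)
  exact ⟨p, C.par_mem_NH hp hk e, e⟩

theorem NH_par {h : G} (hh : h ∈ C.NH) : ∃ k < 960, C.ρ h = par k := by
  have hz := C.mem_H.mp hh.2
  have low : ∀ v < 16, app (C.ρ h) v < 16 := by
    intro v hv
    obtain ⟨j, hj, rfl⟩ := C.κ_surj v (by omega)
    rw [← C.κ_conj h hz j hj]
    exact (C.mem_Wt (C.conjJ h hz j hj) (C.NA_conj hh.1 (C.Wt_le_A ⟨hj, hv⟩))).2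
  exact par_spec (C.ρ_mem h hz) (low 1 (by norm_num)) (low 4 (by norm_num))

theorem card_NH : Nat.card C.NH = 960 * 512 := by
  have hinf : C.NH ⊓ C.J = C.J := inf_eq_right.mpr C.J_le_NH
  have him : C.ρ '' (C.NH : Set G) = ↑(((List.range 960).map par).toFinset) := by
    ext g
    rw [Finset.mem_coe, List.mem_toFinset]
    constructor
    · rintro ⟨h, hh, rfl⟩
      obtain ⟨k, hk, e⟩ := C.NH_par hh
      exact List.mem_map.mpr ⟨k, List.mem_range.mpr hk, e.symm⟩
    · intro hg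
      obtain ⟨k, hk, rfl⟩ := List.mem_map.mp hg
      obtain ⟨p, hp, e⟩ := C.par_lift (List.mem_range.mp hk)
      exact ⟨p, hp, e⟩
  rw [C.card_of_image C.NH inf_le_right, hinf, C.Jcard, him, Nat.card_coe_set_eq, Set.ncard_coe_finset,
    List.toFinset_card_of_nodup par_nodup, List.length_map, List.length_range]

/-- Conjugates of the involution inside the elementary abelian subgroup are conjugate in its normaliser. -/
theorem fusion (hne : C.NonIsolated) {g : G} (hx : g * C.z * g⁻¹ ∈ C.A) :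
    ∃ n ∈ C.NA, n * C.z * n⁻¹ = g * C.z * g⁻¹ := by
  set B := C.A.map (MulAut.conj g⁻¹).toMonoidHom with hB
  have mB : ∀ {b : G}, b ∈ B ↔ ∃ a ∈ C.A, g⁻¹ * a * g = b := fun {b} => by
    rw [hB, Subgroup.mem_map]
    simp
  have zB : C.z ∈ B := mB.mpr ⟨_, hx, by group⟩
  have cB : ∀ a ∈ B, ∀ b ∈ B, Commute a b := by
    intro a ha b hb
    obtain ⟨u, hu, rfl⟩ := mB.mp ha
    obtain ⟨v, hv, rfl⟩ := mB.mp hb
    show g⁻¹ * u * g * (g⁻¹ * v * g) = g⁻¹ * v * g * (g⁻¹ * u * g)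
    calc g⁻¹ * u * g * (g⁻¹ * v * g) = g⁻¹ * (u * v) * g := by group
      _ = _ := by rw [(C.A_abelian hne hu hv).eq]; group
  have sB : ∀ b ∈ B, b * b = 1 := by
    intro b hb
    obtain ⟨u, hu, rfl⟩ := mB.mp hb
    rw [show g⁻¹ * u * g * (g⁻¹ * u * g) = g⁻¹ * (u * u) * g by group, C.A_sq_one hne hu]; group
  have cardB : Nat.card B = 512 := by
    rw [← C.card_A]
    exact Nat.card_congr (Subgroup.equivMapOfInjective _ _ (MulAut.conj g⁻¹).injective).symm.toEquiv
  obtain ⟨h, hh, hsub⟩ := C.elem_conj hne (fun b hb => C.mem_H.mpr (cB b hb _ zB)) cB sB cardB.ge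
  refine ⟨g * h⁻¹, ?_, ?_⟩
  · have eq : B.map (MulAut.conj h).toMonoidHom = C.A := Subgroup.eq_of_le_of_card_ge
      (by rintro _ ⟨b, hb, rfl⟩; exact hsub b hb)
      (by rw [C.card_A, ← cardB]; exact (Nat.card_congr (Subgroup.equivMapOfInjective _ _ (MulAut.conj h).injective).toEquiv).le)
    refine C.mem_NA.mpr fun a ha => ?_
    rw [← eq] at ha
    obtain ⟨b, hb, rfl⟩ := ha
    obtain ⟨u, hu, rfl⟩ := mB.mp hb
    simpa [mul_assoc] using hu
  · rw [show g * h⁻¹ * C.z * (g * h⁻¹)⁻¹ = g * (h⁻¹ * C.z * h) * g⁻¹ by group, hh.inv_left.eq, inv_mul_cancel_right]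

/-- The conjugates of the involution in the elementary abelian subgroup. -/
def O : Set G := {x | x ∈ C.A ∧ C.Cj x}

theorem z_mem_O : C.z ∈ C.O := ⟨C.Wt_le_A C.z_Wt, C.Cj_z⟩

theorem O_conj {g x : G} (hg : g ∈ C.NA) (hx : x ∈ C.O) : g * x * g⁻¹ ∈ C.O :=
  ⟨C.NA_conj hg hx.1, C.Cj_conj hx.2 g⟩

theorem O_conj_iff {g x : G} (hg : g ∈ C.NA) : g * x * g⁻¹ ∈ C.O ↔ x ∈ C.O :=
  ⟨fun h => by simpa [mul_assoc] using C.O_conj (inv_mem hg) h, fun h => C.O_conj hg h⟩

theorem O_transitive (hne : C.NonIsolated) {x : G} (hx : x ∈ C.O) : ∃ n ∈ C.NA, n * C.z * n⁻¹ = x := by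
  obtain ⟨hA, g, rfl⟩ := hx
  exact C.fusion hne hA

theorem card_NA (hne : C.NonIsolated) : Nat.card C.NA = C.O.ncard * (960 * 512) := by
  rw [← C.card_NH, Subgroup.card_eq_card_quotient_mul_card_subgroup (C.NH.subgroupOf C.NA),
    Nat.card_congr (Subgroup.subgroupOfEquivOfLe (show C.NH ≤ C.NA from inf_le_left)).toEquiv]
  congr 1
  let f : ↥C.NA → ↥C.O := fun n => ⟨n * C.z * (n : G)⁻¹, C.O_conj n.2 C.z_mem_O⟩
  have hq : ∀ a b : ↥C.NA, (QuotientGroup.leftRel (C.NH.subgroupOf C.NA)).r a b ↔ f a = f b := by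
    intro a b
    rw [QuotientGroup.leftRel_apply, Subgroup.mem_subgroupOf, Subtype.ext_iff]
    constructor
    · intro h
      have hc : Commute ((a : G)⁻¹ * b) C.z := C.mem_H.mp h.2
      show (a : G) * C.z * (a : G)⁻¹ = b * C.z * (b : G)⁻¹
      calc (a : G) * C.z * (a : G)⁻¹ = a * (C.z * ((a : G)⁻¹ * b)) * (b : G)⁻¹ := by group
        _ = _ := by rw [← hc.eq]; group
    · intro h
      refine ⟨C.NA.mul_mem (C.NA.inv_mem a.2) b.2, C.mem_H.mpr ?_⟩
      show (a : G)⁻¹ * b * C.z = C.z * ((a : G)⁻¹ * b)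
      have h' : (a : G) * C.z * (a : G)⁻¹ = b * C.z * (b : G)⁻¹ := h
      calc (a : G)⁻¹ * b * C.z = (a : G)⁻¹ * (b * C.z * (b : G)⁻¹) * b := by group
        _ = _ := by rw [← h']; group
  rw [← Nat.card_coe_set_eq]
  refine Nat.card_eq_of_bijective (Quotient.lift f fun a b h => (hq a b).mp h) ⟨fun x y =>
    Quotient.inductionOn₂ x y fun a b h => Quotient.sound ((hq a b).mpr h), fun x => ?_⟩
  obtain ⟨n, hn, e⟩ := C.O_transitive hne x.2
  exact ⟨QuotientGroup.mk ⟨n, hn⟩, Subtype.ext e⟩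

/-- The elements over a given member of the radical. -/
def coset (n : ℕ) : Set G := {a | a ∈ C.A ∧ C.ρ a = rOf n}

theorem coset_par {p : G} (hp : p ∈ C.NH) {k n m : ℕ} (hk : C.ρ p = par k) (e : comp (par k) (rOf n) = comp (rOf m) (par k))
    (a : G) : a ∈ C.coset n ↔ p * a * p⁻¹ ∈ C.coset m := by
  have hz := C.mem_H.mp hp.2
  have key : ∀ b, Commute b C.z → C.ρ (p * b * p⁻¹) = comp (comp (par k) (C.ρ b)) (C.ρ p⁻¹) := fun b hb => by
    rw [C.ρ_mul (hz.mul_left hb) hz.inv_left, C.ρ_mul hz hb, hk]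
  have pp : comp (par k) (C.ρ p⁻¹) = one := by rw [← hk, ← C.ρ_mul hz hz.inv_left, mul_inv_cancel, C.ρ_one]
  constructor
  · intro ha
    refine ⟨C.NA_conj hp.1 ha.1, ?_⟩
    rw [key a (C.A_comm ha.1), ha.2, e, comp_assoc, pp, r_form]
  · intro ha
    have haA : a ∈ C.A := by simpa [mul_assoc] using C.NA_conj (inv_mem hp.1) ha.1
    refine ⟨haA, ?_⟩
    have e2 := ha.2
    rw [key a (C.A_comm haA)] at e2
    have e3 := congrArg (fun g => comp g (par k)) e2
    simp only [← e] at e3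
    rw [comp_assoc, show comp (C.ρ p⁻¹) (par k) = one by rw [← hk, C.ρ_inv_left hz], comp_one] at e3
    have e4 := congrArg (comp (C.ρ p⁻¹)) e3
    rw [← comp_assoc, ← comp_assoc, show comp (C.ρ p⁻¹) (par k) = one by rw [← hk, C.ρ_inv_left hz],
      ← (C.ρ_mem a (C.A_comm haA)).form, one_comp, ← r_form n, one_comp, (C.ρ_mem a (C.A_comm haA)).form, r_form] at e4
    exact e4

/-- The number of conjugates over a member. -/
noncomputable def cnt (n : ℕ) : ℕ := (C.O ∩ C.coset n).ncard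

theorem cnt_eq {n m k : ℕ} (hk : k < 960) (e : comp (par k) (rOf n) = comp (rOf m) (par k)) : C.cnt n = C.cnt m := by
  obtain ⟨p, hp, ep⟩ := C.par_lift hk
  unfold cnt
  rw [← Set.ncard_image_of_injective (C.O ∩ C.coset n) (MulAut.conj p).injective]
  congr 1
  ext x
  simp only [Set.mem_image, Set.mem_inter_iff, MulAut.conj_apply]
  constructor
  · rintro ⟨a, ⟨h1, h2⟩, rfl⟩
    exact ⟨C.O_conj hp.1 h1, (C.coset_par hp ep e a).mp h2⟩
  · intro h
    refine ⟨p⁻¹ * x * p, ⟨by simpa [mul_assoc] using C.O_conj (inv_mem hp.1) h.1, (C.coset_par hp ep e _).mpr ?_⟩, by group⟩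
    rw [show p * (p⁻¹ * x * p) * p⁻¹ = x by group]; exact h.2

theorem card_O : C.O.ncard = ∑ n ∈ Finset.range 16, C.cnt n := by
  classical
  haveI := Fintype.ofFinite G
  have idx : ∀ n < 16, rL.idxOf (rOf n) = n := by decide +kernel
  have cn : ∀ n ∈ Finset.range 16, C.cnt n = (C.O.toFinset.filter fun x => rL.idxOf (C.ρ x) = n).card := by
    intro n hn
    rw [cnt, Set.ncard_eq_toFinset_card']
    congr 1
    ext x
    simp only [Set.mem_toFinset, Set.mem_inter_iff, Finset.mem_filter]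
    constructor
    · intro h; exact ⟨h.1, by rw [h.2.2, idx n (Finset.mem_range.mp hn)]⟩
    · intro h
      obtain ⟨m, hm, e⟩ := C.ρ_A h.1.1
      have := h.2
      rw [e, idx m hm] at this
      exact ⟨h.1, h.1.1, this ▸ e⟩
  rw [Finset.sum_congr rfl cn, Set.ncard_eq_toFinset_card']
  refine Finset.card_eq_sum_card_fiberwise fun x hx => ?_
  obtain ⟨m, hm, e⟩ := C.ρ_A (Set.mem_toFinset.mp hx).1
  simp only [Finset.coe_range, Set.mem_Iio, e, idx m hm]
  exact hm

theorem card_O' : C.O.ncard = C.cnt 0 + 5 * C.cnt 1 + 10 * C.cnt 3 := by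
  rw [C.card_O]
  have f : ∀ n ∈ [1, 2, 4, 8, 15], C.cnt n = C.cnt 1 := fun n hn => by
    obtain ⟨k, hk, e⟩ := five_par hn; exact (C.cnt_eq hk e).symm
  have t : ∀ n ∈ [3, 5, 6, 7, 9, 10, 11, 12, 13, 14], C.cnt n = C.cnt 3 := fun n hn => by
    obtain ⟨k, hk, e⟩ := ten_par hn; exact (C.cnt_eq hk e).symm
  simp only [Finset.sum_range_succ, Finset.sum_range_zero, f 2 (by decide), f 4 (by decide), f 8 (by decide), f 15 (by decide),
    t 5 (by decide), t 6 (by decide), t 7 (by decide), t 9 (by decide), t 10 (by decide), t 11 (by decide), t 12 (by decide),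
    t 13 (by decide), t 14 (by decide)]
  ring

end Core

end CfsgLib.U6Rec
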