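/-
The possible numbers of conjugates of the involution over each member of the radical.
-/
import Cfsg.Agent.Lib.U6Rec.Fuse

set_option autoImplicit false
set_option maxRecDepth 100000

namespace CfsgLib.U6Rec

theorem herm_hit : ∀ c < 4, ∃ v < 256, herm v 1 = c := by decide +kernel

theorem smul_one_point : ∀ c < 4, smul4 c 1 = c := by decide +kernel

theorem flip_out : ∀ w < 16, 4 ≤ w → ∃ v < 256, herm v 1 = 0 ∧ polar v w = 1 := by decide +kernel

theorem low_of_perp : ∀ w < 16, polar w 64 = 0 → polar w 128 = 0 → w < 4 := by decide +kernel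

theorem shift_three : ∀ c < 16, ∃ v < 256, v ^^^ app (rOf 3) v = c := by decide +kernel

theorem class_cases : ∀ w < 16, 4 ≤ w → ∃ i < 3, w &&& 12 = 4 * (i + 1) := by decide +kernel

theorem xor_class : ∀ x < 16, ∀ y < 16, x &&& 12 = y &&& 12 → x ^^^ y < 4 := by decide +kernel

theorem class_four : ∀ x < 4, (4 ^^^ x) &&& 12 = 4 ∧ (x ^^^ 0) < 4 := by decide +kernel

theorem coset_par_one {k i : ℕ} (hi : i < 3) (hk : k = toCoset.getD i 0) : k < 960 ∧
    comp (par k) (rOf 1) = comp (rOf 1) (par k) ∧ (app (par k) 4) &&& 12 = 4 * (i + 1) := by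
  have h := List.all_eq_true.mp to_coset i (List.mem_range.mpr hi)
  rw [Bool.and_eq_true, Bool.and_eq_true, decide_eq_true_eq, Nat.beq_eq, Nat.beq_eq] at h
  have hk' : toCoset.getD i 0 < 960 := getD_lt (show toCoset.length = 3 by decide +kernel) hi h.1.1
  subst hk
  refine ⟨hk', ?_, h.2⟩
  rw [(r_point 1 (by norm_num) (by decide)).1, show rPt 1 = 1 from rfl, (inU_par hk').unit.tv_comm (by norm_num), h.1.2]

theorem count_zero : ∀ e0 e : Bool, e0 = true →
    ((List.range 32).countP fun i => bif Nat.ble (i / 2) 0 then Nat.beq (i % 2) 1 && e0 else e) ∈ [1, 31] := by decide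

theorem count_one : ∀ e0 e1 e2 : Bool,
    ((List.range 32).countP fun i => bif Nat.ble (i / 2) 3 then (bif Nat.beq (i % 2) 0 then e0 else e1) else e2) =
      (bif e0 then 4 else 0) + (bif e1 then 4 else 0) + (bif e2 then 24 else 0) := by decide

theorem count_three : ∀ e0 e1 : Bool,
    ((List.range 32).countP fun i => bif Nat.beq (i % 2) 0 then e0 else e1) =
      (bif e0 then 16 else 0) + (bif e1 then 16 else 0) := by decide

namespace Core

variable {G : Type*} [Group G] (C : Core G) [Finite G]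

theorem Cj_comm_iff {x : G} {k : G} {y : G} (h : k * x * k⁻¹ = y) : C.Cj x ↔ C.Cj y := by
  rw [← h, C.Cj_conj_iff]

/-- Counting over a member with a system of representatives of the preimage of the line. -/
theorem cnt_count {n : ℕ} {a : G} (ha : a ∈ C.coset n) (s : ℕ → G) (hs : ∀ c < 16, s c ∈ C.Wt ∧ C.κ (s c) = c)
    (Q : ℕ → Bool) (hQ : ∀ c < 16, ∀ b < 2, Q (2 * c + b) = true ↔ C.Cj (a * s c * C.zp b)) :
    C.cnt n = (List.range 32).countP Q := by
  classical
  let f : ℕ → G := fun i => a * s (i / 2) * C.zp (i % 2)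
  have hf : ∀ i < 32, f i ∈ C.coset n := by
    intro i hi
    have hw : s (i / 2) * C.zp (i % 2) ∈ C.Wt :=
      mul_mem (hs _ (by omega)).1 (by unfold zp; split <;> [exact C.z_Wt; exact one_mem _])
    refine ⟨by simp only [f]; rw [mul_assoc]; exact mul_mem ha.1 (C.Wt_le_A hw), ?_⟩
    simp only [f]
    rw [mul_assoc, C.ρ_mul (C.A_comm ha.1) (C.Jz _ hw.1), C.ρ_J hw.1, ha.2, r_form]
  have hinj : Set.InjOn f (Set.Iio 32) := by
    intro i hi j hj e
    simp only [Set.mem_Iio] at hi hj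
    simp only [f, mul_assoc, mul_right_inj] at e
    have e' := congrArg C.κ e
    have kz : ∀ b, C.κ (C.zp b) = 0 := fun b => by unfold zp; split <;> simp [C.κ_z, C.κ_one]
    rw [C.κ_mul _ (hs _ (by omega)).1.1 _ (C.zp_mem _), C.κ_mul _ (hs _ (by omega)).1.1 _ (C.zp_mem _), kz, kz,
      Nat.xor_zero, Nat.xor_zero, (hs _ (by omega)).2, (hs _ (by omega)).2] at e'
    rw [e', mul_right_inj] at e
    have := C.zp_inj (by omega) (by omega) e
    omega
  have hset : C.O ∩ C.coset n = f '' ↑(((List.range 32).filter Q).toFinset) := by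
    ext x
    simp only [Set.mem_inter_iff, Set.mem_image, List.coe_toFinset, Set.mem_setOf_eq, List.mem_filter, List.mem_range]
    constructor
    · intro hx
      obtain ⟨w, hw, rfl⟩ := C.same_image ha.1 hx.2.1 (ha.2.trans hx.2.2.symm)
      have hc : C.κ w < 16 := hw.2
      obtain ⟨hs1, hs2⟩ := hs _ hc
      obtain ⟨b, hb, eb⟩ : ∃ b < 2, w = s (C.κ w) * C.zp b := by
        rcases (C.κ_eq hw.1 hs1.1).mp hs2.symm with r | r
        · exact ⟨0, by norm_num, r.trans (mul_one _).symm⟩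
        · exact ⟨1, by norm_num, r⟩
      refine ⟨2 * C.κ w + b, ⟨by omega, (hQ _ hc b hb).mpr ?_⟩, ?_⟩
      · rw [mul_assoc, ← eb]; exact hx.1.2
      · simp only [f]
        rw [show (2 * C.κ w + b) / 2 = C.κ w by omega, show (2 * C.κ w + b) % 2 = b by omega, mul_assoc, ← eb]
    · rintro ⟨i, ⟨hi, hq⟩, rfl⟩
      refine ⟨⟨(hf i hi).1, ?_⟩, hf i hi⟩
      rw [show i = 2 * (i / 2) + i % 2 by omega] at hq
      exact (hQ _ (by omega) _ (by omega)).mp hq
  unfold cnt
  rw [hset, Set.InjOn.ncard_image (hinj.mono fun i hi => by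
      simp only [List.coe_toFinset, Set.mem_setOf_eq, List.mem_filter, List.mem_range] at hi; exact hi.1),
    Set.ncard_coe_finset, List.toFinset_card_of_nodup (List.nodup_range.filter _), List.countP_eq_length_filter]

theorem Cj_flip {x w k : G} (hx : Commute k x) (hk : k ∈ C.J) (hw : w ∈ C.J) (hp : polar (C.κ k) (C.κ w) = 1) :
    C.Cj (x * w) ↔ C.Cj (x * w * C.z) := by
  refine C.Cj_comm_iff (k := k) ?_
  have s := C.swap hk hw
  rw [hp, show C.zp 1 = C.z from rfl] at s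
  calc k * (x * w) * k⁻¹ = (k * x) * w * k⁻¹ := by group
    _ = x * (k * w) * k⁻¹ := by rw [hx.eq]; group
    _ = x * (C.z * w) := by rw [s]; group
    _ = _ := by rw [← (C.Jz w hw).eq, mul_assoc]

theorem Wt_conj {u : G} (hu : u ∈ C.Wt) (h0 : C.κ u ≠ 0) {e1 : G} (he : e1 ∈ C.J) (k1 : C.κ e1 = 1) :
    C.Cj e1 ↔ C.Cj u := by
  have hu16 : C.κ u < 16 := hu.2
  have h := List.all_eq_true.mp to_fifteen (C.κ u - 1) (List.mem_range.mpr (by omega))
  rw [Bool.and_eq_true, decide_eq_true_eq, Nat.beq_eq] at h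
  obtain ⟨p, hp, ep⟩ := C.par_lift (toFifteen_lt (show C.κ u - 1 < 15 by omega))
  have hz := C.mem_H.mp hp.2
  have e : C.κ (p * e1 * p⁻¹) = C.κ u := by rw [C.κ_conj p hz e1 he, ep, k1, h.2]; omega
  rcases (C.κ_eq (C.conjJ p hz e1 he) hu.1).mp e with r | r
  · exact C.Cj_comm_iff r
  · rw [C.Cj_comm_iff r]
    obtain ⟨v, hv, hp1⟩ : ∃ v < 256, polar v (C.κ u) = 1 := by
      have : ∀ w < 16, w ≠ 0 → ∃ v < 256, polar v w = 1 := by decide +kernel
      exact this _ hu16 h0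
    obtain ⟨k, hk, rfl⟩ := C.κ_surj v hv
    have := C.Cj_flip (x := 1) (Commute.one_right k) hk hu.1 hp1
    rw [one_mul] at this
    exact this.symm

theorem cnt_zero : C.cnt 0 = 1 ∨ C.cnt 0 = 31 := by
  classical
  choose t ht using fun c => C.κ_surj (c % 256) (Nat.mod_lt _ (by norm_num))
  let s : ℕ → G := fun c => if c = 0 then 1 else t c
  have hs : ∀ c < 16, s c ∈ C.Wt ∧ C.κ (s c) = c := by
    intro c hc
    simp only [s]
    split
    · next h => subst h; exact ⟨one_mem _, C.κ_one⟩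
    · have e : C.κ (t c) = c := by rw [(ht c).2, Nat.mod_eq_of_lt (by omega)]
      exact ⟨⟨(ht c).1, by rw [e]; exact hc⟩, e⟩
  obtain ⟨e1, he1, k1⟩ := C.κ_surj 1 (by norm_num)
  have key := C.cnt_count (n := 0) (a := 1) ⟨one_mem _, by rw [C.ρ_one, r_inj.2.2]⟩ s hs
    (fun i => bif Nat.ble (i / 2) 0 then Nat.beq (i % 2) 1 && true else decide (C.Cj e1)) ?_
  · rw [key]
    have := count_zero true (decide (C.Cj e1)) rfl
    simpa using this
  intro c hc b hb
  rw [one_mul, show (2 * c + b) / 2 = c by omega, show (2 * c + b) % 2 = b by omega]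
  by_cases h0 : c = 0
  · subst h0
    simp only [Nat.ble_self_eq_true, cond_true, Bool.and_true, s, if_pos, one_mul, Nat.beq_eq]
    constructor
    · rintro rfl; exact C.Cj_z
    · intro h
      by_contra hb1
      exact C.Cj_ne_one h (by simp [zp, hb1])
  · rw [show Nat.ble c 0 = false by rw [Bool.eq_false_iff]; intro e; exact h0 (Nat.le_zero.mp (Nat.le_of_ble_eq_true e)), cond_false,
      decide_eq_true_eq]
    have hw : s c * C.zp b ∈ C.Wt := mul_mem (hs c hc).1 (by unfold zp; split <;> [exact C.z_Wt; exact one_mem _])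
    refine C.Wt_conj hw ?_ he1 k1
    rw [C.κ_mul _ (hs c hc).1.1 _ (C.zp_mem b), (hs c hc).2]
    unfold zp; split <;> simp [C.κ_z, C.κ_one, h0]

theorem cnt_three (hne : C.NonIsolated) : ∃ e0 e1 : Bool, C.cnt 3 = (bif e0 then 16 else 0) + (bif e1 then 16 else 0) := by
  classical
  obtain ⟨u, hu, eu⟩ := C.lift_A (show 3 < 16 by norm_num)
  choose v hv hvs using fun c : Fin 16 => shift_three c c.2
  choose j hj hjk using fun c : Fin 16 => C.κ_surj (v c) (hv c)
  have uz := C.A_comm hu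
  let s : ℕ → G := fun c => if h : c < 16 then u⁻¹ * (j ⟨c, h⟩ * u * (j ⟨c, h⟩)⁻¹) else 1
  have hs : ∀ c < 16, s c ∈ C.Wt ∧ C.κ (s c) = c := by
    intro c hc
    simp only [s, dif_pos hc]
    set k := j ⟨c, hc⟩ with hk
    have hJ : u⁻¹ * (k * u * k⁻¹) ∈ C.J := by
      rw [show u⁻¹ * (k * u * k⁻¹) = (u⁻¹ * k * u⁻¹⁻¹) * k⁻¹ by group]
      exact mul_mem (C.conjJ _ uz.inv_left _ (hj _)) (inv_mem (hj _))
    have e : C.κ (u⁻¹ * (k * u * k⁻¹)) = c := by
      rw [show u⁻¹ * (k * u * k⁻¹) = (u⁻¹ * k * u⁻¹⁻¹) * k⁻¹ by group,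
        C.κ_mul _ (C.conjJ _ uz.inv_left _ (hj _)) _ (inv_mem (hj _)), C.κ_inv (hj _), C.κ_conj _ uz.inv_left _ (hj _),
        inv_eq_of_mul_eq_one_right (C.A_sq_one hne hu), eu, hjk, Nat.xor_comm]
      exact hvs ⟨c, hc⟩
    exact ⟨⟨hJ, by rw [e]; exact hc⟩, e⟩
  refine ⟨decide (C.Cj u), decide (C.Cj (u * C.z)), ?_⟩
  rw [← count_three]
  refine C.cnt_count ⟨hu, eu⟩ s hs _ fun c hc b hb => ?_
  rw [show (2 * c + b) % 2 = b by omega]
  set k := j ⟨c, hc⟩
  have e : ∀ y, Commute k y → (C.Cj (u * y) ↔ C.Cj (u * s c * y)) := by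
    intro y hy
    refine C.Cj_comm_iff (k := k) ?_
    simp only [s, dif_pos hc]
    calc k * (u * y) * k⁻¹ = k * u * (y * k⁻¹) := by group
      _ = k * u * (k⁻¹ * y) := by rw [hy.inv_left.eq]
      _ = _ := by group; rfl
  interval_cases b
  · rw [show Nat.beq 0 0 = true from rfl, cond_true, decide_eq_true_eq, show C.zp 0 = 1 from rfl, mul_one]
    simpa using e 1 (Commute.one_right _)
  · rw [show Nat.beq 1 0 = false from rfl, cond_false, decide_eq_true_eq, show C.zp 1 = C.z from rfl]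
    exact e C.z (C.Jz k (hj _))

/-- The canonical lift of the first transvection, with its translates. -/
theorem first_frame (hne : C.NonIsolated) : ∃ a t : ℕ → G,
    (a 0 ∈ C.coset 1 ∧ ∀ j ∈ C.Kr 1, Commute (a 0) j) ∧
    (∀ c < 4, t c ∈ C.Wt ∧ C.κ (t c) = c ∧ ∃ j ∈ C.J, herm (C.κ j) 1 = c ∧ a 0 * t c = j * a 0 * j⁻¹) := by
  obtain ⟨a0, ha, ea, hk⟩ := C.canon (show 1 ∈ [1, 2, 4, 8, 15] by decide)
  rw [show rPt 1 = 1 from rfl] at hk
  choose v hv hvc using fun c : Fin 4 => herm_hit c c.2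
  choose j hj hjk using fun c : Fin 4 => C.κ_surj (v c) (hv c)
  have az := C.A_comm ha
  refine ⟨fun _ => a0, fun c => if h : c < 4 then a0⁻¹ * (j ⟨c, h⟩ * a0 * (j ⟨c, h⟩)⁻¹) else 1, ⟨⟨ha, ea⟩, hk⟩, fun c hc => ?_⟩
  simp only [dif_pos hc]
  set k := j ⟨c, hc⟩
  have hJ : a0⁻¹ * (k * a0 * k⁻¹) ∈ C.J := by
    rw [show a0⁻¹ * (k * a0 * k⁻¹) = (a0⁻¹ * k * a0⁻¹⁻¹) * k⁻¹ by group]
    exact mul_mem (C.conjJ _ az.inv_left _ (hj _)) (inv_mem (hj _))
  have e : C.κ (a0⁻¹ * (k * a0 * k⁻¹)) = c := by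
    rw [show a0⁻¹ * (k * a0 * k⁻¹) = (a0⁻¹ * k * a0⁻¹⁻¹) * k⁻¹ by group,
      C.κ_mul _ (C.conjJ _ az.inv_left _ (hj _)) _ (inv_mem (hj _)), C.κ_inv (hj _), C.κ_conj _ az.inv_left _ (hj _),
      inv_eq_of_mul_eq_one_right (C.A_sq_one hne ha), ea, (r_point 1 (by norm_num) (by decide)).1, show rPt 1 = 1 from rfl,
      Nat.xor_comm, tv_move 1 (C.κ_lt k (hj _)), hjk, hvc]
    exact smul_one_point c hc
  refine ⟨⟨hJ, by rw [e]; omega⟩, e, k, hj _, by rw [hjk, hvc], by group⟩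

theorem cnt_one (hne : C.NonIsolated) : ∃ e0 e1 e2 : Bool,
    C.cnt 1 = (bif e0 then 4 else 0) + (bif e1 then 4 else 0) + (bif e2 then 24 else 0) ∧
      (e0 = e1 → ∀ y ∈ C.coset 1, C.Cj y ↔ C.Cj (y * C.z)) := by
  classical
  obtain ⟨a', t, ⟨ha, hk⟩, ht⟩ := C.first_frame hne
  set a := a' 0
  choose r hr hrk using fun c : ℕ => C.κ_surj (c % 256) (Nat.mod_lt _ (by norm_num))
  let s : ℕ → G := fun c => if c < 4 then t c else r c
  have hs : ∀ c < 16, s c ∈ C.Wt ∧ C.κ (s c) = c := by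
    intro c hc
    simp only [s]
    split
    · next h => exact ⟨(ht c h).1, (ht c h).2.1⟩
    · have e : C.κ (r c) = c := by rw [hrk, Nat.mod_eq_of_lt (by omega)]
      exact ⟨⟨hr c, by rw [e]; exact hc⟩, e⟩
  have flip : ∀ w ∈ C.Wt, 4 ≤ C.κ w → (C.Cj (a * w) ↔ C.Cj (a * w * C.z)) := by
    intro w hw h4
    obtain ⟨v, hv, hv1, hp⟩ := flip_out _ hw.2 h4
    obtain ⟨k, hk', rfl⟩ := C.κ_surj v hv
    exact C.Cj_flip (hk k ⟨hk', hv1⟩).symm hk' hw.1 hp
  have kz : ∀ b, C.κ (C.zp b) = 0 := fun b => by unfold zp; split <;> simp [C.κ_z, C.κ_one]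
  have same : ∀ w ∈ C.Wt, ∀ w' ∈ C.Wt, 4 ≤ C.κ w → 4 ≤ C.κ w' → C.κ w &&& 12 = C.κ w' &&& 12 →
      (C.Cj (a * w) ↔ C.Cj (a * w')) := by
    intro w hw w' hw' h4 h4' hcl
    have hc := xor_class _ hw.2 _ hw'.2 hcl
    obtain ⟨htW, hte, j, hj, -, ej⟩ := ht _ hc
    have e1 : C.Cj (a * w) ↔ C.Cj (j * (a * w) * j⁻¹) := (C.Cj_conj_iff j).symm
    have e2 : j * (a * w) * j⁻¹ = a * (t (C.κ w ^^^ C.κ w') * (j * w * j⁻¹)) := by
      rw [show j * (a * w) * j⁻¹ = (j * a * j⁻¹) * (j * w * j⁻¹) by group, ← ej, mul_assoc]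
    have hjw : j * w * j⁻¹ ∈ C.Wt := ⟨mul_mem (mul_mem hj hw.1) (inv_mem hj), by rw [C.κ_conj_J hj hw.1]; exact hw.2⟩
    rw [e1, e2]
    have hκ : C.κ (t (C.κ w ^^^ C.κ w') * (j * w * j⁻¹)) = C.κ w' := by
      rw [C.κ_mul _ htW.1 _ hjw.1, hte, C.κ_conj_J hj hw.1, Nat.xor_comm, xor_cancel_left]
    rcases (C.κ_eq (mul_mem htW.1 hjw.1) hw'.1).mp hκ with q | q <;> rw [q]
    rw [← mul_assoc]
    exact (flip w' hw' h4').symm
  obtain ⟨w4, hw4, k4⟩ := C.κ_surj 4 (by norm_num)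
  have hW4 : w4 ∈ C.Wt := ⟨hw4, by omega⟩
  have outer : ∀ w ∈ C.Wt, 4 ≤ C.κ w → (C.Cj (a * w) ↔ C.Cj (a * w4)) := by
    intro w hw h4
    obtain ⟨i, hi, ei⟩ := class_cases _ hw.2 h4
    obtain ⟨hk', hcomm, hcls⟩ := coset_par_one hi rfl
    obtain ⟨p, hp, ep⟩ := C.par_lift hk'
    have hz := C.mem_H.mp hp.2
    have hpa := (C.coset_par hp ep hcomm a).mp ha
    obtain ⟨x, hx, ex⟩ := C.same_image ha.1 hpa.1 (ha.2.trans hpa.2.symm)
    -- the translate lies over the point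
    have fix1 : ∀ m ∈ C.Kr 1, Commute (p * a * p⁻¹) m := by
      intro m hm
      have hm' : p⁻¹ * m * p ∈ C.J := by simpa using C.conjJ _ hz.inv_left m hm.1
      have hp1 : ∃ c < 4, app (par (toCoset.getD i 0)) 1 = c ∧ c ≠ 0 := by
        have h := List.all_eq_true.mp to_coset i (List.mem_range.mpr hi)
        rw [Bool.and_eq_true, Bool.and_eq_true, Nat.beq_eq] at h
        have lt := par_lt_low hk' (show 1 < 16 by norm_num)
        have ne : app (par (toCoset.getD i 0)) 1 ≠ 0 := fun e => absurd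
          ((inU_par hk').unit.inj (show 1 < 256 by norm_num) (by norm_num) (e.trans (app_zero _).symm)) (by norm_num)
        have : ∀ c < 16, c ≠ 0 → tv c = tv 1 → c < 4 := by decide +kernel
        exact ⟨_, this _ lt ne h.1.2, rfl, ne⟩
      obtain ⟨c, hc, ec, hc0⟩ := hp1
      have hperp : herm (C.κ (p⁻¹ * m * p)) 1 = 0 := by
        have e := C.κ_conj p hz _ hm'
        rw [show p * (p⁻¹ * m * p) * p⁻¹ = m by group, ep] at e
        rw [← (inU_par hk').unit.herm_app _ 1 (C.κ_lt _ hm') (by norm_num), ← e, ec,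
          herm_symm (show c < 256 by omega) (C.κ_lt m hm.1) |>.symm, ← smul_one_point c hc,
          herm_smul_zero hc hc0 (by norm_num) (C.κ_lt m hm.1), herm_symm (by norm_num) (C.κ_lt m hm.1), hm.2]
      have hc' := hk _ ⟨hm', hperp⟩
      show p * a * p⁻¹ * m = m * (p * a * p⁻¹)
      calc p * a * p⁻¹ * m = p * (a * (p⁻¹ * m * p)) * p⁻¹ := by group
        _ = _ := by rw [hc'.eq]; group
    have hx4 : C.κ x < 4 := by
      refine low_of_perp _ hx.2 ?_ ?_
      all_goals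
        first
        | (obtain ⟨m, hm, em⟩ := C.κ_surj 64 (by norm_num)
           have hm1 : m ∈ C.Kr 1 := ⟨hm, by rw [em]; decide⟩
           have h1 := fix1 m hm1
           rw [ex] at h1
           have h2 : Commute x m := by simpa using ((hk m hm1).inv_left).mul_left h1
           have := (C.comm_iff hx.1 hm).mp h2
           rwa [em] at this)
        | (obtain ⟨m, hm, em⟩ := C.κ_surj 128 (by norm_num)
           have hm1 : m ∈ C.Kr 1 := ⟨hm, by rw [em]; decide⟩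
           have h1 := fix1 m hm1
           rw [ex] at h1
           have h2 : Commute x m := by simpa using ((hk m hm1).inv_left).mul_left h1
           have := (C.comm_iff hx.1 hm).mp h2
           rwa [em] at this)
    have hpw : p * w4 * p⁻¹ ∈ C.Wt := by
      refine ⟨C.conjJ p hz w4 hw4, ?_⟩
      rw [C.κ_conj p hz w4 hw4, ep, k4]; exact par_lt_low hk' (by norm_num)
    have e : C.Cj (a * w4) ↔ C.Cj (a * (x * (p * w4 * p⁻¹))) := by
      refine C.Cj_comm_iff (k := p) ?_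
      rw [show p * (a * w4) * p⁻¹ = (p * a * p⁻¹) * (p * w4 * p⁻¹) by group, ex, mul_assoc]
    rw [e]
    have hκ : C.κ (x * (p * w4 * p⁻¹)) = C.κ x ^^^ app (par (toCoset.getD i 0)) 4 := by
      rw [C.κ_mul _ hx.1 _ hpw.1, C.κ_conj p hz w4 hw4, ep, k4]
    have hcl : ∀ x < 4, ∀ y < 16, (x ^^^ y) &&& 12 = y &&& 12 ∧ (4 ≤ y &&& 12 → 4 ≤ x ^^^ y) := by decide +kernel
    obtain ⟨c1, c2⟩ := hcl _ hx4 _ (par_lt_low hk' (show 4 < 16 by norm_num))
    refine same w hw _ (mul_mem hx hpw) h4 ?_ ?_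
    · rw [hκ]; exact c2 (by rw [hcls]; omega)
    · rw [hκ, c1, hcls, ei]
  refine ⟨decide (C.Cj a), decide (C.Cj (a * C.z)), decide (C.Cj (a * w4)), ?_, fun he y hy => ?_⟩
  rotate_left
  · obtain ⟨w, hw, rfl⟩ := C.same_image ha.1 hy.1 (ha.2.trans hy.2.symm)
    have he' : C.Cj a ↔ C.Cj (a * C.z) := decide_eq_decide.mp he
    by_cases h4 : 4 ≤ C.κ w
    · exact flip w hw h4
    obtain ⟨htW, hte, j, hj, -, ej⟩ := ht (C.κ w) (by omega)
    have e : ∀ y, Commute j y → (C.Cj (a * y) ↔ C.Cj (a * t (C.κ w) * y)) := by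
      intro y hy
      refine C.Cj_comm_iff (k := j) ?_
      calc j * (a * y) * j⁻¹ = j * a * (y * j⁻¹) := by group
        _ = j * a * (j⁻¹ * y) := by rw [hy.inv_left.eq]
        _ = _ := by rw [ej]; group
    have e0 := e 1 (Commute.one_right _)
    have e1 := e C.z (C.Jz j hj)
    rw [mul_one, mul_one] at e0
    rcases (C.κ_eq hw.1 htW.1).mp hte.symm with r | r
    · rw [r, ← e0, ← e1, he']
    · rw [r, ← mul_assoc, mul_assoc (a * t (C.κ w)), C.zz, mul_one, ← e0, ← e1, he']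
  rw [← count_one]
  refine C.cnt_count ha s hs _ fun c hc b hb => ?_
  rw [show (2 * c + b) / 2 = c by omega, show (2 * c + b) % 2 = b by omega]
  by_cases h4 : c < 4
  · rw [show Nat.ble c 3 = true from Nat.ble_eq.mpr (by omega), cond_true]
    simp only [s, if_pos h4]
    obtain ⟨-, -, j, hj, -, ej⟩ := ht c h4
    have e : ∀ y, Commute j y → (C.Cj (a * y) ↔ C.Cj (a * t c * y)) := by
      intro y hy
      refine C.Cj_comm_iff (k := j) ?_
      calc j * (a * y) * j⁻¹ = j * a * (y * j⁻¹) := by group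
        _ = j * a * (j⁻¹ * y) := by rw [hy.inv_left.eq]
        _ = _ := by rw [ej]; group
    interval_cases b
    · rw [show Nat.beq 0 0 = true from rfl, cond_true, decide_eq_true_eq, show C.zp 0 = 1 from rfl, mul_one]
      simpa using e 1 (Commute.one_right _)
    · rw [show Nat.beq 1 0 = false from rfl, cond_false, decide_eq_true_eq, show C.zp 1 = C.z from rfl]
      exact e C.z (C.Jz j hj)
  · rw [show Nat.ble c 3 = false by rw [Bool.eq_false_iff]; intro e; have := Nat.le_of_ble_eq_true e; omega, cond_false,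
      decide_eq_true_eq]
    have hw : s c * C.zp b ∈ C.Wt := mul_mem (hs c hc).1 (by unfold zp; split <;> [exact C.z_Wt; exact one_mem _])
    rw [mul_assoc]
    refine (outer _ hw ?_).symm
    rw [C.κ_mul _ (hs c hc).1.1 _ (C.zp_mem b), kz, (hs c hc).2, Nat.xor_zero]; omega

end Core

end CfsgLib.U6Rec
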