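/-
The conjugates of the involution in the elementary abelian subgroup: twenty-one, by excluding the other orbit lengths.
-/
import Cfsg.Agent.Lib.U6Rec.Pieces
import Cfsg.Agent.Lib.U6Rec.AutCard
import Cfsg.Agent.Lib.U6Rec.NoInvol
import Mathlib.GroupTheory.Sylow

set_option autoImplicit false
set_option maxRecDepth 100000

namespace CfsgLib.U6Rec

/-- Orbit lengths compatible with the order of the automorphism group. -/
theorem orbit_lengths : ∀ a ∈ [1, 31], ∀ b ∈ [0, 4, 8, 24, 28, 32], ∀ c ∈ [0, 16, 32],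
    (a + 5 * b + 10 * c) * 960 ∣ ∏ i : Fin 9, (2 ^ 9 - 2 ^ (i : ℕ)) →
    (a = 1 ∧ b = 0 ∧ c = 0) ∨ (a = 1 ∧ b = 4 ∧ c = 0) ∨ (a = 31 ∧ b = 0 ∧ c = 0) ∨ (a = 31 ∧ b = 4 ∧ c = 0) ∨
      (a = 1 ∧ b = 24 ∧ c = 32) ∨ (a = 31 ∧ b = 32 ∧ c = 32) := by decide +kernel

theorem sylow_even_31 : ∀ n ≤ 960, n ∣ 31 * 960 → n % 31 = 1 → 2 ∣ 31 * 960 / n := by decide +kernel

theorem sylow_even_73 : ∀ n ≤ 6720, n ∣ 6720 → n % 73 = 1 → 2 ∣ 511 * 960 / n := by decide +kernel

namespace Core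

variable {G : Type*} [Group G] (C : Core G) [Finite G]

/-- Conjugation of the normaliser on the elementary abelian subgroup. -/
def actA : ↥C.NA →* MulAut ↥C.A where
  toFun n :=
    { toFun := fun a => ⟨n * a * (n : G)⁻¹, C.NA_conj n.2 a.2⟩
      invFun := fun a => ⟨(n : G)⁻¹ * a * n, by simpa using C.NA_conj (C.NA.inv_mem n.2) a.2⟩
      left_inv := fun a => Subtype.ext (by simp [mul_assoc])
      right_inv := fun a => Subtype.ext (by simp [mul_assoc])
      map_mul' := fun a b => Subtype.ext (by simp [mul_assoc]) }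
  map_one' := by ext a; simp
  map_mul' x y := by ext a; simp [mul_assoc]

theorem actA_range (hne : C.NonIsolated) : Nat.card C.actA.range * 512 = C.O.ncard * (960 * 512) := by
  have hker : C.actA.ker = C.A.subgroupOf C.NA := by
    ext n
    rw [Subgroup.mem_subgroupOf, MonoidHom.mem_ker]
    constructor
    · intro h
      refine (C.cent_A hne).mp fun a ha => ?_
      have e : (n : G) * a * (n : G)⁻¹ = a := congrArg (fun f => ((f ⟨a, ha⟩ : ↥C.A) : G)) h
      show (n : G) * a = a * n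
      conv_rhs => rw [← e]
      group
    · intro h
      ext a
      show (n : G) * a * (n : G)⁻¹ = a
      rw [(C.A_abelian hne h a.2).eq, mul_inv_cancel_right]
  have hle : C.A ≤ C.NA := fun a ha => C.mem_NA.mpr fun b hb => mul_mem (mul_mem ha hb) (inv_mem ha)
  rw [← C.card_NA hne, ← Subgroup.index_mul_card C.actA.ker, Subgroup.index_ker, hker,
    Nat.card_congr (Subgroup.subgroupOfEquivOfLe hle).toEquiv, C.card_A]

theorem O_dvd (hne : C.NonIsolated) : C.O.ncard * 960 ∣ ∏ i : Fin 9, (2 ^ 9 - 2 ^ (i : ℕ)) := by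
  have h := C.actA_range hne
  rw [show C.O.ncard * 960 = Nat.card C.actA.range by omega,
    ← card_mulAut_elem (X := ↥C.A) (m := 9) (fun a => Subtype.ext (C.A_sq_one hne a.2)) C.card_A]
  exact Subgroup.card_subgroup_dvd_card _

theorem O_two (hne : C.NonIsolated) : 2 ≤ C.O.ncard := by
  obtain ⟨g, hc, hn⟩ := hne
  obtain ⟨h, hh, hA⟩ := C.invol_conj hc (C.conj_invol g).1
  refine (Set.one_lt_ncard (Set.toFinite _)).mpr ⟨_, ⟨hA, C.Cj_conj ⟨g, rfl⟩ h⟩, _, C.z_mem_O, fun e => hn ?_⟩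
  have e' := congrArg (fun x => h⁻¹ * x * h) e
  rw [show h⁻¹ * (h * (g * C.z * g⁻¹) * h⁻¹) * h = g * C.z * g⁻¹ by group, hh.inv_left.eq, inv_mul_cancel_right] at e'
  exact e'

/-- A subgroup whose nonidentity elements are exactly the conjugates cannot be so big. -/
theorem kill_transitive (hne : C.NonIsolated) (S : Subgroup G) (hSA : S ≤ C.A) (hOS : ∀ x, x ∈ C.O ↔ x ∈ S ∧ x ≠ 1)
    {m p : ℕ} (hp : p.Prime) (hS : Nat.card S = 2 ^ m) (hp960 : ¬ p ∣ 960 * 512)
    (hker : ∀ n ∈ C.NA, (∀ s ∈ S, Commute n s) → n ∈ C.A)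
    (hbig : ∀ f, f * f ≥ 2 ^ m → (f - 1) * p > 2 ^ m - 1) (hpow : ∀ i ≤ m, p ∣ 2 ^ i - 1 → i = 0 ∨ i = m)
    (hcard : p ∣ C.O.ncard) (hp2 : ¬ p * p ∣ C.O.ncard * 960)
    (heven : ∀ n, n * p ∣ C.O.ncard * 960 → n % p = 1 → 2 ∣ C.O.ncard * 960 / n) : False := by
  have hinv : ∀ n ∈ C.NA, ∀ s ∈ S, n * s * n⁻¹ ∈ S := by
    intro n hn s hs
    by_cases h1 : s = 1
    · subst h1; simp
    · exact ((hOS _).mp (C.O_conj hn ((hOS s).mpr ⟨hs, h1⟩))).1
  let φ : ↥C.NA →* MulAut ↥S :=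
    { toFun := fun n =>
        { toFun := fun a => ⟨n * a * (n : G)⁻¹, hinv n n.2 a a.2⟩
          invFun := fun a => ⟨(n : G)⁻¹ * a * n, by simpa using hinv _ (C.NA.inv_mem n.2) a a.2⟩
          left_inv := fun a => Subtype.ext (by simp [mul_assoc])
          right_inv := fun a => Subtype.ext (by simp [mul_assoc])
          map_mul' := fun a b => Subtype.ext (by simp [mul_assoc]) }
      map_one' := by ext a; simp
      map_mul' := fun x y => by ext a; simp [mul_assoc] }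
  have hker' : φ.ker = C.A.subgroupOf C.NA := by
    ext n
    rw [Subgroup.mem_subgroupOf, MonoidHom.mem_ker]
    constructor
    · intro h
      refine hker n n.2 fun a ha => ?_
      have e : (n : G) * a * (n : G)⁻¹ = a := congrArg (fun f => ((f ⟨a, ha⟩ : ↥S) : G)) h
      show (n : G) * a = a * n
      conv_rhs => rw [← e]
      group
    · intro h
      ext a
      show (n : G) * a * (n : G)⁻¹ = a
      rw [(C.A_abelian hne h (hSA a.2)).eq, mul_inv_cancel_right]
  set Q := φ.range with hQ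
  have cardQ : Nat.card Q = C.O.ncard * 960 := by
    have hle : C.A ≤ C.NA := fun a ha => C.mem_NA.mpr fun b hb => mul_mem (mul_mem ha hb) (inv_mem ha)
    have h := C.card_NA hne
    rw [← Subgroup.index_mul_card φ.ker, Subgroup.index_ker, hker',
      Nat.card_congr (Subgroup.subgroupOfEquivOfLe hle).toEquiv, C.card_A] at h
    rw [hQ]; omega
  haveI := Fact.mk hp
  haveI : Fintype ↥Q := Fintype.ofFinite _
  obtain ⟨g, hg⟩ := exists_prime_orderOf_dvd_card' (G := ↥Q) p (by rw [cardQ]; exact Dvd.dvd.mul_right hcard 960)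
  set P : Subgroup ↥Q := Subgroup.zpowers g with hP
  have cP : Nat.card P = p := by rw [hP, Nat.card_zpowers, hg]
  have hsyl : ¬ p ∣ P.index := by
    intro hd
    apply hp2
    have := Subgroup.index_mul_card P
    rw [cP, cardQ] at this
    rw [← this]
    exact Nat.mul_dvd_mul_right hd p
  let S' : Sylow p ↥Q := (IsPGroup.of_card (n := 1) (by rw [cP, pow_one]) : IsPGroup p P).toSylow hsyl
  have hn1 : Nat.card (Sylow p ↥Q) % p = 1 := by
    have h : Nat.card (Sylow p ↥Q) % p = 1 % p := card_sylow_modEq_one p ↥Q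
    rwa [Nat.mod_eq_of_lt hp.one_lt] at h
  have hidx : Nat.card (Sylow p ↥Q) = (Subgroup.normalizer (P : Set ↥Q)).index := S'.card_eq_index_normalizer
  have hPN : Nat.card P ∣ Nat.card (Subgroup.normalizer (P : Set ↥Q)) := Subgroup.card_dvd_of_le Subgroup.le_normalizer
  have htwo : 2 ∣ Nat.card (Subgroup.normalizer (P : Set ↥Q)) := by
    have hm := Subgroup.index_mul_card (Subgroup.normalizer (P : Set ↥Q))
    rw [← hidx, cardQ] at hm
    have hn := heven _ (by rw [← hm]; exact Nat.mul_dvd_mul_left _ (cP ▸ hPN)) hn1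
    rwa [← hm, Nat.mul_div_cancel_left] at hn
    rcases Nat.eq_zero_or_pos (Nat.card (Sylow p ↥Q)) with z | z
    · rw [z, Nat.zero_mod] at hn1; exact absurd hn1 (by norm_num)
    · exact z
  haveI := Fact.mk Nat.prime_two
  obtain ⟨t, ht⟩ := exists_prime_orderOf_dvd_card' (G := ↥(Subgroup.normalizer (P : Set ↥Q))) 2 htwo
  have htP : (t : ↥Q) * g * (t : ↥Q)⁻¹ ∈ P :=
    (Subgroup.mem_normalizer_iff.mp t.2 g).mp (Subgroup.mem_zpowers g)
  obtain ⟨k, hk⟩ : ∃ k : ℕ, (t : ↥Q) * g * (t : ↥Q)⁻¹ = g ^ k := by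
    obtain ⟨i, hi⟩ := (mem_powers_iff_mem_zpowers (x := g)).mpr htP
    exact ⟨i, hi.symm⟩
  have t2 : (t : ↥Q) * (t : ↥Q) = 1 := by
    have := pow_orderOf_eq_one t
    rw [ht, pow_two] at this
    exact congrArg Subtype.val this
  have hfree : ∀ x : ↥S, (g : MulAut ↥S) x = x → x = 1 := by
    intro x hx
    by_contra h1
    have hxO : (x : G) ∈ C.O := (hOS _).mpr ⟨x.2, fun e => h1 (Subtype.ext e)⟩
    obtain ⟨m, hm, em⟩ := C.O_transitive hne hxO
    obtain ⟨q, hq⟩ := g.2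
    have hfix : (q : G) * x * (q : G)⁻¹ = x := by
      have e : (φ q) x = x := by rw [hq]; exact hx
      exact congrArg Subtype.val e
    let r : ↥C.NA := (⟨m, hm⟩ : ↥C.NA)⁻¹ * q * ⟨m, hm⟩
    have hr : r ∈ C.NH.subgroupOf C.NA := by
      refine ⟨r.2, C.mem_H.mpr ?_⟩
      show m⁻¹ * (q : G) * m * C.z = C.z * (m⁻¹ * (q : G) * m)
      calc m⁻¹ * (q : G) * m * C.z = m⁻¹ * ((q : G) * (m * C.z * m⁻¹) * (q : G)⁻¹) * (q : G) * m := by group
        _ = m⁻¹ * (m * C.z * m⁻¹) * (q : G) * m := by rw [em, hfix]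
        _ = _ := by group
    have hord : orderOf (φ r) = p := by
      have e : φ r = (φ ⟨m, hm⟩)⁻¹ * (g : MulAut ↥S) * φ ⟨m, hm⟩ := by simp only [r, map_mul, map_inv, hq]
      rw [e, show (φ ⟨m, hm⟩)⁻¹ * (g : MulAut ↥S) * φ ⟨m, hm⟩ = MulAut.conj (φ ⟨m, hm⟩)⁻¹ (g : MulAut ↥S) by
        simp [mul_assoc], MulEquiv.orderOf_eq, ← hg]
      exact orderOf_injective Q.subtype Q.subtype_injective g
    apply hp960
    have h1 : orderOf (φ r) ∣ orderOf r := orderOf_map_dvd φ r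
    have h2 : orderOf r ∣ Nat.card (C.NH.subgroupOf C.NA) := Subgroup.orderOf_dvd_natCard _ hr
    rw [Nat.card_congr (Subgroup.subgroupOfEquivOfLe (show C.NH ≤ C.NA from inf_le_left)).toEquiv, C.card_NH] at h2
    exact hord ▸ h1.trans h2
  have hgp : (g : MulAut ↥S) ^ p = 1 := by
    rw [← SubmonoidClass.coe_pow, ← hg, pow_orderOf_eq_one]; rfl
  have hkk : ((t : ↥Q) : MulAut ↥S) * (g : MulAut ↥S) = (g : MulAut ↥S) ^ k * ((t : ↥Q) : MulAut ↥S) := by
    have e : (t : ↥Q) * g = g ^ k * (t : ↥Q) := by rw [← hk, inv_mul_cancel_right]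
    have e' := congrArg (fun x : ↥Q => (x : MulAut ↥S)) e
    simpa using e'
  have h1 := no_involution_normaliser (X := ↥S) hp hS (fun a => Subtype.ext (C.A_sq_one hne (hSA a.2)))
    (g : MulAut ↥S) ((t : ↥Q) : MulAut ↥S) hgp hfree (congrArg Subtype.val t2) k hkk hbig hpow
  have : t = 1 := Subtype.ext (Subtype.ext h1)
  rw [this, orderOf_one] at ht
  exact absurd ht (by norm_num)

theorem coset_zero : C.coset 0 = (C.Wt : Set G) := by
  ext x
  constructor
  · intro h; exact C.mem_Wt ((C.ρ_ker (C.A_comm h.1)).mp (by rw [h.2, r_inj.2.2])) h.1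
  · intro h; exact ⟨C.Wt_le_A h, by rw [C.ρ_J h.1, r_inj.2.2]⟩

theorem coset_finite_card {n : ℕ} (hn : n < 16) : (C.coset n).ncard = 32 := by
  obtain ⟨a, ha, ea⟩ := C.lift_A hn
  have : C.coset n = (fun w => a * w) '' (C.Wt : Set G) := by
    ext x
    constructor
    · intro h
      obtain ⟨w, hw, rfl⟩ := C.same_image ha h.1 (ea.trans h.2.symm)
      exact ⟨w, hw, rfl⟩
    · rintro ⟨w, hw, rfl⟩
      exact ⟨mul_mem ha (C.Wt_le_A hw), by rw [C.ρ_mul (C.A_comm ha) (C.Jz w hw.1), C.ρ_J hw.1, ea, r_form]⟩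
  rw [this, Set.ncard_image_of_injective _ (mul_right_injective a), ← Nat.card_coe_set_eq]
  exact C.card_Wt

theorem Wt_in_O (h31 : C.cnt 0 = 31) : ∀ x ∈ C.Wt, x ≠ 1 → x ∈ C.O := by
  intro x hx h1
  have hsub : C.O ∩ C.coset 0 ⊆ (C.Wt : Set G) \ {1} := fun y hy =>
    ⟨by rw [← C.coset_zero]; exact hy.2, C.Cj_ne_one hy.1.2⟩
  have := Set.eq_of_subset_of_ncard_le hsub (by
    rw [Set.ncard_sdiff_singleton_of_mem (one_mem C.Wt), ← C.coset_zero, C.coset_finite_card (by norm_num)]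
    exact h31.ge) (Set.toFinite _)
  exact (this.symm ▸ (⟨hx, h1⟩ : x ∈ (C.Wt : Set G) \ {1}) : x ∈ C.O ∩ C.coset 0).1

theorem cnt_members {n : ℕ} (hn : n ∈ [1, 2, 4, 8, 15]) : C.cnt n = C.cnt 1 := by
  obtain ⟨k, hk, e⟩ := five_par hn; exact (C.cnt_eq hk e).symm

theorem cnt_others {n : ℕ} (hn : n ∈ [3, 5, 6, 7, 9, 10, 11, 12, 13, 14]) : C.cnt n = C.cnt 3 := by
  obtain ⟨k, hk, e⟩ := ten_par hn; exact (C.cnt_eq hk e).symm

theorem ncard_inter_le {s : Set G} {n : ℕ} (h : ∀ x ∈ s, x ∈ C.O ∩ C.coset n) : s.ncard ≤ C.cnt n :=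
  Set.ncard_le_ncard h (Set.toFinite _)

/-- The orbit of the involution in the elementary abelian subgroup. -/
theorem orbit_counts (hne : C.NonIsolated) : C.cnt 0 = 1 ∧ C.cnt 1 = 4 ∧ C.cnt 3 = 0 := by
  classical
  obtain ⟨e0, e1, e2, h1, hinv⟩ := C.cnt_one hne
  obtain ⟨f0, f1, h3⟩ := C.cnt_three hne
  have hc1 : C.cnt 1 ∈ [0, 4, 8, 24, 28, 32] := by rw [h1]; cases e0 <;> cases e1 <;> cases e2 <;> simp
  have hc3 : C.cnt 3 ∈ [0, 16, 32] := by rw [h3]; cases f0 <;> cases f1 <;> simp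
  have hc0 : C.cnt 0 ∈ [1, 31] := by simpa using C.cnt_zero
  have hd := C.O_dvd hne
  have hN := C.card_O'
  rw [hN] at hd
  rcases orbit_lengths _ hc0 _ hc1 _ hc3 hd with ⟨a, b, c⟩ | h | ⟨a, b, c⟩ | ⟨a, b, c⟩ | ⟨a, b, c⟩ | ⟨a, b, c⟩
  · exfalso; have := C.O_two hne; omega
  · exact h
  · -- all conjugates in the preimage of the line
    exfalso
    rw [a, b, c] at hN
    refine C.kill_transitive hne C.Wt C.Wt_le_A (fun x => ⟨fun hx => ?_, fun h => C.Wt_in_O a x h.1 h.2⟩) (m := 5)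
      (p := 31) (by norm_num) C.card_Wt (by norm_num) (fun n hn h => C.mem_A.mpr fun j hj hk => h j ⟨hj, hk⟩) ?_ ?_
      (by rw [hN]) (by rw [hN]; norm_num) (fun n h hm => ?_)
    · obtain ⟨n, hn, e⟩ := C.ρ_A hx.1
      rcases five_or_ten n hn with rfl | hf | ⟨ht, -⟩
      · exact ⟨by rw [← SetLike.mem_coe, ← C.coset_zero]; exact ⟨hx.1, e⟩, C.Cj_ne_one hx.2⟩
      · have := C.ncard_inter_le (s := {x}) (n := n) (fun y hy => by rw [hy]; exact ⟨hx, hx.1, e⟩)
        rw [Set.ncard_singleton, C.cnt_members hf, b] at this; omega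
      · have := C.ncard_inter_le (s := {x}) (n := n) (fun y hy => by rw [hy]; exact ⟨hx, hx.1, e⟩)
        rw [Set.ncard_singleton, C.cnt_others ht, c] at this; omega
    · intro f hf
      have : 6 ≤ f := by by_contra hc; interval_cases f <;> norm_num at hf
      omega
    · decide
    · rw [hN] at h ⊢
      have h' : n ∣ 960 := Nat.dvd_of_mul_dvd_mul_right (by norm_num : 0 < 31) (by simpa [mul_comm] using h)
      exact sylow_even_31 n (Nat.le_of_dvd (by norm_num) h') (dvd_mul_of_dvd_right h' 31) hm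
  · -- fifty-one
    exfalso
    rw [a, b, c] at hN
    obtain ⟨x, hx, hxW⟩ : ∃ x ∈ C.O, x ∉ C.Wt := by
      by_contra hall
      push Not at hall
      have : C.O ⊆ (C.Wt : Set G) := hall
      have := Set.ncard_le_ncard this (Set.toFinite _)
      rw [hN, ← C.coset_zero, C.coset_finite_card (by norm_num)] at this
      omega
    obtain ⟨m, hm, em⟩ := C.O_transitive hne hx
    set W' := C.Wt.map (MulAut.conj m).toMonoidHom
    have mW : ∀ {y : G}, y ∈ W' ↔ ∃ w ∈ C.Wt, m * w * m⁻¹ = y := fun {y} => Subgroup.mem_map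
    have hW'A : ∀ y ∈ W', y ∈ C.A := by
      intro y hy; obtain ⟨w, hw, rfl⟩ := mW.mp hy; exact C.NA_conj hm (C.Wt_le_A hw)
    have hO' : ∀ y ∈ W', y ≠ 1 → y ∈ C.O := by
      intro y hy h1; obtain ⟨w, hw, rfl⟩ := mW.mp hy
      exact C.O_conj hm (C.Wt_in_O a w hw (fun e => h1 (by rw [e]; group)))
    have cW' : (W' : Set G).ncard = 32 := by
      rw [← Nat.card_coe_set_eq, ← C.card_Wt]
      exact Nat.card_congr (Subgroup.equivMapOfInjective _ _ (MulAut.conj m).injective).symm.toEquiv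
    have hne' : ¬ W' ≤ C.Wt := fun hle => hxW (hle (mW.mpr ⟨C.z, C.z_Wt, em⟩))
    set I := W' ⊓ C.Wt
    have hdiff : ((W' : Set G) \ (C.Wt : Set G)).ncard + Nat.card I = 32 := by
      rw [← cW', show Nat.card I = ((W' : Set G) ∩ (C.Wt : Set G)).ncard by rw [← Nat.card_coe_set_eq]; rfl, add_comm]
      exact Set.ncard_inter_add_ncard_sdiff_eq_ncard _ _ (Set.toFinite _)
    have out : ∀ y ∈ W', y ∉ C.Wt → ∃ n ∈ [1, 2, 4, 8, 15], y ∈ C.O ∩ C.coset n := by
      intro y hy hyW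
      have hyO := hO' y hy fun e => hyW (e ▸ one_mem _)
      obtain ⟨n, hn, e⟩ := C.ρ_A hyO.1
      rcases five_or_ten n hn with rfl | hf | ⟨ht, -⟩
      · exact absurd (by rw [← SetLike.mem_coe, ← C.coset_zero]; exact ⟨hyO.1, e⟩) hyW
      · exact ⟨n, hf, hyO, hyO.1, e⟩
      · have := C.ncard_inter_le (s := {y}) (n := n) (fun u hu => by rw [hu]; exact ⟨hyO, hyO.1, e⟩)
        rw [Set.ncard_singleton, C.cnt_others ht, c] at this; omega
    -- one member already has too many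
    obtain ⟨y, hy, hyW⟩ := SetLike.not_le_iff_exists.mp hne'
    obtain ⟨n, hn, hyn⟩ := out y hy hyW
    have hle : Nat.card I ≤ C.cnt n := by
      show _ ≤ (C.O ∩ C.coset n).ncard
      rw [← Nat.card_coe_set_eq]
      refine Nat.card_le_card_of_injective (fun w : ↥I => ⟨y * w, hO' _ (mul_mem hy w.2.1) ?_, ?_⟩) (fun u v e => Subtype.ext ?_)
      · intro e
        exact hyW (by rw [mul_eq_one_iff_eq_inv.mp e]; exact inv_mem w.2.2)
      · refine ⟨hW'A _ (mul_mem hy w.2.1), ?_⟩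
        rw [C.ρ_mul (C.A_comm hyn.2.1) (C.Jz _ w.2.2.1), C.ρ_J w.2.2.1, hyn.2.2, r_form]
      · exact mul_left_cancel (congrArg Subtype.val e)
    rw [C.cnt_members hn, b] at hle
    have h20 : ((W' : Set G) \ (C.Wt : Set G)).ncard ≤ 20 := by
      let U : Set G := (C.O ∩ C.coset 1) ∪ (C.O ∩ C.coset 2) ∪ (C.O ∩ C.coset 4) ∪ (C.O ∩ C.coset 8) ∪ (C.O ∩ C.coset 15)
      refine le_trans (Set.ncard_le_ncard (t := U) (fun y hy => ?_) (Set.toFinite _)) ?_
      · obtain ⟨n, hn, h⟩ := out y hy.1 hy.2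
        simp only [List.mem_cons, List.not_mem_nil, or_false] at hn
        rcases hn with rfl | rfl | rfl | rfl | rfl <;> simp [U, h.1, h.2]
      · refine le_trans (Set.ncard_union_le _ _) ?_
        refine le_trans (Nat.add_le_add_right (le_trans (Set.ncard_union_le _ _) (Nat.add_le_add_right (le_trans
          (Set.ncard_union_le _ _) (Nat.add_le_add_right (Set.ncard_union_le _ _) _)) _)) _) ?_
        show C.cnt 1 + C.cnt 2 + C.cnt 4 + C.cnt 8 + C.cnt 15 ≤ 20
        rw [C.cnt_members (show 2 ∈ [1, 2, 4, 8, 15] by decide), C.cnt_members (show 4 ∈ [1, 2, 4, 8, 15] by decide),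
          C.cnt_members (show 8 ∈ [1, 2, 4, 8, 15] by decide), C.cnt_members (show 15 ∈ [1, 2, 4, 8, 15] by decide), b]
    omega
  · -- four hundred and forty-one
    exfalso
    rw [a, b, c] at hN
    have he : e0 = e1 := by
      rw [h1] at b; cases e0 <;> cases e1 <;> cases e2 <;> simp_all
    have inv1 : ∀ y ∈ C.coset 1, C.Cj y ↔ C.Cj (y * C.z) := hinv he
    let T : Set G := {y | y ∈ C.A ∧ y ≠ 1 ∧ ¬ C.Cj y}
    have zT : ∀ y ∈ T, y * C.z ∈ T := by
      intro y hy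
      have hyz : y * C.z ∈ C.A := mul_mem hy.1 (C.Wt_le_A C.z_Wt)
      have hne1 : y * C.z ≠ 1 := fun e => hy.2.2 (by rw [mul_eq_one_iff_eq_inv.mp e, C.z_inv]; exact C.Cj_z)
      refine ⟨hyz, hne1, fun hcj => hy.2.2 ?_⟩
      obtain ⟨n, hn, e⟩ := C.ρ_A hy.1
      rcases five_or_ten n hn with rfl | hf | ⟨ht, -⟩
      · have hyW : y ∈ C.Wt := by rw [← SetLike.mem_coe, ← C.coset_zero]; exact ⟨hy.1, e⟩
        have hmem : ∀ u ∈ C.O ∩ C.coset 0, u = C.z := by
          intro u hu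
          obtain ⟨v, hv⟩ := Set.ncard_eq_one.mp (show (C.O ∩ C.coset 0).ncard = 1 from a)
          have hz : C.z ∈ C.O ∩ C.coset 0 := ⟨C.z_mem_O, by rw [C.coset_zero]; exact C.z_Wt⟩
          rw [hv] at hu hz
          exact hu.trans hz.symm
        have := hmem (y * C.z) ⟨⟨hyz, hcj⟩, by rw [C.coset_zero]; exact mul_mem hyW C.z_Wt⟩
        exact absurd (mul_eq_right.mp this) hy.2.1
      · obtain ⟨k, hk, ek⟩ := five_par hf
        obtain ⟨p, hp, ep⟩ := C.par_lift hk
        have hpz := C.mem_H.mp hp.2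
        have hu : p⁻¹ * y * p ∈ C.coset 1 := (C.coset_par hp ep ek _).mpr (by
          rw [show p * (p⁻¹ * y * p) * p⁻¹ = y by group]; exact ⟨hy.1, e⟩)
        have c1 : C.Cj (p⁻¹ * y * p * C.z) := by
          refine (C.Cj_comm_iff (k := p) ?_).mpr hcj
          rw [show p * (p⁻¹ * y * p * C.z) * p⁻¹ = y * (p * C.z * p⁻¹) by group, hpz.eq, mul_inv_cancel_right]
        have := C.Cj_conj ((inv1 _ hu).mpr c1) p
        rwa [show p * (p⁻¹ * y * p) * p⁻¹ = y by group] at this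
      · have hfull := Set.eq_of_subset_of_ncard_le (Set.inter_subset_right (s := C.O) (t := C.coset n)) (by
          rw [C.coset_finite_card hn, ← c, ← C.cnt_others ht]; exact le_rfl) (Set.toFinite _)
        exact ((hfull.symm ▸ (⟨hy.1, e⟩ : y ∈ C.coset n)) : y ∈ C.O ∩ C.coset n).1.2
    have uT : ∀ u ∈ C.O, ∀ y ∈ T, y * u ∈ T := by
      intro u hu y hy
      obtain ⟨m, hm, em⟩ := C.O_transitive hne hu
      have hy' : m⁻¹ * y * m ∈ T := by
        refine ⟨by simpa using C.NA_conj (C.NA.inv_mem hm) hy.1, fun e => hy.2.1 ?_, fun h => hy.2.2 ?_⟩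
        · have e' := congrArg (fun x => m * x * m⁻¹) e
          simpa [mul_assoc] using e'
        · simpa [mul_assoc] using C.Cj_conj h m
      have h2 := zT _ hy'
      rw [← em, show y * (m * C.z * m⁻¹) = m * (m⁻¹ * y * m * C.z) * m⁻¹ by group]
      refine ⟨C.NA_conj hm h2.1, fun e => h2.2.1 ?_, fun h => h2.2.2 ((C.Cj_conj_iff m).mp h)⟩
      have e' := congrArg (fun x => m⁻¹ * x * m) e
      simpa [mul_assoc] using e'
    let Sset : Subgroup G :=
      { carrier := {s | s ∈ C.A ∧ ∀ y ∈ T, y * s ∈ T}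
        one_mem' := ⟨one_mem _, fun y hy => by rwa [mul_one]⟩
        mul_mem' := fun {s s'} h h' => ⟨mul_mem h.1 h'.1, fun y hy => by rw [← mul_assoc]; exact h'.2 _ (h.2 y hy)⟩
        inv_mem' := fun {s} h => ⟨inv_mem h.1, fun y hy => by
          rw [inv_eq_of_mul_eq_one_right (C.A_sq_one hne h.1)]; exact h.2 y hy⟩ }
    have hS : Sset = C.A := by
      refine Subgroup.eq_of_le_of_card_ge (fun s hs => hs.1) ?_
      have h441 : 441 ≤ Nat.card Sset := by
        rw [show (441 : ℕ) = C.O.ncard by omega, show Nat.card Sset = (Sset : Set G).ncard from Nat.card_coe_set_eq _]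
        exact Set.ncard_le_ncard (fun u hu => (⟨hu.1, uT u hu⟩ : u ∈ Sset)) (Set.toFinite _)
      have hd : Nat.card Sset ∣ 2 ^ 9 := by
        have h := Subgroup.card_dvd_of_le (show Sset ≤ C.A from fun s hs => hs.1)
        rwa [C.card_A] at h
      rw [C.card_A]
      obtain ⟨i, hi, e⟩ := (Nat.dvd_prime_pow Nat.prime_two).mp hd
      rw [e] at h441 ⊢
      interval_cases i <;> omega
    obtain ⟨y, hy⟩ : T.Nonempty := by
      by_contra hemp
      rw [Set.not_nonempty_iff_eq_empty] at hemp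
      have hsub : (C.A : Set G) ⊆ insert 1 C.O := fun y hy => by
        by_cases h1 : y = 1
        · exact Or.inl h1
        · refine Or.inr ⟨hy, ?_⟩
          by_contra hh
          exact Set.notMem_empty y (hemp ▸ (⟨hy, h1, hh⟩ : y ∈ T))
      have := le_trans (Set.ncard_le_ncard hsub (Set.toFinite _)) (Set.ncard_insert_le _ _)
      rw [← Nat.card_coe_set_eq, hN] at this
      have hA : Nat.card ↥(C.A : Set G) = 512 := C.card_A
      omega
    have hyy : y ∈ Sset := by rw [hS]; exact hy.1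
    exact (hyy.2 y hy).2.1 (C.A_sq_one hne hy.1)
  · -- transitive
    exfalso
    rw [a, b, c] at hN
    have hall : ∀ x, x ∈ C.O ↔ x ∈ C.A ∧ x ≠ 1 := by
      have hsub : C.O ⊆ (C.A : Set G) \ {1} := fun x hx => ⟨hx.1, C.Cj_ne_one hx.2⟩
      have := Set.eq_of_subset_of_ncard_le hsub (by
        rw [Set.ncard_sdiff_singleton_of_mem (one_mem C.A), ← Nat.card_coe_set_eq, hN]
        have hA : Nat.card ↥(C.A : Set G) = 512 := C.card_A
        omega) (Set.toFinite _)
      intro x; rw [this]; rfl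
    refine C.kill_transitive hne C.A le_rfl hall (m := 9) (p := 73) (by norm_num) C.card_A (by norm_num)
      (fun n _ h => (C.cent_A hne).mp h) ?_ ?_ (by rw [hN]; norm_num) (by rw [hN]; norm_num) (fun n h hm => ?_)
    · intro f hf
      have : 23 ≤ f := by by_contra hc; interval_cases f <;> norm_num at hf
      omega
    · decide
    · rw [hN] at h ⊢
      have h' : n ∣ 6720 := Nat.dvd_of_mul_dvd_mul_right (show 0 < 73 by norm_num) (by simpa [mul_comm] using h)
      exact sylow_even_73 n (Nat.le_of_dvd (by norm_num) h') h' hm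

end Core

end CfsgLib.U6Rec
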