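/-
The conjugates of the involution in its centraliser: transvection images, four over each image.
-/
import Cfsg.Agent.Lib.U6Rec.Orbit

set_option autoImplicit false
set_option maxRecDepth 100000

namespace CfsgLib.U6Rec

theorem herm_basis_one : ∀ v ∈ [1, 2, 4, 8, 64, 128], herm v 1 = 0 := by decide +kernel

theorem polar_hit_check : ((List.range 256).all fun v => (List.range 4).all fun d => Nat.beq d 0 || Nat.beq (herm v 1) 0 ||
    Nat.beq (herm v 1) d || Nat.beq (polar v d) 1) = true := by decide +kernel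

theorem polar_hit : ∀ c < 4, ∀ d < 4, c ≠ 0 → d ≠ 0 → c ≠ d → ∀ v < 256, herm v 1 = c → polar v d = 1 := by
  intro c _ d hd c0 d0 hcd v hv e
  have h := List.all_eq_true.mp (List.all_eq_true.mp polar_hit_check v (List.mem_range.mpr hv)) d (List.mem_range.mpr hd)
  simp only [Bool.or_eq_true, Nat.beq_eq, e] at h
  omega

theorem five_points : ∀ p < 16, p ≠ 0 → ∃ n ∈ [1, 2, 4, 8, 15], tv p = rOf n := by decide +kernel

theorem five_xor : ∀ a ∈ [1, 2, 4, 8, 15], ∀ b ∈ [1, 2, 4, 8, 15], a ≠ b → (a ^^^ b) ∉ [0, 1, 2, 4, 8, 15] := by decide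

theorem five_quad : ∀ a ∈ [1, 2, 4, 8, 15], ∀ b ∈ [1, 2, 4, 8, 15], ∀ c ∈ [1, 2, 4, 8, 15], ∀ d ∈ [1, 2, 4, 8, 15],
    a ^^^ b ^^^ c ^^^ d = 0 → a = b ∨ (a = c ∧ b = d) ∨ (a = d ∧ b = c) := by decide

theorem points_apart : ∀ n ∈ [1, 2, 4, 8, 15], ∀ m ∈ [1, 2, 4, 8, 15], n ≠ m → ∀ c < 4, ∀ d < 4, c ≠ 0 →
    smul4 c (rPt n) ≠ smul4 d (rPt m) := by decide +kernel

theorem five_lt : ∀ n ∈ [1, 2, 4, 8, 15], n < 16 ∧ rPt n ≠ 0 ∧ n ≠ 0 := by decide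

namespace Core

variable {G : Type*} [Group G] (C : Core G) [Finite G]

theorem Cj_pull {x : G} (h : C.Cj x) (k : G) : C.Cj (k⁻¹ * x * k) := by simpa using C.Cj_conj h k⁻¹

/-- A conjugate in the preimage of the line is the involution itself. -/
theorem Cj_Wt (hne : C.NonIsolated) {x : G} (hx : x ∈ C.Wt) (hc : C.Cj x) : x = C.z := by
  obtain ⟨v, hv⟩ := Set.ncard_eq_one.mp (show (C.O ∩ C.coset 0).ncard = 1 from (C.orbit_counts hne).1)
  have h1 : x ∈ C.O ∩ C.coset 0 := ⟨⟨C.Wt_le_A hx, hc⟩, by rw [C.coset_zero]; exact hx⟩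
  have h2 : C.z ∈ C.O ∩ C.coset 0 := ⟨C.z_mem_O, by rw [C.coset_zero]; exact C.z_Wt⟩
  rw [hv] at h1 h2
  exact h1.trans h2.symm

theorem O_five (hne : C.NonIsolated) {x : G} (hx : x ∈ C.O) : x = C.z ∨ ∃ n ∈ [1, 2, 4, 8, 15], x ∈ C.coset n := by
  obtain ⟨n, hn, e⟩ := C.ρ_A hx.1
  rcases five_or_ten n hn with rfl | hf | ⟨ht, -⟩
  · exact Or.inl (C.Cj_Wt hne (by rw [← SetLike.mem_coe, ← C.coset_zero]; exact ⟨hx.1, e⟩) hx.2)
  · exact Or.inr ⟨n, hf, hx.1, e⟩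
  · exfalso
    have := C.ncard_inter_le (s := {x}) (n := n) (fun y hy => by rw [hy]; exact ⟨hx, hx.1, e⟩)
    rw [Set.ncard_singleton, C.cnt_others ht, (C.orbit_counts hne).2.2] at this
    omega

theorem O_ne_coset {x : G} {n : ℕ} (hn : n ∈ [1, 2, 4, 8, 15]) (hx : x ∈ C.coset n) : x ≠ C.z := by
  intro e
  obtain ⟨h16, -, h0⟩ := five_lt n hn
  have := hx.2
  rw [e, C.ρ_J C.zJ, ← r_inj.2.2] at this
  exact h0 (rOf_inj (by norm_num) h16 this).symm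

/-- The kernel of the action of a transvection inside the extraspecial group. -/
def Fx (g : ℕ) : Set G := {k | k ∈ C.J ∧ app g (C.κ k) = C.κ k}

theorem first_fix {k : G} : k ∈ C.Fx (rOf 1) ↔ k ∈ C.J ∧ herm (C.κ k) 1 = 0 := by
  rw [(r_point 1 (by norm_num) (by decide)).1, show rPt 1 = 1 from rfl]
  exact ⟨fun h => ⟨h.1, (tv_fix (by norm_num) (by norm_num) (C.κ_lt k h.1)).mp h.2⟩,
    fun h => ⟨h.1, (tv_fix (by norm_num) (by norm_num) (C.κ_lt k h.1)).mpr h.2⟩⟩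

/-- The conjugates over the first member form one orbit of the extraspecial group, fixed by the kernel. -/
theorem first_orbit (hne : C.NonIsolated) {y : G} (hy : y ∈ C.O ∩ C.coset 1) :
    (∀ k ∈ C.Fx (rOf 1), Commute y k) ∧ (∀ y' ∈ C.O ∩ C.coset 1, ∃ j ∈ C.J, y' = j * y * j⁻¹) := by
  classical
  have hyz := C.A_comm hy.2.1
  have yi : y⁻¹ = y := inv_eq_of_mul_eq_one_right (C.A_sq_one hne hy.2.1)
  choose v hv hvc using fun c : Fin 4 => herm_hit c c.2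
  choose j hj hjk using fun c : Fin 4 => C.κ_surj (v c) (hv c)
  let f : Fin 4 → G := fun c => j c * y * (j c)⁻¹
  have hκ : ∀ k ∈ C.J, C.κ (y⁻¹ * (k * y * k⁻¹)) = smul4 (herm (C.κ k) 1) 1 := by
    intro k hk
    rw [show y⁻¹ * (k * y * k⁻¹) = (y⁻¹ * k * y⁻¹⁻¹) * k⁻¹ by group,
      C.κ_mul _ (C.conjJ _ hyz.inv_left _ hk) _ (inv_mem hk), C.κ_inv hk, C.κ_conj _ hyz.inv_left _ hk, yi, hy.2.2,
      (r_point 1 (by norm_num) (by decide)).1, show rPt 1 = 1 from rfl, Nat.xor_comm, tv_move 1 (C.κ_lt k hk)]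
  have fmem : ∀ c, f c ∈ C.O ∩ C.coset 1 := fun c => by
    have hA : f c ∈ C.A := C.NA_conj (C.J_le_NH (hj c)).1 hy.2.1
    refine ⟨⟨hA, C.Cj_conj hy.1.2 _⟩, hA, ?_⟩
    rw [C.ρ_mul ((C.Jz _ (hj c)).mul_left hyz) (C.Jz _ (inv_mem (hj c))), C.ρ_mul (C.Jz _ (hj c)) hyz, C.ρ_J (hj c),
      C.ρ_J (inv_mem (hj c)), hy.2.2, comp_assoc, r_form, ← r_form 1, one_comp, r_form]
  have finj : Function.Injective f := fun c d e => by
    have := congrArg (fun t => C.κ (y⁻¹ * t)) e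
    simp only [f] at this
    rw [hκ _ (hj c), hκ _ (hj d), hjk, hjk, hvc, hvc, smul_one_point _ c.2, smul_one_point _ d.2] at this
    exact Fin.ext this
  have hset : Set.range f = C.O ∩ C.coset 1 := by
    refine Set.eq_of_subset_of_ncard_le (by rintro _ ⟨c, rfl⟩; exact fmem c) ?_ (Set.toFinite _)
    rw [Set.ncard_range_of_injective finj, Nat.card_fin]
    exact (C.orbit_counts hne).2.1.le
  refine ⟨fun k hk => ?_, fun y' hy' => ?_⟩
  · have hk1 := C.first_fix.mp hk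
    have hmem : k * y * k⁻¹ ∈ C.O ∩ C.coset 1 := by
      have hA : k * y * k⁻¹ ∈ C.A := C.NA_conj (C.J_le_NH hk1.1).1 hy.2.1
      refine ⟨⟨hA, C.Cj_conj hy.1.2 _⟩, hA, ?_⟩
      rw [C.ρ_mul ((C.Jz _ hk1.1).mul_left hyz) (C.Jz _ (inv_mem hk1.1)), C.ρ_mul (C.Jz _ hk1.1) hyz, C.ρ_J hk1.1,
        C.ρ_J (inv_mem hk1.1), hy.2.2, comp_assoc, r_form, ← r_form 1, one_comp, r_form]
    rw [← hset] at hmem
    obtain ⟨c, hc⟩ := hmem
    have hc0 := congrArg (fun t => C.κ (y⁻¹ * t)) hc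
    simp only [f] at hc0
    rw [hκ _ (hj c), hκ _ hk1.1, hjk, hvc, hk1.2, smul_one_point _ c.2, smul_one_point 0 (by norm_num)] at hc0
    -- the translate is the element itself
    obtain ⟨c0, e0⟩ : ∃ c, f c = y := by
      have : y ∈ Set.range f := hset ▸ hy
      exact this
    have hd := congrArg (fun t => C.κ (y⁻¹ * t)) e0
    simp only [f] at hd
    rw [hκ _ (hj c0), hjk, hvc, smul_one_point _ c0.2, inv_mul_cancel, C.κ_one] at hd
    have : c = c0 := Fin.ext (hc0.trans hd.symm)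
    rw [this, e0] at hc
    show y * k = k * y
    calc y * k = (k * y * k⁻¹) * k := by rw [← hc]
      _ = k * y := by group
  · rw [← hset] at hy'
    obtain ⟨c, rfl⟩ := hy'
    exact ⟨j c, hj c, rfl⟩

/-- Moving to the first member. -/
theorem to_first (hne : C.NonIsolated) {x : G} (hx : C.Cj x) (hc : Commute x C.z) (hxz : x ≠ C.z) :
    ∃ h, Commute h C.z ∧ h * x * h⁻¹ ∈ C.O ∩ C.coset 1 := by
  obtain ⟨h, hh, hA⟩ := C.invol_conj hc (C.Cj_sq hx)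
  have hne' : h * x * h⁻¹ ≠ C.z := fun e => hxz (by
    have e' := congrArg (fun y => h⁻¹ * y * h) e
    rw [show h⁻¹ * (h * x * h⁻¹) * h = x by group, hh.inv_left.eq, inv_mul_cancel_right] at e'
    exact e')
  obtain ⟨n, hn, hm⟩ := (C.O_five hne ⟨hA, C.Cj_conj hx h⟩).resolve_left hne'
  obtain ⟨k, hk, e⟩ := five_par hn
  obtain ⟨p, hp, ep⟩ := C.par_lift hk
  have hpz := C.mem_H.mp hp.2
  refine ⟨p⁻¹ * h, hpz.inv_left.mul_left hh, ?_⟩
  have he : p * (p⁻¹ * h * x * (p⁻¹ * h)⁻¹) * p⁻¹ = h * x * h⁻¹ := by group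
  have hcos : p⁻¹ * h * x * (p⁻¹ * h)⁻¹ ∈ C.coset 1 := (C.coset_par hp ep e _).mpr (by rw [he]; exact hm)
  exact ⟨⟨hcos.1, C.Cj_conj hx _⟩, hcos⟩

theorem sing_first : Sing 1 := sing_one

theorem image_point (hne : C.NonIsolated) {x : G} (hx : C.Cj x) (hc : Commute x C.z) (hxz : x ≠ C.z) :
    ∃ p, Sing p ∧ C.ρ x = tv p := by
  obtain ⟨h, hh, hm⟩ := C.to_first hne hx hc hxz
  have hU := C.ρ_mem _ hh.inv_left
  refine ⟨app (C.ρ h⁻¹) 1, sing_one.app hU.unit, ?_⟩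
  rw [show x = h⁻¹ * (h * x * h⁻¹) * h by group, C.ρ_mul (hh.inv_left.mul_left (C.A_comm hm.2.1)) hh,
    C.ρ_mul hh.inv_left (C.A_comm hm.2.1), hm.2.2, (r_point 1 (by norm_num) (by decide)).1, show rPt 1 = 1 from rfl,
    hU.unit.tv_comm (by norm_num), comp_assoc, C.ρ_inv_left hh]
  exact (inU_tv (sing_one.app hU.unit)).form

/-- A conjugate centralises the kernel of its image. -/
theorem comm_Fx (hne : C.NonIsolated) {x k : G} (hx : C.Cj x) (hc : Commute x C.z) (hxz : x ≠ C.z)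
    (hk : k ∈ C.Fx (C.ρ x)) : Commute x k := by
  obtain ⟨h, hh, hm⟩ := C.to_first hne hx hc hxz
  have hk' : h * k * h⁻¹ ∈ C.Fx (rOf 1) := by
    refine ⟨C.conjJ h hh k hk.1, ?_⟩
    rw [C.κ_conj h hh k hk.1, ← hm.2.2, C.ρ_mul (hh.mul_left hc) hh.inv_left, C.ρ_mul hh hc, app_comp, app_comp,
      ← app_comp (C.ρ h⁻¹), C.ρ_inv_left hh, app_one _ (C.κ_lt k hk.1), hk.2]
  have := (C.first_orbit hne hm).1 _ hk'
  show x * k = k * x
  calc x * k = h⁻¹ * (h * x * h⁻¹ * (h * k * h⁻¹)) * h := by group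
    _ = _ := by rw [this.eq]; group

/-- A conjugate with image in the radical lies in the elementary abelian subgroup. -/
theorem in_A (hne : C.NonIsolated) {x : G} (hx : C.Cj x) (hc : Commute x C.z) {n : ℕ} (hn : n < 16)
    (e : C.ρ x = rOf n) : x ∈ C.A := by
  by_cases hxz : x = C.z
  · rw [hxz]; exact C.Wt_le_A C.z_Wt
  exact C.mem_A.mpr fun j hj hk => C.comm_Fx hne hx hc hxz ⟨hj, by rw [e]; exact r_fix n hn _ hk⟩

/-- Two conjugates with the same image are conjugate under the extraspecial group. -/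
theorem same_point (hne : C.NonIsolated) {x y : G} (hx : C.Cj x) (hy : C.Cj y) (cx : Commute x C.z) (cy : Commute y C.z)
    (hxz : x ≠ C.z) (e : C.ρ x = C.ρ y) : ∃ j ∈ C.J, y = j * x * j⁻¹ := by
  obtain ⟨h, hh, hm⟩ := C.to_first hne hx cx hxz
  have cy' : Commute (h * y * h⁻¹) C.z := (hh.mul_left cy).mul_left hh.inv_left
  have e' : C.ρ (h * y * h⁻¹) = rOf 1 := by
    rw [C.ρ_mul (hh.mul_left cy) hh.inv_left, C.ρ_mul hh cy, ← e, ← C.ρ_mul hh cx, ← C.ρ_mul (hh.mul_left cx) hh.inv_left]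
    exact hm.2.2
  have hA := C.in_A hne (C.Cj_conj hy h) cy' (by norm_num) e'
  obtain ⟨j, hj, ej⟩ := (C.first_orbit hne hm).2 _ ⟨⟨hA, C.Cj_conj hy h⟩, hA, e'⟩
  refine ⟨h⁻¹ * j * h, by simpa using C.conjJ _ hh.inv_left j hj, ?_⟩
  calc y = h⁻¹ * (h * y * h⁻¹) * h := by group
    _ = _ := by rw [ej]; group

theorem point_exists (hne : C.NonIsolated) {p : ℕ} (hp : Sing p) :
    ∃ x, C.Cj x ∧ Commute x C.z ∧ x ≠ C.z ∧ C.ρ x = tv p := by
  obtain ⟨y, hy⟩ := (Set.ncard_pos (Set.toFinite _)).mp (show 0 < (C.O ∩ C.coset 1).ncard by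
    have h : C.cnt 1 = 4 := (C.orbit_counts hne).2.1
    unfold cnt at h; omega)
  obtain ⟨i, hi, ei⟩ := sing_rep hp
  obtain ⟨h, hh, eh⟩ := C.ρ_surj _ (inU_rep hi)
  have hyz := C.A_comm hy.2.1
  refine ⟨h * y * h⁻¹, C.Cj_conj hy.1.2 h, (hh.mul_left hyz).mul_left hh.inv_left, fun e => ?_, ?_⟩
  · apply C.O_ne_coset (by decide) hy.2
    have e' := congrArg (fun t => h⁻¹ * t * h) e
    rw [show h⁻¹ * (h * y * h⁻¹) * h = y by group, hh.inv_left.eq, inv_mul_cancel_right] at e'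
    exact e'
  · rw [C.ρ_mul (hh.mul_left hyz) hh.inv_left, C.ρ_mul hh hyz, hy.2.2, (r_point 1 (by norm_num) (by decide)).1,
      show rPt 1 = 1 from rfl, eh, (inU_rep hi).unit.tv_comm (by norm_num), ei, comp_assoc, ← eh, ← C.ρ_mul hh hh.inv_left,
      mul_inv_cancel, C.ρ_one]
    exact (inU_tv hp).form

/-- Commuting pairs are moved into the elementary abelian subgroup by the centraliser. -/
theorem pair_to_A (hne : C.NonIsolated) {x y : G} (hx : C.Cj x) (hy : C.Cj y) (cx : Commute x C.z) (cy : Commute y C.z)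
    {p q : ℕ} (hp : Sing p) (hq : Sing q) (ep : C.ρ x = tv p) (eq : C.ρ y = tv q) (h0 : herm p q = 0) :
    ∃ h, Commute h C.z ∧ h * x * h⁻¹ ∈ C.A ∧ h * y * h⁻¹ ∈ C.A := by
  obtain ⟨g, hg, w, hw, w', hw', ew, ew'⟩ := line_of_perp hp hq h0
  obtain ⟨k, hk, ek⟩ := C.ρ_surj g hg
  refine ⟨k⁻¹, hk.inv_left, ?_, ?_⟩
  · obtain ⟨n, hn, en⟩ := five_points w hw (fun e => hp.2.1 (by rw [← ew, e, app_zero]))
    refine C.in_A hne (C.Cj_conj hx _) ((hk.inv_left.mul_left cx).mul_left hk.inv_left.inv_left) (five_lt n hn).1 ?_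
    rw [inv_inv, C.ρ_mul (hk.inv_left.mul_left cx) hk, C.ρ_mul hk.inv_left cx, ep, ek, ← ew, comp_assoc,
      ← hg.unit.tv_comm (by omega), ← comp_assoc, ← ek, C.ρ_inv_left hk, en, ← r_form n, one_comp]
  · obtain ⟨n, hn, en⟩ := five_points w' hw' (fun e => hq.2.1 (by rw [← ew', e, app_zero]))
    refine C.in_A hne (C.Cj_conj hy _) ((hk.inv_left.mul_left cy).mul_left hk.inv_left.inv_left) (five_lt n hn).1 ?_
    rw [inv_inv, C.ρ_mul (hk.inv_left.mul_left cy) hk, C.ρ_mul hk.inv_left cy, eq, ek, ← ew', comp_assoc,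
      ← hg.unit.tv_comm (by omega), ← comp_assoc, ← ek, C.ρ_inv_left hk, en, ← r_form n, one_comp]

theorem perp_of_comm {x y : G} (cx : Commute x C.z) (cy : Commute y C.z) {p q : ℕ} (hp : Sing p) (hq : Sing q)
    (ep : C.ρ x = tv p) (eq : C.ρ y = tv q) (h : Commute x y) : herm p q = 0 := by
  by_contra hh
  have hcm : comp (tv p) (tv q) = comp (tv q) (tv p) := by
    rw [← ep, ← eq, ← C.ρ_mul cx cy, ← C.ρ_mul cy cx, h.eq]
  have := congrArg (fun k => app k p) hcm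
  simp only [app_comp] at this
  have fp : app (tv p) p = p := (tv_fix hp.1 hp.2.1 hp.1).mpr (by rw [herm_self p hp.1, hp.2.2])
  rw [fp] at this
  have h0 := (tv_fix hp.1 hp.2.1 (app_lt _ _)).mp this
  rw [app_tv q hp.1, transv, herm_add_left, herm_self p hp.1, hp.2.2, Nat.zero_xor, herm_smul (herm_lt _ _) hq.1 hp.1,
    m4_zero _ (herm_lt _ _) _ (herm_lt _ _), ← herm_symm hp.1 hq.1, or_self] at h0
  exact hh h0

/-- Two conjugates in the centraliser commute exactly when their points are perpendicular. -/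
theorem comm_perp (hne : C.NonIsolated) {x y : G} (hx : C.Cj x) (hy : C.Cj y) (cx : Commute x C.z) (cy : Commute y C.z)
    {p q : ℕ} (hp : Sing p) (hq : Sing q) (ep : C.ρ x = tv p) (eq : C.ρ y = tv q) : Commute x y ↔ herm p q = 0 := by
  refine ⟨C.perp_of_comm cx cy hp hq ep eq, fun h0 => ?_⟩
  obtain ⟨h, hh, a, b⟩ := C.pair_to_A hne hx hy cx cy hp hq ep eq h0
  have := C.A_abelian hne a b
  show x * y = y * x
  calc x * y = h⁻¹ * (h * x * h⁻¹ * (h * y * h⁻¹)) * h := by group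
    _ = _ := by rw [this.eq]; group

theorem same_image_comm (hne : C.NonIsolated) {x y : G} (hx : C.Cj x) (hy : C.Cj y) (cx : Commute x C.z)
    (cy : Commute y C.z) (hxz : x ≠ C.z) (e : C.ρ x = C.ρ y) : Commute x y := by
  obtain ⟨p, hp, ep⟩ := C.image_point hne hx cx hxz
  exact (C.comm_perp hne hx hy cx cy hp hp ep (e ▸ ep)).mpr (by rw [herm_self p hp.1, hp.2.2])

/-- Three pairwise commuting conjugates have no fourth as product. -/
theorem no_four (hne : C.NonIsolated) {a b c : G} (ha : C.Cj a) (hb : C.Cj b) (hc : C.Cj c) (hab : a ≠ b) (hac : a ≠ c)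
    (hbc : b ≠ c) (cab : Commute a b) (cac : Commute a c) (cbc : Commute b c) : ¬ C.Cj (a * b * c) := by
  intro hd
  obtain ⟨g, rfl⟩ := ha
  have mv : ∀ {t : G}, Commute (g * C.z * g⁻¹) t → Commute (g⁻¹ * t * g) C.z := by
    intro t h
    show g⁻¹ * t * g * C.z = C.z * (g⁻¹ * t * g)
    calc g⁻¹ * t * g * C.z = g⁻¹ * (t * (g * C.z * g⁻¹)) * g := by group
      _ = _ := by rw [← h.eq]; group
  have nz : ∀ {t : G}, t ≠ g * C.z * g⁻¹ → g⁻¹ * t * g ≠ C.z := fun {t} h e => h (by rw [← e]; group)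
  obtain ⟨p, sp, ep⟩ := C.image_point hne (C.Cj_pull hb g) (mv cab) (nz hab.symm)
  obtain ⟨q, sq, eq⟩ := C.image_point hne (C.Cj_pull hc g) (mv cac) (nz hac.symm)
  have cc : Commute (g⁻¹ * b * g) (g⁻¹ * c * g) := by
    show g⁻¹ * b * g * (g⁻¹ * c * g) = g⁻¹ * c * g * (g⁻¹ * b * g)
    calc g⁻¹ * b * g * (g⁻¹ * c * g) = g⁻¹ * (b * c) * g := by group
      _ = _ := by rw [cbc.eq]; group
  obtain ⟨h, hh, hA1, hA2⟩ := C.pair_to_A hne (C.Cj_pull hb g) (C.Cj_pull hc g) (mv cab) (mv cac) sp sq ep eq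
    (C.perp_of_comm (mv cab) (mv cac) sp sq ep eq cc)
  set u := h * (g⁻¹ * b * g) * h⁻¹
  set v := h * (g⁻¹ * c * g) * h⁻¹
  have hd' : C.Cj (C.z * u * v) := by
    have := C.Cj_conj (C.Cj_pull hd g) h
    rwa [show h * (g⁻¹ * (g * C.z * g⁻¹ * b * c) * g) * h⁻¹ = (h * C.z * h⁻¹) * u * v by simp only [u, v]; group, hh.eq,
      mul_inv_cancel_right] at this
  have back : ∀ {t : G}, h * t * h⁻¹ = C.z → t = C.z := by
    intro t e
    have e' := congrArg (fun y => h⁻¹ * y * h) e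
    rw [show h⁻¹ * (h * t * h⁻¹) * h = t by group, hh.inv_left.eq, inv_mul_cancel_right] at e'
    exact e'
  have uO : u ∈ C.O := ⟨hA1, C.Cj_conj (C.Cj_pull hb g) h⟩
  have vO : v ∈ C.O := ⟨hA2, C.Cj_conj (C.Cj_pull hc g) h⟩
  obtain ⟨n, hn, hu⟩ := (C.O_five hne uO).resolve_left fun e => nz hab.symm (back e)
  obtain ⟨m, hm, hv⟩ := (C.O_five hne vO).resolve_left fun e => nz hac.symm (back e)
  have hwA : C.z * u * v ∈ C.A := mul_mem (mul_mem (C.Wt_le_A C.z_Wt) hA1) hA2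
  have ew : C.ρ (C.z * u * v) = rOf (n ^^^ m) := by
    rw [mul_assoc, C.ρ_mul (Commute.refl C.z) ((C.A_comm hA1).mul_left (C.A_comm hA2)), C.ρ_J C.zJ,
      C.ρ_mul (C.A_comm hA1) (C.A_comm hA2), hu.2, hv.2, one_comp, r_hom n (five_lt n hn).1 m (five_lt m hm).1]
  have lt : n ^^^ m < 16 := Nat.xor_lt_two_pow (n := 4) (five_lt n hn).1 (five_lt m hm).1
  by_cases hnm : n = m
  · rcases C.O_five hne ⟨hwA, hd'⟩ with r | ⟨l, hl, hw⟩
    · have huv : u * v = 1 := mul_eq_left.mp (show C.z * (u * v) = C.z by rw [← mul_assoc]; exact r)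
      have euv : u = v := by rw [mul_eq_one_iff_eq_inv.mp huv, inv_eq_of_mul_eq_one_right (C.A_sq_one hne hA2)]
      apply hbc
      have := congrArg (fun t => g * (h⁻¹ * t * h) * g⁻¹) euv
      simp only [u, v] at this
      simpa [mul_assoc] using this
    · exact (five_lt l hl).2.2 (rOf_inj (five_lt l hl).1 (by norm_num) (by rw [← hw.2, ew, hnm, Nat.xor_self]))
  · rcases C.O_five hne ⟨hwA, hd'⟩ with r | ⟨l, hl, hw⟩
    · rw [r, C.ρ_J C.zJ, ← r_inj.2.2] at ew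
      exact five_xor n hn m hm hnm (by rw [← rOf_inj (by norm_num) lt ew]; decide)
    · exact five_xor n hn m hm hnm (by rw [rOf_inj lt (five_lt l hl).1 (ew.symm.trans hw.2)]; exact List.mem_cons_of_mem _ hl)

/-- An involution of the extraspecial group is a product of two conjugates with one image. -/
theorem J_product (hne : C.NonIsolated) {q : G} (hq : q ∈ C.J) (hs : Sing (C.κ q)) :
    ∃ e f, C.Cj e ∧ C.Cj f ∧ Commute e C.z ∧ Commute f C.z ∧ e ≠ C.z ∧ f ≠ C.z ∧ e ≠ f ∧ C.ρ e = C.ρ f ∧ e * f = q := by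
  obtain ⟨y, hy1, hy2, hy3, hy4⟩ := C.point_exists hne sing_one
  obtain ⟨v, hv, ev⟩ := herm_hit 1 (by norm_num)
  obtain ⟨j, hj, rfl⟩ := C.κ_surj v hv
  have yi : y⁻¹ = y := inv_eq_of_mul_eq_one_right (C.Cj_sq hy1)
  have cy' : Commute (j * y * j⁻¹) C.z := ((C.Jz j hj).mul_left hy2).mul_left (C.Jz j hj).inv_left
  have ρeq : C.ρ (j * y * j⁻¹) = C.ρ y := by
    rw [C.ρ_mul ((C.Jz j hj).mul_left hy2) (C.Jz j hj).inv_left, C.ρ_mul (C.Jz j hj) hy2, C.ρ_J hj, C.ρ_J (inv_mem hj),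
      comp_assoc, (C.ρ_mem y hy2).form, ← (C.ρ_mem y hy2).form, one_comp]
  have hqJ : y * (j * y * j⁻¹) ∈ C.J := by
    rw [show y * (j * y * j⁻¹) = (y⁻¹ * j * y⁻¹⁻¹) * j⁻¹ by rw [inv_inv, yi]; group]
    exact mul_mem (C.conjJ _ hy2.inv_left _ hj) (inv_mem hj)
  have hk : C.κ (y * (j * y * j⁻¹)) = 1 := by
    rw [show y * (j * y * j⁻¹) = (y⁻¹ * j * y⁻¹⁻¹) * j⁻¹ by rw [inv_inv, yi]; group,
      C.κ_mul _ (C.conjJ _ hy2.inv_left _ hj) _ (inv_mem hj), C.κ_inv hj, C.κ_conj _ hy2.inv_left _ hj, yi, hy4,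
      Nat.xor_comm, tv_move 1 (C.κ_lt j hj), ev]
    exact smul_one_point 1 (by norm_num)
  obtain ⟨h, hh, eh⟩ := C.J_invol_conj hqJ hq (by rw [hk]; exact sing_one) hs
  have cy1 : Commute (h * y * h⁻¹) C.z := (hh.mul_left hy2).mul_left hh.inv_left
  have cy2 : Commute (h * (j * y * j⁻¹) * h⁻¹) C.z := (hh.mul_left cy').mul_left hh.inv_left
  refine ⟨h * y * h⁻¹, h * (j * y * j⁻¹) * h⁻¹, C.Cj_conj hy1 h, C.Cj_conj (C.Cj_conj hy1 j) h, cy1, cy2, ?_, ?_, ?_, ?_, ?_⟩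
  · intro e
    have := congrArg (fun t => h⁻¹ * t * h) e
    rw [show h⁻¹ * (h * y * h⁻¹) * h = y by group, hh.inv_left.eq, inv_mul_cancel_right] at this
    exact hy3 this
  · intro e
    have := congrArg (fun t => (h * j)⁻¹ * t * (h * j)) e
    rw [show (h * j)⁻¹ * (h * (j * y * j⁻¹) * h⁻¹) * (h * j) = y by group, (hh.mul_left (C.Jz j hj)).inv_left.eq,
      inv_mul_cancel_right] at this
    exact hy3 this
  · intro e
    have : y = j * y * j⁻¹ := by simpa using congrArg (fun t => h⁻¹ * t * h) e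
    rw [← this, C.Cj_sq hy1, C.κ_one] at hk
    exact absurd hk (by norm_num)
  · rw [C.ρ_mul (hh.mul_left hy2) hh.inv_left, C.ρ_mul hh hy2, C.ρ_mul (hh.mul_left cy') hh.inv_left, C.ρ_mul hh cy', ρeq]
  · rw [← eh]; group

/-- Conjugates normalising the elementary abelian subgroup lie in it. -/
theorem NA_Cj (hne : C.NonIsolated) {y : G} (hy : C.Cj y) (hN : y ∈ C.NA) : y ∈ C.A := by
  classical
  haveI := Fintype.ofFinite G
  have y2 := C.Cj_sq hy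
  have yi : y⁻¹ = y := inv_eq_of_mul_eq_one_right y2
  have inv : ∀ t, y * (y * t * y⁻¹) * y⁻¹ = t := fun t => by
    rw [yi, show y * (y * t * y) * y = (y * y) * t * (y * y) by group, y2, one_mul, mul_one]
  let σ : Equiv.Perm ↥C.O :=
    { toFun := fun x => ⟨y * x * y⁻¹, C.O_conj hN x.2⟩
      invFun := fun x => ⟨y * x * y⁻¹, C.O_conj hN x.2⟩
      left_inv := fun x => Subtype.ext (inv x)
      right_inv := fun x => Subtype.ext (inv x) }
  have hcard : Fintype.card ↥C.O = 21 := by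
    rw [← Nat.card_eq_fintype_card, Nat.card_coe_set_eq, C.card_O', (C.orbit_counts hne).1, (C.orbit_counts hne).2.1,
      (C.orbit_counts hne).2.2]
  haveI : Fact (Nat.Prime 2) := ⟨Nat.prime_two⟩
  obtain ⟨x, hx⟩ := Equiv.Perm.exists_fixed_point_of_prime (σ := σ) (p := 2) (n := 1) (by rw [hcard]; decide)
    (Equiv.ext fun x => by rw [pow_one, pow_two]; exact Subtype.ext (inv x))
  have hx' : y * x.1 * y⁻¹ = x.1 := congrArg Subtype.val hx
  obtain ⟨m, hm, em⟩ := C.O_transitive hne x.2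
  have hc : Commute (m⁻¹ * y * m) C.z := by
    show m⁻¹ * y * m * C.z = C.z * (m⁻¹ * y * m)
    calc m⁻¹ * y * m * C.z = m⁻¹ * (y * (m * C.z * m⁻¹) * y⁻¹) * y * m := by group
      _ = _ := by rw [em, hx', ← em]; group
  have hNH : m⁻¹ * y * m ∈ C.NH := ⟨C.NA.mul_mem (C.NA.mul_mem (C.NA.inv_mem hm) hN) hm, C.mem_H.mpr hc⟩
  suffices m⁻¹ * y * m ∈ C.A by simpa [mul_assoc] using C.NA_conj hm this
  by_cases hz : m⁻¹ * y * m = C.z
  · rw [hz]; exact C.Wt_le_A C.z_Wt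
  obtain ⟨p, sp, ep⟩ := C.image_point hne (C.Cj_pull hy m) hc hz
  obtain ⟨k, hk, ek⟩ := C.NH_par hNH
  obtain ⟨p0, hp0, e0⟩ := tv_pts sp
  have t := List.all_eq_true.mp line_tv p0 hp0
  rw [e0, ← ep, ek, Bool.or_eq_true, Bool.or_eq_true, Bool.not_eq_true', Bool.not_eq_true'] at t
  rcases t with (t | t) | t
  · have := par_lt_low hk (show 1 < 16 by norm_num)
    rw [← Bool.not_eq_true, Nat.ble_eq] at t; omega
  · have := par_lt_low hk (show 4 < 16 by norm_num)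
    rw [← Bool.not_eq_true, Nat.ble_eq] at t; omega
  · have hp16 : p0 < 16 := by have := Nat.le_of_ble_eq_true t; omega
    obtain ⟨n, hn, en⟩ := five_points p0 hp16 (pts_sing hp0).2.1
    exact C.in_A hne (C.Cj_pull hy m) hc (five_lt n hn).1 (by rw [ep, ← e0, en])

/-- The product of the conjugates over one member is the involution. -/
theorem four_sum (hne : C.NonIsolated) {y : G} (hy : y ∈ C.O ∩ C.coset 1) {y' : G} (hy' : y' ∈ C.O ∩ C.coset 1)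
    (hne' : y ≠ y') : ∃ u w, u ∈ C.O ∩ C.coset 1 ∧ w ∈ C.O ∩ C.coset 1 ∧ y * y' * u * w = C.z := by
  obtain ⟨fixk, orb⟩ := C.first_orbit hne hy
  obtain ⟨j, hj, rfl⟩ := orb y' hy'
  have hyz := C.A_comm hy.2.1
  have y2 := C.A_sq_one hne hy.2.1
  have yi : y⁻¹ = y := inv_eq_of_mul_eq_one_right y2
  have hκ : ∀ k ∈ C.J, y * (k * y * k⁻¹) ∈ C.Wt ∧ C.κ (y * (k * y * k⁻¹)) = herm (C.κ k) 1 := by
    intro k hk
    have hA : k * y * k⁻¹ ∈ C.A := C.NA_conj (C.J_le_NH hk).1 hy.2.1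
    have e : y * (k * y * k⁻¹) = (y⁻¹ * k * y⁻¹⁻¹) * k⁻¹ := by rw [inv_inv, yi]; group
    have hJ : y * (k * y * k⁻¹) ∈ C.J := by rw [e]; exact mul_mem (C.conjJ _ hyz.inv_left _ hk) (inv_mem hk)
    refine ⟨C.mem_Wt hJ (mul_mem hy.2.1 hA), ?_⟩
    rw [e, C.κ_mul _ (C.conjJ _ hyz.inv_left _ hk) _ (inv_mem hk), C.κ_inv hk, C.κ_conj _ hyz.inv_left _ hk, yi, hy.2.2,
      (r_point 1 (by norm_num) (by decide)).1, show rPt 1 = 1 from rfl, Nat.xor_comm, tv_move 1 (C.κ_lt k hk)]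
    exact smul_one_point _ (herm_lt _ _)
  set c := herm (C.κ j) 1
  have c0 : c ≠ 0 := fun e => hne' (by
    have := fixk j (C.first_fix.mpr ⟨hj, e⟩)
    rw [← this.eq, mul_inv_cancel_right])
  obtain ⟨d, hd, d0, dc⟩ : ∃ d < 4, d ≠ 0 ∧ c ≠ d := by
    by_cases h : c = 1
    · exact ⟨2, by norm_num, by norm_num, by omega⟩
    · exact ⟨1, by norm_num, by norm_num, h⟩
  obtain ⟨v, hv, ev⟩ := herm_hit d hd
  obtain ⟨k, hk, rfl⟩ := C.κ_surj v hv
  have mem : ∀ m ∈ C.J, m * y * m⁻¹ ∈ C.O ∩ C.coset 1 := fun m hm => by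
    have hA : m * y * m⁻¹ ∈ C.A := C.NA_conj (C.J_le_NH hm).1 hy.2.1
    refine ⟨⟨hA, C.Cj_conj hy.1.2 _⟩, hA, ?_⟩
    rw [C.ρ_mul ((C.Jz _ hm).mul_left hyz) (C.Jz _ (inv_mem hm)), C.ρ_mul (C.Jz _ hm) hyz, C.ρ_J hm, C.ρ_J (inv_mem hm),
      hy.2.2, comp_assoc, r_form, ← r_form 1, one_comp, r_form]
  refine ⟨k * y * k⁻¹, j * k * y * (j * k)⁻¹, mem k hk, mem _ (mul_mem hj hk), ?_⟩
  obtain ⟨hdW, hdκ⟩ := hκ k hk
  obtain ⟨hcW, hcκ⟩ := hκ j hj
  obtain ⟨t, ht⟩ : ∃ t, t = y * (k * y * k⁻¹) := ⟨_, rfl⟩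
  obtain ⟨s, hs⟩ : ∃ s, s = y * (j * y * j⁻¹) := ⟨_, rfl⟩
  rw [← ht] at hdW hdκ
  rw [← hs] at hcW hcκ
  have e1 : k * y * k⁻¹ = y * t := by rw [ht, ← mul_assoc, y2, one_mul]
  have e2 : j * y * j⁻¹ = y * s := by rw [hs, ← mul_assoc, y2, one_mul]
  have sw : j * t = C.z * (t * j) := by
    rw [C.swap hj hdW.1, hdκ, ev, polar_hit c (herm_lt _ _) d hd c0 d0 dc _ (C.κ_lt j hj) rfl]; rfl
  have e3 : j * k * y * (j * k)⁻¹ = y * s * (C.z * t) := by
    rw [show j * k * y * (j * k)⁻¹ = j * (k * y * k⁻¹) * j⁻¹ by group, e1,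
      show j * (y * t) * j⁻¹ = (j * y * j⁻¹) * (j * t * j⁻¹) by group, e2, sw]
    group
  have cy : ∀ w ∈ C.Wt, Commute y w := fun w hw => C.mem_A.mp hy.2.1 w hw.1 hw.2
  have cst : Commute s t := (C.comm_iff hcW.1 hdW.1).mpr (line_polar _ hcW.2 _ hdW.2).1
  have ts : t * (y * s) = y * s * t := by rw [← mul_assoc, ← (cy t hdW).eq, mul_assoc, ← cst.eq, mul_assoc]
  rw [e2, e1, e3]
  calc y * (y * s) * (y * t) * (y * s * (C.z * t)) = (y * y) * (s * y) * (t * (y * s)) * (C.z * t) := by group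
    _ = (s * y) * (y * s * t) * (C.z * t) := by rw [y2, one_mul, ts]
    _ = (s * (y * y) * s) * (t * C.z * t) := by group
    _ = C.z := by
      rw [y2, mul_one, C.Wt_sq hcW, one_mul, (C.Jz t hdW.1).eq, mul_assoc, C.Wt_sq hdW, mul_one]

theorem coset_shift (hne : C.NonIsolated) {n : ℕ} (hn : n ∈ [1, 2, 4, 8, 15]) {u v : G} (hu : u ∈ C.O ∩ C.coset n)
    (hv : v ∈ C.O ∩ C.coset n) (huv : u ≠ v) :
    u * v ∈ C.J ∧ ∃ c < 4, c ≠ 0 ∧ C.κ (u * v) = smul4 c (rPt n) := by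
  obtain ⟨h16, hp0, -⟩ := five_lt n hn
  have uz := C.A_comm hu.2.1
  have hnz := C.O_ne_coset hn hu.2
  obtain ⟨j, hj, rfl⟩ := C.same_point hne hu.1.2 hv.1.2 uz (C.A_comm hv.2.1) hnz (hu.2.2.trans hv.2.2.symm)
  have ui : u⁻¹ = u := inv_eq_of_mul_eq_one_right (C.Cj_sq hu.1.2)
  have e : u * (j * u * j⁻¹) = (u⁻¹ * j * u⁻¹⁻¹) * j⁻¹ := by rw [inv_inv, ui]; group
  obtain ⟨er, hp16⟩ := r_point n h16 hp0
  refine ⟨by rw [e]; exact mul_mem (C.conjJ _ uz.inv_left _ hj) (inv_mem hj), herm (C.κ j) (rPt n), herm_lt _ _, ?_, ?_⟩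
  · intro h0
    apply huv
    have := C.comm_Fx hne hu.1.2 uz hnz (k := j) ⟨hj, by
      rw [hu.2.2, er, (tv_fix (by omega) hp0 (C.κ_lt j hj)).mpr h0]⟩
    rw [← this.eq, mul_inv_cancel_right]
  · rw [e, C.κ_mul _ (C.conjJ _ uz.inv_left _ hj) _ (inv_mem hj), C.κ_inv hj, C.κ_conj _ uz.inv_left _ hj, ui, hu.2.2, er,
      Nat.xor_comm, tv_move _ (C.κ_lt j hj)]

/-- Seen from a member of a pair, the involution and the partner have one image. -/
theorem pair_view (hne : C.NonIsolated) {e f g : G} (he : C.Cj e) (hf : C.Cj f) (ce : Commute e C.z) (cf : Commute f C.z)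
    (hez : e ≠ C.z) (hef : e ≠ f) (hρ : C.ρ e = C.ρ f) (hg : g * C.z * g⁻¹ = e) :
    C.ρ (g⁻¹ * C.z * g) = C.ρ (g⁻¹ * f * g) := by
  obtain ⟨h, hh, hm⟩ := C.to_first hne he ce hez
  have cf' : Commute (h * f * h⁻¹) C.z := (hh.mul_left cf).mul_left hh.inv_left
  have ef' : C.ρ (h * f * h⁻¹) = rOf 1 := by
    rw [C.ρ_mul (hh.mul_left cf) hh.inv_left, C.ρ_mul hh cf, ← hρ, ← C.ρ_mul hh ce, ← C.ρ_mul (hh.mul_left ce) hh.inv_left]
    exact hm.2.2
  have hA := C.in_A hne (C.Cj_conj hf h) cf' (by norm_num) ef'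
  have hmf : h * f * h⁻¹ ∈ C.O ∩ C.coset 1 := ⟨⟨hA, C.Cj_conj hf h⟩, hA, ef'⟩
  obtain ⟨a, b, ha, hb, hsum⟩ := C.four_sum hne hm hmf (fun e' => hef (by simpa using congrArg (fun t => h⁻¹ * t * h) e'))
  obtain ⟨m, hm', em⟩ := C.O_transitive hne hm.1
  set z' := m⁻¹ * C.z * m with hz'
  set f' := m⁻¹ * (h * f * h⁻¹) * m with hf'
  set a' := m⁻¹ * a * m
  set b' := m⁻¹ * b * m
  have pull : ∀ {t : G}, t ∈ C.O → m⁻¹ * t * m ∈ C.O := fun {t} ht => by simpa using C.O_conj (C.NA.inv_mem hm') ht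
  have e1 : h * e * h⁻¹ ≠ C.z := C.O_ne_coset (by decide) hm.2
  have f1 : h * f * h⁻¹ ≠ h * e * h⁻¹ := fun e' => hef (by simpa using (congrArg (fun t => h⁻¹ * t * h) e').symm)
  have zO : z' ∈ C.O := pull C.z_mem_O
  have fO : f' ∈ C.O := pull hmf.1
  have z1 : z' ≠ C.z := fun e' => e1 (by
    rw [← em]
    calc m * C.z * m⁻¹ = m * z' * m⁻¹ := by rw [e']
      _ = C.z := by rw [hz']; group)
  have f1' : f' ≠ C.z := fun e' => f1 (by
    rw [← em]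
    calc h * f * h⁻¹ = m * f' * m⁻¹ := by rw [hf']; group
      _ = _ := by rw [e'])
  have hrel : z' * f' * a' * b' = C.z := by
    have e' : C.z = m⁻¹ * (h * e * h⁻¹) * m := by rw [← em]; group
    have cA : Commute C.z (h * e * h⁻¹) := (C.A_comm hm.2.1).symm
    calc z' * f' * a' * b' = m⁻¹ * (C.z * (h * f * h⁻¹) * a * b) * m := by simp only [hz', hf', a', b']; group
      _ = m⁻¹ * (C.z * (h * e * h⁻¹)⁻¹ * C.z) * m := by rw [← hsum]; group
      _ = _ := by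
        rw [inv_eq_of_mul_eq_one_right (C.A_sq_one hne hm.2.1), cA.eq, mul_assoc (h * e * h⁻¹), C.zz, mul_one, ← e']
  have aO : a' ∈ C.O := pull ha.1
  have bO : b' ∈ C.O := pull hb.1
  obtain ⟨n1, hn1, c1⟩ := (C.O_five hne zO).resolve_left z1
  obtain ⟨n2, hn2, c2⟩ := (C.O_five hne fO).resolve_left f1'
  have main : n1 = n2 := by
    have key : ∀ {u : G}, u ∈ C.O → ∃ n, (n = 0 ∧ u = C.z) ∨ (n ∈ [1, 2, 4, 8, 15] ∧ u ∈ C.coset n) := fun {u} hu => by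
      rcases C.O_five hne hu with r | ⟨n, hn, h⟩
      · exact ⟨0, Or.inl ⟨rfl, r⟩⟩
      · exact ⟨n, Or.inr ⟨hn, h⟩⟩
    obtain ⟨n3, k3⟩ := key aO
    obtain ⟨n4, k4⟩ := key bO
    have lt3 : n3 < 16 := by rcases k3 with ⟨r, -⟩ | ⟨r, -⟩ <;> [omega; exact (five_lt n3 r).1]
    have lt4 : n4 < 16 := by rcases k4 with ⟨r, -⟩ | ⟨r, -⟩ <;> [omega; exact (five_lt n4 r).1]
    have e3 : C.ρ a' = rOf n3 := by rcases k3 with ⟨r, r'⟩ | ⟨-, r'⟩ <;> [rw [r', C.ρ_J C.zJ, r, r_inj.2.2]; exact r'.2]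
    have e4 : C.ρ b' = rOf n4 := by rcases k4 with ⟨r, r'⟩ | ⟨-, r'⟩ <;> [rw [r', C.ρ_J C.zJ, r, r_inj.2.2]; exact r'.2]
    have z2 := C.A_comm zO.1
    have f2 := C.A_comm fO.1
    have a2 := C.A_comm aO.1
    have b2 := C.A_comm bO.1
    have lt1 := (five_lt n1 hn1).1
    have lt2 := (five_lt n2 hn2).1
    have l12 : n1 ^^^ n2 < 16 := Nat.xor_lt_two_pow (n := 4) lt1 lt2
    have l123 : n1 ^^^ n2 ^^^ n3 < 16 := Nat.xor_lt_two_pow (n := 4) l12 lt3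
    have hx : n1 ^^^ n2 ^^^ n3 ^^^ n4 = 0 := by
      refine rOf_inj (Nat.xor_lt_two_pow (n := 4) l123 lt4) (by norm_num) ?_
      rw [← r_hom _ l123 _ lt4, ← r_hom _ l12 _ lt3, ← r_hom _ lt1 _ lt2, ← c1.2, ← c2.2, ← e3, ← e4, ← C.ρ_mul z2 f2,
        ← C.ρ_mul (z2.mul_left f2) a2, ← C.ρ_mul ((z2.mul_left f2).mul_left a2) b2, hrel, C.ρ_J C.zJ, r_inj.2.2]
    by_contra h12
    rcases k3 with ⟨r, -⟩ | ⟨h3, c3⟩
    · rw [r, Nat.xor_zero] at hx
      have : n1 ^^^ n2 = n4 := by have h := congrArg (· ^^^ n4) hx; simpa [Nat.xor_assoc] using h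
      refine five_xor n1 hn1 n2 hn2 h12 ?_
      rw [this]
      rcases k4 with ⟨r4, -⟩ | ⟨r4, -⟩ <;> [(rw [r4]; decide); exact List.mem_cons_of_mem _ r4]
    rcases k4 with ⟨r, -⟩ | ⟨h4, c4⟩
    · rw [r, Nat.xor_zero] at hx
      have : n1 ^^^ n2 = n3 := by have h := congrArg (· ^^^ n3) hx; simpa [Nat.xor_assoc] using h
      exact five_xor n1 hn1 n2 hn2 h12 (by rw [this]; exact List.mem_cons_of_mem _ h3)
    have fin : ∀ {u v : G}, u ∈ C.O ∩ C.coset n1 → v ∈ C.O ∩ C.coset n2 → z' * u * (f' * v) = C.z → False := by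
      intro u v hu hv e'
      have du : z' ≠ u := by
        rintro rfl
        rw [C.A_sq_one hne hu.2.1, one_mul] at e'
        rcases eq_or_ne f' v with rfl | d
        · rw [C.A_sq_one hne hv.2.1] at e'; exact C.z_ne e'.symm
        · obtain ⟨hJ, c, hc, c0, ek⟩ := C.coset_shift hne hn2 ⟨fO, c2⟩ hv d
          rw [e', C.κ_z] at ek
          exact (five_lt n2 hn2).2.1 ((smul4_eq_zero c hc _ (by have := (r_point n2 lt2 (five_lt n2 hn2).2.1).2; omega)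
            ek.symm).resolve_left c0)
      obtain ⟨hJ1, c, hc, c0, ek1⟩ := C.coset_shift hne hn1 ⟨zO, c1⟩ hu du
      rcases eq_or_ne f' v with rfl | d
      · rw [C.A_sq_one hne hv.2.1, mul_one] at e'
        rw [e', C.κ_z] at ek1
        exact (five_lt n1 hn1).2.1 ((smul4_eq_zero c hc _ (by have := (r_point n1 lt1 (five_lt n1 hn1).2.1).2; omega)
          ek1.symm).resolve_left c0)
      obtain ⟨hJ2, c', hc', c0', ek2⟩ := C.coset_shift hne hn2 ⟨fO, c2⟩ hv d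
      have := congrArg C.κ e'
      rw [C.κ_mul _ hJ1 _ hJ2, ek1, ek2, C.κ_z] at this
      have := congrArg (· ^^^ smul4 c' (rPt n2)) this
      simp only [Nat.xor_assoc, Nat.xor_self, Nat.xor_zero, Nat.zero_xor] at this
      exact points_apart n1 hn1 n2 hn2 h12 c hc c' hc' c0 this
    rcases five_quad n1 hn1 n2 hn2 n3 h3 n4 h4 hx with r | ⟨r1, r2⟩ | ⟨r1, r2⟩
    · exact h12 r
    · refine fin (u := a') (v := b') ⟨aO, r1 ▸ c3⟩ ⟨bO, r2 ▸ c4⟩ ?_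
      rw [← hrel, mul_assoc z' a', ← mul_assoc a', (C.A_abelian hne aO.1 fO.1).eq]; group
    · refine fin (u := b') (v := a') ⟨bO, r1 ▸ c4⟩ ⟨aO, r2 ▸ c3⟩ ?_
      rw [← hrel, mul_assoc z' b', (C.A_abelian hne bO.1 (mul_mem fO.1 aO.1)).eq]; group
  -- transport to the given element
  have eqρ : C.ρ z' = C.ρ f' := by rw [c1.2, c2.2, main]
  set k := m⁻¹ * h * g with hk
  have kc : Commute k C.z := by
    show k * C.z = C.z * k
    have : m * C.z * m⁻¹ = h * (g * C.z * g⁻¹) * h⁻¹ := by rw [hg, em]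
    calc k * C.z = m⁻¹ * (h * (g * C.z * g⁻¹) * h⁻¹) * h * g := by rw [hk]; group
      _ = _ := by rw [← this, hk]; group
  have i1 : g⁻¹ * C.z * g = k⁻¹ * z' * k := by
    rw [hk, hz', show (m⁻¹ * h * g)⁻¹ * (m⁻¹ * C.z * m) * (m⁻¹ * h * g) = g⁻¹ * (h⁻¹ * C.z * h) * g by group,
      hh.inv_left.eq, inv_mul_cancel_right]
  have i2 : g⁻¹ * f * g = k⁻¹ * f' * k := by rw [hk, hf']; group
  rw [i1, i2, C.ρ_mul (kc.inv_left.mul_left (C.A_comm zO.1)) kc, C.ρ_mul kc.inv_left (C.A_comm zO.1),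
    C.ρ_mul (kc.inv_left.mul_left (C.A_comm fO.1)) kc, C.ρ_mul kc.inv_left (C.A_comm fO.1), eqρ]

end Core

end CfsgLib.U6Rec
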