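/-
Commuting pairs of conjugates: their products determine them, and the other pairs have products of odd order.
-/
import Cfsg.Agent.Lib.U6Rec.Trans
import Cfsg.Agent.Lib.CoprimeGen
import Cfsg.Agent.Lib.ZStar.Main

set_option autoImplicit false
set_option maxRecDepth 100000
set_option linter.style.haveILetI false
set_option linter.unusedSectionVars false

namespace CfsgLib.U6Rec

theorem lines_first_card : Fintype.card {l : Fin 27 // onLine (lineEl l) 1 = true} = 3 := by decide +kernel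

theorem lines_first_sep : ((List.range 27).all fun l => !onLine (lineEl l) 1 || (List.range 27).all fun m =>
    !onLine (lineEl m) 1 || Nat.beq l m || ptsL.any fun p => onLine (lineEl l) p != onLine (lineEl m) p) = true := by
  decide +kernel

theorem par_half : ((List.range 960).all fun k =>
    !([(1, 2), (1, 4), (1, 8), (2, 4), (2, 8), (4, 8)] : List (ℕ × ℕ)).all (fun ij =>
      Nat.beq (comp (par k) (rOf ij.1)) (comp (rOf ij.1) (par k)) ||
      Nat.beq (comp (par k) (rOf ij.2)) (comp (rOf ij.2) (par k)) ||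
      Nat.beq (comp (par k) (rOf (ij.1 ^^^ ij.2))) (comp (rOf (ij.1 ^^^ ij.2)) (par k))) ||
    rL.elem (comp (par k) (par k))) = true := by decide +kernel

theorem ten_fix : ∀ n ∈ [3, 5, 6], ((List.range 256).all fun v => !Nat.beq (app (rOf n) v) v || Nat.ble v 15) = true := by
  decide +kernel

theorem r_fix_one : ∀ n < 16, app (rOf n) 1 = 1 ∧ app (rOf n) 4 = 4 :=
  fun n hn => ⟨r_fix n hn 1 (by norm_num), r_fix n hn 4 (by norm_num)⟩

theorem onLine_smul {g c v : ℕ} (hc : c < 4) (hc0 : c ≠ 0) (hv : v < 256)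
    (h : onLine g (smul4 c v) = true) : onLine g v = true := by
  unfold onLine at h ⊢
  rw [Bool.and_eq_true, Nat.beq_eq, Nat.beq_eq] at h ⊢
  exact ⟨(herm_smul_zero hc hc0 hv (app_lt _ _)).mp h.1, (herm_smul_zero hc hc0 hv (app_lt _ _)).mp h.2⟩

theorem line_cover {g : ℕ} (hg : InU g) :
    ∃ l < 27, onLine (lineEl l) (app g 1) = true ∧ onLine (lineEl l) (app g 4) = true := by
  have h1 := sing_one.app hg.unit
  have h4 := (pts_sing (p := 4) (by decide)).app hg.unit
  obtain ⟨c, hc, hc0, hm⟩ := sing_point h1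
  obtain ⟨d, hd, hd0, hm'⟩ := sing_point h4
  have hz : herm (smul4 c (app g 1)) (smul4 d (app g 4)) = 0 := by
    rw [herm_smul_zero hc hc0 h1.1 (smul4_lt hd _), herm_symm h1.1 (smul4_lt hd _), herm_smul_zero hd hd0 h4.1 h1.1,
      hg.unit.herm_app 4 1 (by norm_num) (by norm_num)]
    decide
  have hl := List.all_eq_true.mp (List.all_eq_true.mp line_pairs _ hm) _ hm'
  rw [hz, Bool.or_eq_true] at hl
  rcases hl with t | t
  · simp at t
  obtain ⟨l, hl, e⟩ := List.any_eq_true.mp t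
  rw [Bool.and_eq_true] at e
  exact ⟨l, List.mem_range.mp hl, onLine_smul hc hc0 h1.1 e.1, onLine_smul hd hd0 h4.1 e.2⟩

/-- An odd-order group normalised by an elementary abelian group is generated by the centralisers of its hyperplanes. -/
theorem hyper_gen {G : Type*} [Group G] [Finite G] {A U : Subgroup G} (hab : ∀ a ∈ A, ∀ b ∈ A, Commute a b)
    (h2 : ∀ a ∈ A, a * a = 1) (hn : ∀ a ∈ A, ∀ u ∈ U, a * u * a⁻¹ ∈ U) (hodd : (Nat.card U).Coprime 2)
    (base : ∀ S : Subgroup G, S ≤ A → (∀ a ∈ A, ∀ b ∈ A, a ∉ S → b ∉ S → a * b ∈ S) →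
      ∀ u ∈ U, (∀ s ∈ S, Commute u s) → u = 1) :
    ∀ u ∈ U, u = 1 := by
  classical
  suffices key : ∀ (n : ℕ) (S : Subgroup G), S ≤ A → Nat.card A - Nat.card S = n → ∀ u ∈ U, (∀ s ∈ S, Commute u s) → u = 1 by
    intro u hu
    exact key _ ⊥ bot_le rfl u hu fun s hs => by rw [Subgroup.mem_bot.mp hs]; exact Commute.one_right u
  intro n
  induction n using Nat.strong_induction_on with
  | _ n ih =>
    intro S hS hn' u hu hc
    by_cases hix : ∀ a ∈ A, ∀ b ∈ A, a ∉ S → b ∉ S → a * b ∈ S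
    · exact base S hS hix u hu hc
    push Not at hix
    obtain ⟨a, ha, b, hb, haS, hbS, habS⟩ := hix
    let T : Subgroup G :=
      { carrier := {t | t = 1 ∨ t = a ∨ t = b ∨ t = a * b}
        one_mem' := Or.inl rfl
        mul_mem' := by
          have e1 : b * a = a * b := (hab b hb a ha).eq
          have e2 : a * (a * b) = b := by rw [← mul_assoc, h2 a ha, one_mul]
          have e3 : b * (a * b) = a := by rw [← mul_assoc, e1, mul_assoc, h2 b hb, mul_one]
          have e4 : a * b * a = b := by rw [mul_assoc, e1, e2]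
          have e5 : a * b * b = a := by rw [mul_assoc, h2 b hb, mul_one]
          have e6 : a * b * (a * b) = 1 := h2 _ (mul_mem ha hb)
          rintro x y (rfl | rfl | rfl | rfl) (rfl | rfl | rfl | rfl) <;>
            simp only [Set.mem_ofPred_eq, one_mul, mul_one, h2 _ ha, h2 _ hb, e1, e2, e3, e4, e5, e6] <;> tauto
        inv_mem' := by
          have ea := inv_eq_of_mul_eq_one_right (h2 a ha)
          have eb := inv_eq_of_mul_eq_one_right (h2 b hb)
          have eab := inv_eq_of_mul_eq_one_right (h2 _ (mul_mem ha hb))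
          rintro x (rfl | rfl | rfl | rfl) <;> simp only [Set.mem_ofPred_eq, inv_one, ea, eb, eab] <;> tauto }
    have TA : T ≤ A := by
      rintro x (rfl | rfl | rfl | rfl)
      exacts [one_mem _, ha, hb, mul_mem ha hb]
    haveI : IsMulCommutative T := ⟨⟨fun x y => Subtype.ext (hab _ (TA x.2) _ (TA y.2)).eq⟩⟩
    have a1 : a ≠ 1 := fun e => haS (e ▸ one_mem _)
    have b1 : b ≠ 1 := fun e => hbS (e ▸ one_mem _)
    have hab' : a ≠ b := fun e => habS (by rw [e, h2 b hb]; exact one_mem _)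
    have hT : ¬ IsCyclic T := by
      intro hcy
      obtain ⟨g, hg⟩ := IsCyclic.exists_generator (α := T)
      have hpow : ∀ x : T, x = 1 ∨ x = g := fun x => by
        obtain ⟨i, rfl⟩ := Subgroup.mem_zpowers_iff.mp (hg x)
        have g2 : g ^ (2 : ℤ) = 1 := by
          rw [show (2 : ℤ) = ((2 : ℕ) : ℤ) from rfl, zpow_natCast, sq]
          exact Subtype.ext (h2 g (TA g.2))
        rcases Int.even_or_odd' i with ⟨j, rfl | rfl⟩
        · left; rw [zpow_mul, g2, one_zpow]
        · right; rw [zpow_add, zpow_mul, g2, one_zpow, one_mul, zpow_one]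
      have qa := (hpow ⟨a, Or.inr (Or.inl rfl)⟩).resolve_left fun e => a1 (congrArg Subtype.val e)
      have qb := (hpow ⟨b, Or.inr (Or.inr (Or.inl rfl))⟩).resolve_left fun e => b1 (congrArg Subtype.val e)
      exact hab' (congrArg Subtype.val (qa.trans qb.symm))
    set V : Subgroup G := U ⊓ Subgroup.centralizer (S : Set G) with hV
    have hTV : T ≤ Subgroup.normalizer (V : Set G) := by
      intro t ht
      have conj : ∀ t ∈ A, ∀ v ∈ V, t * v * t⁻¹ ∈ V := by
        intro t ht v hv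
        refine ⟨hn t ht v hv.1, Subgroup.mem_centralizer_iff.mpr fun s hs => ?_⟩
        have c1 : Commute s t := hab s (hS hs) t ht
        have c2 : Commute s v := Subgroup.mem_centralizer_iff.mp hv.2 s hs
        exact ((c1.mul_right c2).mul_right c1.inv_right).eq
      rw [Subgroup.mem_normalizer_iff]
      refine fun v => ⟨fun hv => conj t (TA ht) v hv, fun hv => ?_⟩
      have := conj t⁻¹ (A.inv_mem (TA ht)) _ hv
      rwa [show t⁻¹ * (t * v * t⁻¹) * t⁻¹⁻¹ = v by group] at this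
    have hcop : (Nat.card T).Coprime (Nat.card V) := by
      have hP : IsPGroup 2 T := fun x => ⟨1, Subtype.ext (by rw [pow_one, sq]; exact h2 x (TA x.2))⟩
      haveI : Fact (Nat.Prime 2) := ⟨Nat.prime_two⟩
      obtain ⟨k, hk⟩ := IsPGroup.iff_card.mp hP
      rw [hk]
      exact ((hodd.coprime_dvd_left (Subgroup.card_dvd_of_le inf_le_left)).symm).pow_left k
    have hgen := CfsgLib.coprime_generated_by_centralizers (A := T) (K := V) hT hTV hcop
    have uV : u ∈ V := ⟨hu, Subgroup.mem_centralizer_iff.mpr fun s hs => (hc s hs).eq.symm⟩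
    suffices V ≤ (⊥ : Subgroup G) from Subgroup.mem_bot.mp (this uV)
    rw [← hgen]
    refine iSup₂_le fun t ht v hv => ?_
    rw [Subgroup.mem_bot]
    have tS : t ∉ S := by
      rcases ht with ⟨(rfl | rfl | rfl | rfl), ht1⟩
      exacts [absurd rfl ht1, haS, hbS, habS]
    have hle : S ⊔ Subgroup.zpowers t ≤ A := sup_le hS (Subgroup.zpowers_le.mpr (TA ht.1))
    have hlt : Nat.card S < Nat.card ↥(S ⊔ Subgroup.zpowers t) := by
      refine lt_of_le_of_ne (Subgroup.card_le_of_le le_sup_left) fun e => tS ?_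
      rw [Subgroup.eq_of_le_of_card_ge le_sup_left e.ge]
      exact Subgroup.mem_sup_right (Subgroup.mem_zpowers t)
    refine ih (Nat.card A - Nat.card ↥(S ⊔ Subgroup.zpowers t)) ?_ _ hle rfl v hv.1.1 fun s hs => ?_
    · have := Subgroup.card_le_of_le hle
      omega
    · have hm : S ⊔ Subgroup.zpowers t ≤ Subgroup.centralizer ({v} : Set G) := by
        refine sup_le (fun s hs => Subgroup.mem_centralizer_singleton_iff.mpr ?_)
          (Subgroup.zpowers_le.mpr (Subgroup.mem_centralizer_singleton_iff.mpr ?_))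
        · exact Subgroup.mem_centralizer_iff.mp hv.1.2 s hs
        · exact (Subgroup.mem_centralizer_singleton_iff.mp hv.2).symm
      exact (Subgroup.mem_centralizer_singleton_iff.mp (hm hs)).symm

namespace Core

variable {G : Type*} [Group G] (C : Core G) [Finite G]

theorem ρ_app_cancel {k : G} (hk : Commute k C.z) {v : ℕ} (hv : v < 256) :
    app (C.ρ k) (app (C.ρ k⁻¹) v) = v ∧ app (C.ρ k⁻¹) (app (C.ρ k) v) = v := by
  rw [← app_comp, ← app_comp, ← C.ρ_mul hk hk.inv_left, ← C.ρ_mul hk.inv_left hk, mul_inv_cancel, inv_mul_cancel, C.ρ_one]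
  exact ⟨app_one v hv, app_one v hv⟩

/-- A conjugate lies in a translate of the elementary abelian subgroup exactly when its point is on the line. -/
theorem mem_line (hne : C.NonIsolated) {t k : G} (ht : C.Cj t) (ct : Commute t C.z) (hk : Commute k C.z) {p : ℕ}
    (hp : Sing p) (ep : C.ρ t = tv p) : k⁻¹ * t * k ∈ C.A ↔ onLine (C.ρ k) p = true := by
  have hU := C.ρ_mem _ hk.inv_left
  set q := app (C.ρ k⁻¹) p with hq
  have sq : Sing q := hp.app hU.unit
  have e : C.ρ (k⁻¹ * t * k) = tv q := by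
    rw [C.ρ_mul (hk.inv_left.mul_left ct) hk, C.ρ_mul hk.inv_left ct, ep, hU.unit.tv_comm hp.1, comp_assoc,
      C.ρ_inv_left hk]
    exact (inU_tv sq).form
  have cz : Commute (k⁻¹ * t * k) C.z := (hk.inv_left.mul_left ct).mul_left hk
  rw [onLine_iff (C.ρ_mem _ hk) hp.1]
  constructor
  · intro hA
    obtain ⟨n, hn, en⟩ := C.ρ_A hA
    have f1 : ∀ v, v = 1 ∨ v = 4 → herm q v = 0 := by
      intro v hv
      have : app (tv q) v = v := by
        rw [← e, en]; rcases hv with rfl | rfl <;> [exact (r_fix_one n hn).1; exact (r_fix_one n hn).2]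
      have hv' : v < 256 := by rcases hv with rfl | rfl <;> norm_num
      exact (herm_symm hv' sq.1).mp ((tv_fix sq.1 sq.2.1 hv').mp this)
    refine ⟨q, line_self q sq.1 (f1 1 (Or.inl rfl)) (f1 4 (Or.inr rfl)), (C.ρ_app_cancel hk hp.1).1⟩
  · rintro ⟨w, hw, ew⟩
    have : q = w := by rw [hq, ← ew]; exact (C.ρ_app_cancel hk (by omega)).2
    obtain ⟨n, hn, en⟩ := five_points w hw (this ▸ sq.2.1)
    refine C.in_A hne (by simpa using C.Cj_conj ht k⁻¹) cz (five_lt n hn).1 ?_
    rw [e, this, en]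

theorem line_rep {h : G} (hh : Commute h C.z) :
    ∃ l < 27, ∀ k, Commute k C.z → C.ρ k = lineEl l → k⁻¹ * h ∈ C.NA := by
  obtain ⟨l, hl, a, b⟩ := line_cover (C.ρ_mem _ hh)
  refine ⟨l, hl, fun k hk ek => ?_⟩
  have low : ∀ v, v = 1 ∨ v = 4 → app (C.ρ (k⁻¹ * h)) v < 16 := by
    intro v hv
    have hon : onLine (C.ρ k) (app (C.ρ h) v) = true := by rw [ek]; rcases hv with rfl | rfl <;> assumption
    obtain ⟨w, hw, ew⟩ := (onLine_iff (C.ρ_mem _ hk) (app_lt _ _)).mp hon
    rw [C.ρ_mul hk.inv_left hh, app_comp, ← ew, (C.ρ_app_cancel hk (by omega : w < 256)).2]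
    exact hw
  obtain ⟨j, hj, ej⟩ := par_spec (C.ρ_mem _ (hk.inv_left.mul_left hh)) (low 1 (Or.inl rfl)) (low 4 (Or.inr rfl))
  exact (C.par_mem_NH (hk.inv_left.mul_left hh) hj ej).1

/-- No conjugate interchanges the involution and a member of the first class. -/
theorem no_swap_first (hne : C.NonIsolated) {x y : G} (hx : x ∈ C.O ∩ C.coset 1) (hy : C.Cj y)
    (e : y * C.z * y⁻¹ = x) : False := by
  classical
  have y2 := C.Cj_sq hy
  have yi : y⁻¹ = y := inv_eq_of_mul_eq_one_right y2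
  have xz := C.A_comm hx.2.1
  have ex : C.ρ x = tv 1 := by rw [hx.2.2, (r_point 1 (by norm_num) (by decide)).1]; rfl
  choose k hk ek using fun l : {l : Fin 27 // onLine (lineEl l) 1 = true} =>
    C.ρ_surj (lineEl l.1) (inU_line l.1.2)
  have xin : ∀ l, (k l)⁻¹ * x * k l ∈ C.A := fun l => (C.mem_line hne hx.1.2 xz (hk l) sing_one ex).mpr (by rw [ek]; exact l.2)
  have uniq : ∀ l m, (k l)⁻¹ * k m ∈ C.NA → l = m := by
    intro l m hN
    by_contra hlm
    have t := List.all_eq_true.mp lines_first_sep l.1.1 (List.mem_range.mpr l.1.2)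
    rw [l.2, Bool.not_true, Bool.false_or, List.all_eq_true] at t
    have t' := t m.1.1 (List.mem_range.mpr m.1.2)
    rw [m.2, Bool.not_true, Bool.false_or, Bool.or_eq_true, Nat.beq_eq] at t'
    rcases t' with t' | t'
    · exact hlm (Subtype.ext (Fin.ext t'))
    obtain ⟨p, hp, hpd⟩ := List.any_eq_true.mp t'
    obtain ⟨t, ht, ct, -, et⟩ := C.point_exists hne (pts_sing hp)
    have h1 := C.mem_line hne ht ct (hk l) (pts_sing hp) et
    have h2 := C.mem_line hne ht ct (hk m) (pts_sing hp) et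
    rw [ek] at h1 h2
    have h3 : (k l)⁻¹ * t * k l ∈ C.A ↔ (k m)⁻¹ * t * k m ∈ C.A := by
      constructor
      · intro h
        have := C.NA_conj (C.NA.inv_mem hN) h
        rwa [show ((k l)⁻¹ * k m)⁻¹ * ((k l)⁻¹ * t * k l) * ((k l)⁻¹ * k m)⁻¹⁻¹ = (k m)⁻¹ * t * k m by group] at this
      · intro h
        have := C.NA_conj hN h
        rwa [show (k l)⁻¹ * k m * ((k m)⁻¹ * t * k m) * ((k l)⁻¹ * k m)⁻¹ = (k l)⁻¹ * t * k l by group] at this
    rw [h1, h2] at h3
    cases hl : onLine (lineEl l.1) p <;> cases hm : onLine (lineEl m.1) p <;> simp [hl, hm] at hpd h3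
  have step : ∀ l, ∃ m, (k m)⁻¹ * y * k l ∈ C.NA := by
    intro l
    set g := y * k l with hg
    set B := C.A.map (MulAut.conj g).toMonoidHom with hB
    have mB : ∀ {t : G}, t ∈ B ↔ ∃ a ∈ C.A, g * a * g⁻¹ = t := fun {t} => Subgroup.mem_map
    have BH : B ≤ C.H := by
      intro t ht
      obtain ⟨a, ha, rfl⟩ := mB.mp ht
      have hc := C.A_abelian hne ha (xin l)
      refine C.mem_H.mpr ?_
      show g * a * g⁻¹ * C.z = C.z * (g * a * g⁻¹)
      have ez : C.z = g * ((k l)⁻¹ * x * k l) * g⁻¹ := by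
        rw [hg, ← e]
        calc C.z = (y * y) * C.z * (y * y)⁻¹ := by rw [y2]; group
          _ = _ := by group
      rw [ez]
      calc g * a * g⁻¹ * (g * ((k l)⁻¹ * x * k l) * g⁻¹) = g * (a * ((k l)⁻¹ * x * k l)) * g⁻¹ := by group
        _ = _ := by rw [hc.eq]; group
    have Bab : ∀ s ∈ B, ∀ t ∈ B, Commute s t := by
      intro s hs t ht
      obtain ⟨a, ha, rfl⟩ := mB.mp hs
      obtain ⟨b, hb, rfl⟩ := mB.mp ht
      show g * a * g⁻¹ * (g * b * g⁻¹) = g * b * g⁻¹ * (g * a * g⁻¹)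
      rw [show g * a * g⁻¹ * (g * b * g⁻¹) = g * (a * b) * g⁻¹ by group, (C.A_abelian hne ha hb).eq]; group
    have B2 : ∀ s ∈ B, s * s = 1 := by
      intro s hs
      obtain ⟨a, ha, rfl⟩ := mB.mp hs
      rw [show g * a * g⁻¹ * (g * a * g⁻¹) = g * (a * a) * g⁻¹ by group, C.A_sq_one hne ha]; group
    have Bc : 512 ≤ Nat.card B := by
      rw [← Nat.card_congr (Subgroup.equivMapOfInjective C.A _ (MulAut.conj g).injective).toEquiv, C.card_A]
    obtain ⟨h, hh, hA⟩ := C.elem_conj hne BH Bab B2 Bc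
    obtain ⟨m, hm, hm'⟩ := C.line_rep hh.inv_left
    obtain ⟨k', hk', ek'⟩ := C.ρ_surj _ (inU_line hm)
    have hn := hm' k' hk' ek'
    have hin : ∀ a ∈ C.A, k'⁻¹ * (g * a * g⁻¹) * k' ∈ C.A := fun a ha => by
      have := C.NA_conj hn (hA _ (mB.mpr ⟨a, ha, rfl⟩))
      rwa [show k'⁻¹ * h⁻¹ * (h * (g * a * g⁻¹) * h⁻¹) * (k'⁻¹ * h⁻¹)⁻¹ = k'⁻¹ * (g * a * g⁻¹) * k' by group] at this
    have hon : onLine (lineEl m) 1 = true := by
      rw [← ek']
      refine (C.mem_line hne hx.1.2 xz hk' sing_one ex).mp ?_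
      have := hin C.z (C.Wt_le_A C.z_Wt)
      rwa [show g * C.z * g⁻¹ = x by
        rw [hg, show y * k l * C.z * (y * k l)⁻¹ = y * (k l * C.z * (k l)⁻¹) * y⁻¹ by group, (hk l).eq,
          mul_inv_cancel_right, e]] at this
    let m' : {l : Fin 27 // onLine (lineEl l) 1 = true} := ⟨⟨m, hm⟩, hon⟩
    refine ⟨m', C.mem_NA.mpr fun a ha => ?_⟩
    have hnm := hm' (k m') (hk m') (ek m')
    have := C.NA_conj hnm (hA _ (mB.mpr ⟨a, ha, rfl⟩))
    rwa [show (k m')⁻¹ * h⁻¹ * (h * (g * a * g⁻¹) * h⁻¹) * ((k m')⁻¹ * h⁻¹)⁻¹ =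
      (k m')⁻¹ * y * k l * a * ((k m')⁻¹ * y * k l)⁻¹ by rw [hg]; group] at this
  choose σ hσ using step
  have inv : ∀ l, σ (σ l) = l := fun l => uniq _ _ (by
    have := C.NA.mul_mem (hσ (σ l)) (hσ l)
    rwa [show (k (σ (σ l)))⁻¹ * y * k (σ l) * ((k (σ l))⁻¹ * y * k l) = (k (σ (σ l)))⁻¹ * (y * y) * k l by group, y2,
      mul_one] at this)
  haveI : Fact (Nat.Prime 2) := ⟨Nat.prime_two⟩
  obtain ⟨l, hl⟩ := Equiv.Perm.exists_fixed_point_of_prime (σ := ⟨σ, σ, inv, inv⟩) (p := 2) (n := 1)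
    (by rw [lines_first_card]; decide) (Equiv.ext fun x => by rw [pow_one, pow_two]; exact inv x)
  have hl' : σ l = l := hl
  have hN := hσ l
  rw [hl'] at hN
  have hA := C.NA_Cj hne (by simpa using C.Cj_conj hy (k l)⁻¹) hN
  have hc := C.A_comm hA
  apply C.O_ne_coset (by decide) hx.2
  rw [← e]
  have hyz : Commute y C.z := by
    have := ((hk l).mul_left hc).mul_left (hk l).inv_left
    rwa [show k l * ((k l)⁻¹ * y * k l) * (k l)⁻¹ = y by group] at this
  rw [hyz.eq, mul_inv_cancel_right]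

/-- No conjugate interchanges a commuting pair. -/
theorem no_swap (hne : C.NonIsolated) {u v y : G} (hu : C.Cj u) (hv : C.Cj v) (hy : C.Cj y) (hc : Commute u v)
    (e : y * u * y⁻¹ = v) : u = v := by
  by_contra huv
  obtain ⟨g, rfl⟩ := hu
  have c' : Commute (g⁻¹ * v * g) C.z := by
    show g⁻¹ * v * g * C.z = C.z * (g⁻¹ * v * g)
    calc g⁻¹ * v * g * C.z = g⁻¹ * (v * (g * C.z * g⁻¹)) * g := by group
      _ = _ := by rw [← hc.eq]; group
  obtain ⟨h, hh, hm⟩ := C.to_first hne (C.Cj_pull hv g) c' (fun e' => huv (by rw [← e']; group))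
  refine C.no_swap_first hne hm (C.Cj_conj (C.Cj_pull hy g) h) ?_
  calc h * (g⁻¹ * y * g) * h⁻¹ * C.z * (h * (g⁻¹ * y * g) * h⁻¹)⁻¹ =
        h * g⁻¹ * y * g * (h⁻¹ * C.z * h) * g⁻¹ * y⁻¹ * g * h⁻¹ := by group
    _ = h * g⁻¹ * y * g * C.z * g⁻¹ * y⁻¹ * g * h⁻¹ := by rw [hh.inv_left.eq, inv_mul_cancel_right]
    _ = _ := by rw [← e]; group

/-- Nothing of odd order centralises half of the elementary abelian subgroup. -/
theorem cent_half (hne : C.NonIsolated) {S : Subgroup G} (hS : S ≤ C.A)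
    (hix : ∀ a ∈ C.A, ∀ b ∈ C.A, a ∉ S → b ∉ S → a * b ∈ S) {u : G} (ho : Odd (orderOf u))
    (hc : ∀ s ∈ S, Commute u s) : u = 1 := by
  classical
  obtain ⟨y, y', hy, hy', hyy⟩ : ∃ y y', y ∈ C.O ∩ C.coset 1 ∧ y' ∈ C.O ∩ C.coset 1 ∧ y ≠ y' := by
    obtain ⟨y, hy, y', hy', h⟩ := (Set.one_lt_ncard (Set.toFinite _)).mp (show 1 < (C.O ∩ C.coset 1).ncard by
      have h : C.cnt 1 = 4 := (C.orbit_counts hne).2.1
      unfold cnt at h; omega)
    exact ⟨y, y', hy, hy', h⟩
  obtain ⟨a, b, ha, hb, hsum⟩ := C.four_sum hne hy hy' hyy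
  obtain ⟨e, he, heS⟩ : ∃ e ∈ C.O, e ∈ S := by
    by_contra hno
    push Not at hno
    refine hno C.z C.z_mem_O ?_
    rw [← hsum, mul_assoc (y * y')]
    exact mul_mem (hix y hy.2.1 y' hy'.2.1 (hno y hy.1) (hno y' hy'.1)) (hix a ha.2.1 b hb.2.1 (hno a ha.1) (hno b hb.1))
  obtain ⟨n, hn, en⟩ := C.O_transitive hne he
  set w := n⁻¹ * u * n with hw
  have wc : ∀ t ∈ C.A, n * t * n⁻¹ ∈ S → Commute w t := by
    intro t _ ht
    show w * t = t * w
    calc w * t = n⁻¹ * (u * (n * t * n⁻¹)) * n := by rw [hw]; group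
      _ = _ := by rw [(hc _ ht).eq, hw]; group
  have wz : Commute w C.z := wc _ (C.Wt_le_A C.z_Wt) (en ▸ heS)
  have hix' : ∀ {i j : G}, i ∈ C.A → j ∈ C.A → Commute w i ∨ Commute w j ∨ Commute w (i * j) := by
    intro i j hi hj
    by_cases h1 : n * i * n⁻¹ ∈ S
    · exact Or.inl (wc i hi h1)
    by_cases h2 : n * j * n⁻¹ ∈ S
    · exact Or.inr (Or.inl (wc j hj h2))
    refine Or.inr (Or.inr (wc _ (mul_mem hi hj) ?_))
    have := hix _ (C.NA_conj hn hi) _ (C.NA_conj hn hj) h1 h2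
    rwa [show n * i * n⁻¹ * (n * j * n⁻¹) = n * (i * j) * n⁻¹ by group] at this
  have tr : ∀ {i : G} {m : ℕ}, i ∈ C.A → C.ρ i = rOf m → Commute w i → comp (C.ρ w) (rOf m) = comp (rOf m) (C.ρ w) := by
    intro i m hi ei hci
    rw [← ei, ← C.ρ_mul wz (C.A_comm hi), ← C.ρ_mul (C.A_comm hi) wz, hci.eq]
  have get : ∀ {p q : ℕ}, p < 16 → q < 16 → comp (C.ρ w) (rOf p) = comp (rOf p) (C.ρ w) ∨
      comp (C.ρ w) (rOf q) = comp (rOf q) (C.ρ w) ∨ comp (C.ρ w) (rOf (p ^^^ q)) = comp (rOf (p ^^^ q)) (C.ρ w) := by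
    intro p q hp hq
    obtain ⟨i, hi, ei⟩ := C.lift_A hp
    obtain ⟨j, hj, ej⟩ := C.lift_A hq
    rcases hix' hi hj with h | h | h
    · exact Or.inl (tr hi ei h)
    · exact Or.inr (Or.inl (tr hj ej h))
    · exact Or.inr (Or.inr (tr (mul_mem hi hj) (C.A_mul_ρ hi hj hp hq ei ej) h))
  obtain ⟨m, hm, hcm⟩ : ∃ m ∈ [3, 5, 6], comp (C.ρ w) (rOf m) = comp (rOf m) (C.ρ w) := by
    rcases get (show 3 < 16 by norm_num) (show 5 < 16 by norm_num) with h | h | h
    · exact ⟨3, by decide, h⟩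
    · exact ⟨5, by decide, h⟩
    · exact ⟨6, by decide, h⟩
  have hm16 : m < 16 := by simp only [List.mem_cons, List.not_mem_nil, or_false] at hm; omega
  have low : ∀ v < 16, app (C.ρ w) v < 16 := by
    intro v hv
    have hfix : app (rOf m) (app (C.ρ w) v) = app (C.ρ w) v := by
      rw [← app_comp, ← hcm, app_comp, r_fix m hm16 v hv]
    have := List.all_eq_true.mp (ten_fix m hm) _ (List.mem_range.mpr (app_lt (C.ρ w) v))
    rw [hfix, Bool.or_eq_true] at this
    rcases this with t | t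
    · simp at t
    · have := Nat.le_of_ble_eq_true t; omega
  obtain ⟨k, hk, ek⟩ := par_spec (C.ρ_mem w wz) (low 1 (by norm_num)) (low 4 (by norm_num))
  have t := List.all_eq_true.mp par_half k (List.mem_range.mpr hk)
  rw [Bool.or_eq_true, Bool.not_eq_true'] at t
  rcases t with t | t
  · exfalso
    rw [← Bool.not_eq_true] at t
    refine t (List.all_eq_true.mpr fun ij hij => ?_)
    have hlt : ij.1 < 16 ∧ ij.2 < 16 := by revert ij; decide
    simp only [Bool.or_eq_true, Nat.beq_eq, ← ek]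
    rcases get hlt.1 hlt.2 with h | h | h
    · exact Or.inl (Or.inl h)
    · exact Or.inl (Or.inr h)
    · exact Or.inr h
  · obtain ⟨r, hr, er⟩ := rL_mem t
    rw [← ek, ← C.ρ_mul wz wz] at er
    have w4 : C.ρ (w * w * (w * w)) = one := by
      rw [C.ρ_mul (wz.mul_left wz) (wz.mul_left wz), er, r_hom r hr r hr, Nat.xor_self, r_inj.2.2]
    have w8 : (w * w * (w * w)) * (w * w * (w * w)) * ((w * w * (w * w)) * (w * w * (w * w))) = 1 := by
      rw [C.sq' ((C.ρ_ker ((wz.mul_left wz).mul_left (wz.mul_left wz))).mp w4), C.zp_sq]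
    have w16 : w ^ (2 ^ 4) = 1 := by
      rw [← w8]; simp only [← pow_two, ← pow_mul]; norm_num
    have wo : Odd (orderOf w) := by
      have : orderOf w = orderOf u := by
        rw [hw, show n⁻¹ * u * n = MulAut.conj n⁻¹ u by simp, MulEquiv.orderOf_eq]
      rwa [this]
    have w1 : w = 1 := orderOf_eq_one_iff.mp (Nat.eq_one_of_dvd_coprimes (a := orderOf w) (b := 2 ^ 4)
      ((Nat.coprime_two_right.mpr wo).pow_right 4) dvd_rfl (orderOf_dvd_of_pow_eq_one w16))
    have := congrArg (fun t => n * t * n⁻¹) w1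
    simpa [hw, mul_assoc] using this

/-- A conjugate of the pair product's centraliser keeps the pair. -/
theorem cent_pair_first (hne : C.NonIsolated) {x g : G} (hx : x ∈ C.O ∩ C.coset 1) (hg : Commute g (C.z * x)) :
    g * C.z * g⁻¹ = C.z ∨ g * C.z * g⁻¹ = x := by
  classical
  have hxz := C.O_ne_coset (by decide) hx.2
  have cx := C.A_comm hx.2.1
  have x2 := C.Cj_sq hx.1.2
  set q := C.z * x with hq
  have q2 : q * q = 1 := C.A_sq_one hne (mul_mem (C.Wt_le_A C.z_Wt) hx.2.1)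
  have q1 : q ≠ 1 := fun e => hxz (by
    calc x = C.z * q := by rw [hq, ← mul_assoc, C.zz, one_mul]
      _ = C.z := by rw [e, mul_one])
  have qz : Commute C.z q := (Commute.refl _).mul_right cx.symm
  set K := Subgroup.centralizer ({q} : Set G) with hK
  have mK : ∀ {t : G}, t ∈ K ↔ Commute t q := fun {t} => by
    rw [hK, Subgroup.mem_centralizer_singleton_iff]; exact Iff.rfl
  -- conjugates inside
  have partner : ∀ {t : G}, Commute t q → t * C.z * t⁻¹ * (t * x * t⁻¹) = q := by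
    intro t ht
    rw [show t * C.z * t⁻¹ * (t * x * t⁻¹) = t * q * t⁻¹ by rw [hq]; group, ht.eq, mul_inv_cancel_right]
  have comm_case : ∀ {t : G}, Commute t q → Commute (t * C.z * t⁻¹) C.z → t * C.z * t⁻¹ = C.z ∨ t * C.z * t⁻¹ = x := by
    intro t ht hcz
    by_contra hcon
    push Not at hcon
    set z' := t * C.z * t⁻¹
    have z'2 : z' * z' = 1 := C.Cj_sq (C.Cj_conj C.Cj_z t)
    have e := partner ht
    have cq : Commute z' q := ((ht.mul_left qz).mul_left ht.inv_left)
    have cxx : Commute z' x := by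
      have : x = C.z * q := by rw [hq, ← mul_assoc, C.zz, one_mul]
      rw [this]; exact hcz.mul_right cq
    refine C.no_four hne (C.Cj_conj C.Cj_z t) C.Cj_z hx.1.2 hcon.1 hcon.2 hxz.symm hcz cxx cx.symm ?_
    rw [mul_assoc, ← hq, ← e, ← mul_assoc, z'2, one_mul]
    exact C.Cj_conj hx.1.2 t
  let N : Subgroup K :=
    { carrier := {t | (t : G) = 1 ∨ (t : G) = q}
      one_mem' := Or.inl rfl
      mul_mem' := by
        intro a b ha hb
        change (a : G) = 1 ∨ (a : G) = q at ha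
        change (b : G) = 1 ∨ (b : G) = q at hb
        change (a : G) * (b : G) = 1 ∨ (a : G) * (b : G) = q
        rcases ha with ha | ha <;> rcases hb with hb | hb <;> rw [ha, hb] <;> simp [q2]
      inv_mem' := by
        intro a ha
        change (a : G) = 1 ∨ (a : G) = q at ha
        change (a : G)⁻¹ = 1 ∨ (a : G)⁻¹ = q
        rcases ha with ha | ha <;> rw [ha] <;> simp [inv_eq_of_mul_eq_one_right q2] }
  have mN : ∀ {t : K}, t ∈ N ↔ (t : G) = 1 ∨ (t : G) = q := fun {t} => Iff.rfl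
  have hNc : N ≤ Subgroup.center K := by
    intro t ht
    rw [Subgroup.mem_center_iff]
    intro s
    refine Subtype.ext ?_
    rcases mN.mp ht with e | e
    · simp [e]
    · simp only [Subgroup.coe_mul, e]; exact (mK.mp s.2).eq
  haveI : N.Normal := ⟨fun t ht s => by
    rw [show s * t * s⁻¹ = t by rw [Subgroup.mem_center_iff.mp (hNc ht) s]; group]; exact ht⟩
  let zK : K := ⟨C.z, mK.mpr qz⟩
  have zK2 : orderOf zK = 2 := by rw [Subgroup.orderOf_mk]; exact C.hz
  have zN : zK ∉ N := by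
    rintro (e | e)
    · exact C.z_ne e
    · exact (C.Cj_ne_one hx.1.2) (mul_eq_left.mp e.symm)
  have iso : Cfsg.IsIsolated (zK : K ⧸ N) := by
    intro t ht
    induction t using QuotientGroup.induction_on with
    | H t =>
      rw [← QuotientGroup.mk_inv, ← QuotientGroup.mk_mul, ← QuotientGroup.mk_mul] at ht ⊢
      have htq := mK.mp t.2
      obtain ⟨z', hz'⟩ : ∃ z', z' = (t : G) * C.z * (t : G)⁻¹ := ⟨_, rfl⟩
      have z'C : C.Cj z' := hz' ▸ C.Cj_conj C.Cj_z (t : G)
      have h' := mN.mp ((QuotientGroup.eq).mp (show ((zK * (t * zK * t⁻¹) : K) : K ⧸ N) = ((t * zK * t⁻¹) * zK : K) from ht.eq))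
      have z'2 : z' * z' = 1 := C.Cj_sq z'C
      have z'i : z'⁻¹ = z' := inv_eq_of_mul_eq_one_right z'2
      have ev : (((zK * (t * zK * t⁻¹))⁻¹ * ((t * zK * t⁻¹) * zK) : K) : G) = z' * C.z * (z' * C.z) := by
        show (C.z * ((t : G) * C.z * (t : G)⁻¹))⁻¹ * ((t : G) * C.z * (t : G)⁻¹ * C.z) = _
        rw [← hz', mul_inv_rev, z'i, C.z_inv]
      rw [ev] at h'
      have hcz : Commute z' C.z := by
        rcases h' with h' | h'
        · have e := inv_eq_of_mul_eq_one_right h'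
          rw [mul_inv_rev, C.z_inv, z'i] at e
          exact e.symm
        · exfalso
          set x' := (t : G) * x * (t : G)⁻¹
          have e := partner htq
          rw [← hz'] at e
          have ex' : x' = z' * q := by rw [← e, ← mul_assoc, z'2, one_mul]
          have cq : Commute z' q := hz' ▸ ((htq.mul_left qz).mul_left htq.inv_left)
          have cxx : Commute z' x' := by rw [ex']; exact (Commute.refl z').mul_right cq
          have hsw : C.z * z' * C.z⁻¹ = x' := by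
            rw [C.z_inv, ex', ← h']
            calc C.z * z' * C.z = (z' * z') * C.z * z' * C.z := by rw [z'2, one_mul]
              _ = _ := by simp only [mul_assoc]
          have heq := C.no_swap hne z'C (C.Cj_conj hx.1.2 _) C.Cj_z cxx hsw
          exact q1 (by rw [← e, ← heq]; exact z'2)
      rcases comm_case htq (hz' ▸ hcz) with r | r
      · exact congrArg _ (Subtype.ext r)
      · refine (QuotientGroup.eq).mpr (mN.mpr (Or.inr ?_))
        show ((t : G) * C.z * (t : G)⁻¹)⁻¹ * C.z = q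
        rw [← hz', z'i, hz', r, hq, cx.eq]
  have hO : Cfsg.pPrimeCore 2 K = ⊥ := by
    set U := (Cfsg.pPrimeCore 2 K).map K.subtype with hU
    have AK : C.A ≤ K := fun a ha => mK.mpr (C.A_abelian hne ha (mul_mem (C.Wt_le_A C.z_Wt) hx.2.1))
    have hUc : (Nat.card U).Coprime 2 := by
      rw [hU, Nat.card_congr (Subgroup.equivMapOfInjective _ _ K.subtype_injective).symm.toEquiv]
      exact CfsgLib.card_pPrimeCore_coprime 2
    have h1 : ∀ u ∈ U, u = 1 := by
      refine hyper_gen (fun a ha b hb => C.A_abelian hne ha hb) (fun a ha => C.A_sq_one hne ha) ?_ hUc fun S hS hix u hu hc => ?_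
      · rintro a ha _ ⟨u, hu, rfl⟩
        exact ⟨⟨a, AK ha⟩ * u * ⟨a, AK ha⟩⁻¹, Subgroup.Normal.conj_mem inferInstance u hu _, rfl⟩
      · refine C.cent_half hne hS hix (Nat.coprime_two_right.mp ?_) hc
        exact hUc.coprime_dvd_left (Subgroup.orderOf_dvd_natCard _ hu)
    rw [eq_bot_iff]
    exact fun t ht => Subgroup.mem_bot.mpr (Subtype.ext (h1 _ ⟨t, ht, rfl⟩))
  have hZ := CfsgLib.ZStar.inZStar (CfsgLib.ZStar.orderOf_mk_eq_two zK2 zN) iso ((⟨g, mK.mpr hg⟩ : K) : K ⧸ N)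
  set gK : K := ⟨g, mK.mpr hg⟩
  set w : K := gK * zK * gK⁻¹ * zK⁻¹ with hw
  have hwmem : (w : K ⧸ N) ∈ Cfsg.pPrimeCore 2 (K ⧸ N) := hZ
  set m := orderOf (w : K ⧸ N)
  have modd : m.Coprime 2 := (CfsgLib.card_pPrimeCore_coprime 2).coprime_dvd_left (Subgroup.orderOf_dvd_natCard _ hwmem)
  have hwm : w ^ m ∈ N := (QuotientGroup.eq_one_iff _).mp (by rw [QuotientGroup.mk_pow]; exact pow_orderOf_eq_one _)
  have wm : (w * w) ^ m = 1 := by
    rw [(Commute.refl w).mul_pow]
    refine Subtype.ext ?_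
    rcases mN.mp hwm with e | e <;> rw [Subgroup.coe_mul, e] <;> simp [q2]
  have wodd : Odd (orderOf (w * w)) :=
    Nat.coprime_two_right.mp (modd.coprime_dvd_left (orderOf_dvd_of_pow_eq_one wm))
  have w2 : w * w = 1 := CfsgLib.ZStar.eq_one_of_mem_comap hO N hNc
    (fun t => ⟨1, Subtype.ext (Subtype.ext (by
      rcases mN.mp t.2 with e | e <;> simp [e, pow_two, q2]))⟩) wodd
    (by rw [QuotientGroup.mk_mul]; exact mul_mem hwmem hwmem)
  have w2' := congrArg Subtype.val w2
  simp only [hw, Subgroup.coe_mul, Subgroup.coe_inv, Subgroup.coe_one, zK, gK, C.z_inv] at w2'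
  refine comm_case hg ?_
  have z'i := inv_eq_of_mul_eq_one_right (C.Cj_sq (C.Cj_conj C.Cj_z g))
  have e := inv_eq_of_mul_eq_one_right w2'
  rw [mul_inv_rev, z'i, C.z_inv] at e
  exact e.symm

/-- An element centralising the product of a commuting pair keeps the pair. -/
theorem pair_cent (hne : C.NonIsolated) {u v g : G} (hu : C.Cj u) (hv : C.Cj v) (hc : Commute u v) (huv : u ≠ v)
    (hg : Commute g (u * v)) : g * u * g⁻¹ = u ∨ g * u * g⁻¹ = v := by
  obtain ⟨k, rfl⟩ := hu
  have c' : Commute (k⁻¹ * v * k) C.z := by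
    show k⁻¹ * v * k * C.z = C.z * (k⁻¹ * v * k)
    calc k⁻¹ * v * k * C.z = k⁻¹ * (v * (k * C.z * k⁻¹)) * k := by group
      _ = _ := by rw [← hc.eq]; group
  obtain ⟨h, hh, hm⟩ := C.to_first hne (C.Cj_pull hv k) c' (fun e' => huv (by rw [← e']; group))
  obtain ⟨a, ha⟩ : ∃ a, a = k * h⁻¹ := ⟨_, rfl⟩
  have ez : a * C.z * a⁻¹ = k * C.z * k⁻¹ := by
    rw [ha, show k * h⁻¹ * C.z * (k * h⁻¹)⁻¹ = k * (h⁻¹ * C.z * h) * k⁻¹ by group, hh.inv_left.eq, inv_mul_cancel_right]
  have ex : a * (h * (k⁻¹ * v * k) * h⁻¹) * a⁻¹ = v := by rw [ha]; group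
  obtain ⟨x', hx'⟩ : ∃ x', x' = h * (k⁻¹ * v * k) * h⁻¹ := ⟨_, rfl⟩
  rw [← hx'] at ex hm
  have hg' : Commute (a⁻¹ * g * a) (C.z * x') := by
    show a⁻¹ * g * a * (C.z * _) = C.z * _ * (a⁻¹ * g * a)
    calc a⁻¹ * g * a * (C.z * x') = a⁻¹ * (g * (a * C.z * a⁻¹ * (a * x' * a⁻¹))) * a := by group
      _ = a⁻¹ * (k * C.z * k⁻¹ * v * g) * a := by rw [ez, ex, hg.eq]
      _ = _ := by rw [← ez, ← ex]; group
  rcases C.cent_pair_first hne hm hg' with r | r
  · left
    rw [← ez]
    calc g * (a * C.z * a⁻¹) * g⁻¹ = a * (a⁻¹ * g * a * C.z * (a⁻¹ * g * a)⁻¹) * a⁻¹ := by group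
      _ = _ := by rw [r]
  · right
    rw [← ez, ← ex]
    calc g * (a * C.z * a⁻¹) * g⁻¹ = a * (a⁻¹ * g * a * C.z * (a⁻¹ * g * a)⁻¹) * a⁻¹ := by group
      _ = _ := by rw [r]

/-- A conjugate centralising the product of a commuting pair centralises both members. -/
theorem comm_of_prod (hne : C.NonIsolated) {u v y : G} (hu : C.Cj u) (hv : C.Cj v) (hy : C.Cj y) (hc : Commute u v)
    (huv : u ≠ v) (h : Commute y (u * v)) : Commute y u ∧ Commute y v := by
  rcases C.pair_cent hne hu hv hc huv h with r | r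
  · have cu : Commute y u := mul_inv_eq_iff_eq_mul.mp r
    refine ⟨cu, ?_⟩
    have e : v = u * (u * v) := by rw [← mul_assoc, C.Cj_sq hu, one_mul]
    rw [e]; exact cu.mul_right h
  · exact absurd (C.no_swap hne hu hv hy hc r) huv

/-- The product of a commuting pair determines the pair. -/
theorem pair_unique (hne : C.NonIsolated) {u v a b : G} (hu : C.Cj u) (hv : C.Cj v) (hc : Commute u v) (huv : u ≠ v)
    (ha : C.Cj a) (hb : C.Cj b) (hab : Commute a b) (e : a * b = u * v) : (a = u ∧ b = v) ∨ (a = v ∧ b = u) := by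
  have eb : b = a * (u * v) := by rw [← e, ← mul_assoc, C.Cj_sq ha, one_mul]
  obtain ⟨cu, cv⟩ := C.comm_of_prod hne hu hv ha hc huv (e ▸ (Commute.refl a).mul_right hab)
  by_cases h1 : a = u
  · exact Or.inl ⟨h1, by rw [eb, h1, ← mul_assoc, C.Cj_sq hu, one_mul]⟩
  by_cases h2 : a = v
  · exact Or.inr ⟨h2, by rw [eb, h2, hc.eq, ← mul_assoc, C.Cj_sq hv, one_mul]⟩
  exfalso
  exact C.no_four hne ha hu hv h1 h2 huv cu cv hc (by rw [mul_assoc, ← eb]; exact hb)

/-- Two conjugates that do not commute have a product of odd order. -/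
theorem odd_prod (hne : C.NonIsolated) {u y : G} (hu : C.Cj u) (hy : C.Cj y) (hc : ¬ Commute u y) :
    Odd (orderOf (u * y)) := by
  rcases Nat.even_or_odd (orderOf (u * y)) with ⟨k, hk⟩ | ho
  swap
  · exact ho
  exfalso
  have u2 := C.Cj_sq hu
  have y2 := C.Cj_sq hy
  have ui : u⁻¹ = u := inv_eq_of_mul_eq_one_right u2
  have yi : y⁻¹ = y := inv_eq_of_mul_eq_one_right y2
  have hk0 : 0 < k := by have := orderOf_pos (u * y); omega
  set w := (u * y) ^ k with hw
  have w2 : w * w = 1 := by rw [hw, ← pow_add, ← hk, pow_orderOf_eq_one]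
  have w1 : w ≠ 1 := pow_ne_one_of_lt_orderOf hk0.ne' (by omega)
  have wi : w⁻¹ = w := inv_eq_of_mul_eq_one_right w2
  have uw : Commute u w := by
    have h := map_pow (MulAut.conj u) (u * y) k
    simp only [MulAut.conj_apply] at h
    rw [show u * (u * y) * u⁻¹ = (u * y)⁻¹ by rw [ui, mul_inv_rev, ui, yi, ← mul_assoc, u2, one_mul], inv_pow, ← hw, wi] at h
    exact mul_inv_eq_iff_eq_mul.mp h
  have yw : Commute y w := by
    have : Commute (u * y) w := (Commute.refl _).pow_right k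
    have e : y = u * (u * y) := by rw [← mul_assoc, u2, one_mul]
    rw [e]; exact uw.mul_left this
  have hv : ∀ i : ℕ, C.Cj (u * (u * y) ^ i) ∧ C.Cj (u * (u * y) ^ (i + 1)) := by
    intro i
    induction i with
    | zero => exact ⟨by simpa using hu, by simpa [← mul_assoc, u2] using hy⟩
    | succ i ih =>
      refine ⟨ih.2, ?_⟩
      have := C.Cj_conj ih.1 (y * u)
      rwa [mul_inv_rev, ui, yi, show y * u * (u * (u * y) ^ i) * (u * y) = y * (u * u) * ((u * y) ^ i * (u * y)) by group, u2,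
        mul_one, ← pow_succ, show y * (u * y) ^ (i + 1) = u * ((u * y) * (u * y) ^ (i + 1)) by
          rw [← mul_assoc, ← mul_assoc u u, u2, one_mul], ← pow_succ'] at this
  have hv' : C.Cj (u * w) := (hv k).1
  have huv : u ≠ u * w := fun e => w1 (mul_eq_left.mp e.symm)
  have huu : Commute u (u * w) := (Commute.refl u).mul_right uw
  have := C.comm_of_prod hne hu hv' hy huu huv (by rw [← mul_assoc, u2, one_mul]; exact yw)
  exact hc this.1.symm

end Core

end CfsgLib.U6Rec
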