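/-
The component of the involution in the commuting graph of its conjugates has 693 members at distance at most two.
-/
import Cfsg.Agent.Lib.U6Rec.Pairs

set_option autoImplicit false
set_option maxRecDepth 100000
set_option linter.style.haveILetI false
set_option linter.unusedSectionVars false

namespace CfsgLib.U6Rec

theorem pts_separate : ((List.range 256).all fun v => Nat.beq v 0 || ptsL.any fun p => !Nat.beq (herm v p) 0) = true := by
  decide +kernel

theorem pts_nodup : ptsL.Nodup := List.Nodup.of_map _ tv_inj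

theorem tv_pts_inj {p q : ℕ} (hp : p ∈ ptsL) (hq : q ∈ ptsL) (e : tv p = tv q) : p = q :=
  List.inj_on_of_nodup_map tv_inj hp hq e

theorem pts_card : ptsL.toFinset.card = 45 := by
  rw [List.toFinset_card_of_nodup pts_nodup]; exact pts_list.2.1

theorem filter_card (f : ℕ → Bool) : (ptsL.filter f).toFinset.card = ptsL.countP f := by
  rw [List.toFinset_card_of_nodup (pts_nodup.filter _), List.countP_eq_length_filter]

/-- Two points have a common perpendicular. -/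
theorem pts_link {p q : ℕ} (hp : p ∈ ptsL) (hq : q ∈ ptsL) (h : herm p q ≠ 0) :
    ∃ c ∈ ptsL, herm p c = 0 ∧ herm q c = 0 ∧ p ≠ c ∧ q ≠ c := by
  have t := List.all_eq_true.mp (List.all_eq_true.mp common_count p hp) q hq
  rw [Bool.or_eq_true, Nat.beq_eq, Nat.beq_eq] at t
  have t' := t.resolve_left h
  obtain ⟨c, hc, hc'⟩ := List.countP_pos_iff.mp (show 0 < ptsL.countP fun c => Nat.beq (herm p c) 0 && Nat.beq (herm q c) 0 by omega)
  rw [Bool.and_eq_true, Nat.beq_eq, Nat.beq_eq] at hc'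
  refine ⟨c, hc, hc'.1, hc'.2, fun e => h ?_, fun e => h ?_⟩
  · have := hc'.2; rw [← e] at this; exact (herm_symm (pts_sing hp).1 (pts_sing hq).1).mpr this
  · have := hc'.1; rwa [← e] at this

theorem one_pts : (1 : ℕ) ∈ ptsL := by decide

theorem conj_comm_iff {G : Type*} [Group G] (g x y : G) : Commute (g * x * g⁻¹) (g * y * g⁻¹) ↔ Commute x y := by
  constructor
  · intro h
    have := h.map (MulAut.conj g⁻¹).toMonoidHom
    simpa [mul_assoc] using this
  · intro h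
    simpa using h.map (MulAut.conj g).toMonoidHom

theorem pull_comm_iff {G : Type*} [Group G] (g x y : G) : Commute (g⁻¹ * x * g) (g⁻¹ * y * g) ↔ Commute x y := by
  simpa using conj_comm_iff g⁻¹ x y

namespace Core

variable {G : Type*} [Group G] (C : Core G) [Finite G]

/-- The conjugates over a point. -/
def fib (p : ℕ) : Set G := {x | C.Cj x ∧ Commute x C.z ∧ x ≠ C.z ∧ C.ρ x = tv p}

theorem view (hne : C.NonIsolated) {x : G} (hx : C.Cj x) (hc : Commute x C.z) (hxz : x ≠ C.z) :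
    ∃ p ∈ ptsL, x ∈ C.fib p := by
  obtain ⟨p, hp, ep⟩ := C.image_point hne hx hc hxz
  obtain ⟨q, hq, eq⟩ := tv_pts hp
  exact ⟨q, hq, hx, hc, hxz, ep.trans eq.symm⟩

theorem fib_inj {p q : ℕ} (hp : p ∈ ptsL) (hq : q ∈ ptsL) {x : G} (h : x ∈ C.fib p) (h' : x ∈ C.fib q) : p = q :=
  tv_pts_inj hp hq (h.2.2.2.symm.trans h'.2.2.2)

theorem fib_comm (hne : C.NonIsolated) {p q : ℕ} (hp : p ∈ ptsL) (hq : q ∈ ptsL) {x y : G} (h : x ∈ C.fib p)
    (h' : y ∈ C.fib q) : Commute x y ↔ herm p q = 0 :=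
  C.comm_perp hne h.1 h'.1 h.2.1 h'.2.1 (pts_sing hp) (pts_sing hq) h.2.2.2 h'.2.2.2

theorem fib_card (hne : C.NonIsolated) {p : ℕ} (hp : p ∈ ptsL) : (C.fib p).ncard = 4 := by
  obtain ⟨i, hi, ei⟩ := sing_rep (pts_sing hp)
  obtain ⟨h, hh, eh⟩ := C.ρ_surj _ (inU_rep hi)
  have r1 : rOf 1 = tv 1 := (r_point 1 (by norm_num) (by decide)).1
  have hset : C.fib p = (fun x => h * x * h⁻¹) '' (C.O ∩ C.coset 1) := by
    ext x
    constructor
    · intro hx
      have cz : Commute (h⁻¹ * x * h) C.z := (hh.inv_left.mul_left hx.2.1).mul_left hh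
      have e : C.ρ (h⁻¹ * x * h) = rOf 1 := by
        rw [C.ρ_mul (hh.inv_left.mul_left hx.2.1) hh, C.ρ_mul hh.inv_left hx.2.1, hx.2.2.2,
          (C.ρ_mem _ hh.inv_left).unit.tv_comm (pts_sing hp).1, comp_assoc, C.ρ_inv_left hh, r1]
        rw [show app (C.ρ h⁻¹) p = 1 by rw [← ei, ← eh]; exact (C.ρ_app_cancel hh (by norm_num)).2]
        exact (inU_tv sing_one).form
      have hA := C.in_A hne (C.Cj_pull hx.1 h) cz (by norm_num) e
      exact ⟨h⁻¹ * x * h, ⟨⟨hA, C.Cj_pull hx.1 h⟩, hA, e⟩, by group⟩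
    · rintro ⟨t, ht, rfl⟩
      have tz := C.A_comm ht.2.1
      refine ⟨C.Cj_conj ht.1.2 h, (hh.mul_left tz).mul_left hh.inv_left, fun e => C.O_ne_coset (by decide) ht.2 ?_, ?_⟩
      · have e' := congrArg (fun y => h⁻¹ * y * h) e
        rw [show h⁻¹ * (h * t * h⁻¹) * h = t by group, hh.inv_left.eq, inv_mul_cancel_right] at e'
        exact e'
      · rw [C.ρ_mul (hh.mul_left tz) hh.inv_left, C.ρ_mul hh tz, ht.2.2, r1, (C.ρ_mem _ hh).unit.tv_comm (by norm_num),
          show app (C.ρ h) 1 = p by rw [eh, ei], comp_assoc, ← C.ρ_mul hh hh.inv_left, mul_inv_cancel, C.ρ_one]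
        exact (inU_tv (pts_sing hp)).form
  rw [hset, Set.ncard_image_of_injective _ (fun a b e => by simpa using e)]
  exact (C.orbit_counts hne).2.1

/-- The conjugates over some of the points. -/
def overPts (f : ℕ → Bool) : Set G := {x | ∃ c ∈ ptsL, f c = true ∧ x ∈ C.fib c}

theorem over_card (hne : C.NonIsolated) (f : ℕ → Bool) : (C.overPts f).ncard = 4 * ptsL.countP f := by
  classical
  haveI := Fintype.ofFinite G
  have e : C.overPts f = ↑((ptsL.filter f).toFinset.biUnion fun c => (C.fib c).toFinset) := by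
    ext x
    simp only [Finset.coe_biUnion, Set.mem_iUnion, Finset.mem_coe, List.mem_toFinset, List.mem_filter, Set.mem_toFinset]
    exact ⟨fun ⟨c, hc, hf, hx⟩ => ⟨c, ⟨hc, hf⟩, hx⟩, fun ⟨c, ⟨hc, hf⟩, hx⟩ => ⟨c, hc, hf, hx⟩⟩
  rw [e, Set.ncard_coe_finset, Finset.card_biUnion]
  · rw [Finset.sum_congr rfl (fun c hc => ?_), Finset.sum_const, filter_card, smul_eq_mul, Nat.mul_comm]
    rw [← Set.ncard_eq_toFinset_card']
    exact C.fib_card hne (List.mem_filter.mp (List.mem_toFinset.mp hc)).1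
  · intro a ha b hb hab
    rw [Function.onFun, Finset.disjoint_left]
    intro x hxa hxb
    exact hab (C.fib_inj (List.mem_filter.mp (List.mem_toFinset.mp ha)).1 (List.mem_filter.mp (List.mem_toFinset.mp hb)).1
      (Set.mem_toFinset.mp hxa) (Set.mem_toFinset.mp hxb))

theorem pulled {g x : G} (hc : Commute x (g * C.z * g⁻¹)) : Commute (g⁻¹ * x * g) C.z := by
  show g⁻¹ * x * g * C.z = C.z * (g⁻¹ * x * g)
  calc g⁻¹ * x * g * C.z = g⁻¹ * (x * (g * C.z * g⁻¹)) * g := by group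
    _ = _ := by rw [hc.eq]; group

theorem pushed {g x : G} (hc : Commute x C.z) : Commute (g * x * g⁻¹) (g * C.z * g⁻¹) := by
  show g * x * g⁻¹ * (g * C.z * g⁻¹) = g * C.z * g⁻¹ * (g * x * g⁻¹)
  calc g * x * g⁻¹ * (g * C.z * g⁻¹) = g * (x * C.z) * g⁻¹ := by group
    _ = _ := by rw [hc.eq]; group

/-- A common neighbour of the involution and a conjugate not commuting with it. -/
def CN (y : G) : Set G := {e | C.Cj e ∧ Commute e C.z ∧ e ≠ C.z ∧ Commute e y}

theorem CN_inj (hne : C.NonIsolated) {y e f : G} (hy : C.Cj y) (hyz : ¬ Commute y C.z) (he : e ∈ C.CN y)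
    (hf : f ∈ C.CN y) (hρ : C.ρ e = C.ρ f) : e = f := by
  by_contra hef
  obtain ⟨he1, he2, he3, he4⟩ := he
  obtain ⟨hf1, hf2, hf3, hf4⟩ := hf
  obtain ⟨g, hg⟩ := he1
  have hpv := C.pair_view hne ⟨g, hg⟩ hf1 he2 hf2 he3 hef hρ hg
  have cef := C.same_image_comm hne ⟨g, hg⟩ hf1 he2 hf2 he3 hρ
  subst hg
  have yz : g⁻¹ * y * g ≠ C.z := fun h => hyz (by
    have : y = g * C.z * g⁻¹ := by rw [← h]; group
    rw [this]; exact he2)
  have zz' : g⁻¹ * C.z * g ≠ C.z := fun h => he3 (by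
    calc g * C.z * g⁻¹ = g * (g⁻¹ * C.z * g) * g⁻¹ := by rw [h]
      _ = C.z := by group)
  have fz : g⁻¹ * f * g ≠ C.z := fun h => hef (by rw [← h]; group)
  obtain ⟨q, hq, fq⟩ := C.view hne (C.Cj_pull hy g) (C.pulled he4.symm) yz
  obtain ⟨p, hp, fp⟩ := C.view hne (C.Cj_pull hf1 g) (C.pulled cef.symm) fz
  have zp : g⁻¹ * C.z * g ∈ C.fib p :=
    ⟨C.Cj_pull C.Cj_z g, C.pulled he2.symm, zz', hpv.trans fp.2.2.2⟩
  have h0 := (C.fib_comm hne hq hp fq fp).mp ((pull_comm_iff g y f).mpr hf4.symm)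
  exact hyz ((pull_comm_iff g y C.z).mp ((C.fib_comm hne hq hp fq zp).mpr h0))

theorem CN_perp (hne : C.NonIsolated) {y e : G} (hy : C.Cj y) (hyz : ¬ Commute y C.z) (he : e ∈ C.CN y) {p : ℕ}
    (hp : p ∈ ptsL) (ep : e ∈ C.fib p) {c : ℕ} (hc : c ∈ ptsL) (h0 : herm p c = 0) (hpc : p ≠ c) :
    ∃ f ∈ C.CN y, f ∈ C.fib c := by
  classical
  haveI := Fintype.ofFinite G
  obtain ⟨he1, he2, he3, he4⟩ := he
  obtain ⟨g, hg⟩ := id he1
  subst hg
  have yz : g⁻¹ * y * g ≠ C.z := fun h => hyz (by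
    have : y = g * C.z * g⁻¹ := by rw [← h]; group
    rw [this]; exact he2)
  have zz' : g⁻¹ * C.z * g ≠ C.z := fun h => he3 (by
    calc g * C.z * g⁻¹ = g * (g⁻¹ * C.z * g) * g⁻¹ := by rw [h]
      _ = C.z := by group)
  obtain ⟨Q, hQ, fQ⟩ := C.view hne (C.Cj_pull hy g) (C.pulled he4.symm) yz
  obtain ⟨P, hP, fP⟩ := C.view hne (C.Cj_pull C.Cj_z g) (C.pulled he2.symm) zz'
  have hPQ : herm P Q ≠ 0 := fun h => hyz ((pull_comm_iff g C.z y).mp ((C.fib_comm hne hP hQ fP fQ).mpr h)).symm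
  set F := (C.overPts fun d => Nat.beq (herm P d) 0 && Nat.beq (herm Q d) 0).toFinset with hF
  have hF12 : F.card = 12 := by
    have t := List.all_eq_true.mp (List.all_eq_true.mp common_count P hP) Q hQ
    rw [Bool.or_eq_true, Nat.beq_eq, Nat.beq_eq] at t
    rw [hF, ← Set.ncard_eq_toFinset_card', C.over_card hne, t.resolve_left hPQ]
  have mem : ∀ f ∈ F, g * f * g⁻¹ ∈ C.CN y ∧ g * f * g⁻¹ ≠ g * C.z * g⁻¹ ∧ Commute (g * f * g⁻¹) (g * C.z * g⁻¹) := by
    intro f hf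
    obtain ⟨d, hd, hd', ff⟩ := Set.mem_toFinset.mp hf
    rw [Bool.and_eq_true, Nat.beq_eq, Nat.beq_eq] at hd'
    have c1 : Commute f (g⁻¹ * C.z * g) := ((C.fib_comm hne hP hd fP ff).mpr hd'.1).symm
    have c2 : Commute f (g⁻¹ * y * g) := ((C.fib_comm hne hQ hd fQ ff).mpr hd'.2).symm
    have c1' := (conj_comm_iff g _ _).mpr c1
    have c2' := (conj_comm_iff g _ _).mpr c2
    rw [show g * (g⁻¹ * C.z * g) * g⁻¹ = C.z by group] at c1'
    rw [show g * (g⁻¹ * y * g) * g⁻¹ = y by group] at c2'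
    refine ⟨⟨C.Cj_conj ff.1 g, c1', fun h => ?_, c2'⟩, fun h => ff.2.2.1 (by simpa using h), C.pushed ff.2.1⟩
    rw [h] at c2'
    exact hyz c2'.symm
  choose! π hπ hπ' using fun f (hf : f ∈ F) => C.view hne (mem f hf).1.1 (mem f hf).1.2.1 (mem f hf).1.2.2.1
  set T := (ptsL.filter fun d => !Nat.beq d p && Nat.beq (herm p d) 0).toFinset with hT
  have hT12 : T.card = 12 := by
    have t := List.all_eq_true.mp perp_count p hp
    rw [Bool.and_eq_true, Nat.beq_eq, Nat.beq_eq] at t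
    rw [hT, filter_card, t.1]
  have maps : ∀ f ∈ F, π f ∈ T := by
    intro f hf
    rw [hT, List.mem_toFinset, List.mem_filter, Bool.and_eq_true, Bool.not_eq_true', ← Bool.not_eq_true, Nat.beq_eq,
      Nat.beq_eq]
    refine ⟨hπ f hf, fun h => ?_, (C.fib_comm hne hp (hπ f hf) ep (hπ' f hf)).mp (mem f hf).2.2.symm⟩
    exact (mem f hf).2.1 (C.CN_inj hne hy hyz (mem f hf).1 ⟨he1, he2, he3, he4⟩
      ((hπ' f hf).2.2.2.trans (by rw [h]; exact ep.2.2.2.symm)))
  have inj : Set.InjOn π F := fun a ha b hb h => by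
    have := C.CN_inj hne hy hyz (mem a ha).1 (mem b hb).1 ((hπ' a ha).2.2.2.trans (h ▸ (hπ' b hb).2.2.2.symm))
    simpa using this
  have surj := Finset.surjOn_of_injOn_of_card_le π maps inj (by rw [hT12, hF12])
  obtain ⟨f, hf, hfc⟩ := surj (show c ∈ (T : Set ℕ) by
    rw [Finset.mem_coe, hT, List.mem_toFinset, List.mem_filter, Bool.and_eq_true, Bool.not_eq_true', ← Bool.not_eq_true,
      Nat.beq_eq, Nat.beq_eq]
    exact ⟨hc, fun h => hpc h.symm, h0⟩)
  exact ⟨_, (mem f hf).1, hfc ▸ hπ' f hf⟩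

/-- The conjugates at distance two. -/
def D2 : Set G := {y | C.Cj y ∧ ¬ Commute y C.z ∧ ∃ e, C.Cj e ∧ Commute C.z e ∧ Commute e y}

theorem CN_all (hne : C.NonIsolated) {y : G} (hy : y ∈ C.D2) {c : ℕ} (hc : c ∈ ptsL) : ∃ f ∈ C.CN y, f ∈ C.fib c := by
  obtain ⟨hy, hyz, e, he, h1, h2⟩ := hy
  have he' : e ∈ C.CN y := ⟨he, h1.symm, fun h => hyz (h ▸ h2).symm, h2⟩
  obtain ⟨p, hp, ep⟩ := C.view hne he h1.symm he'.2.2.1
  by_cases hpc : p = c
  · exact ⟨e, he', hpc ▸ ep⟩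
  by_cases h0 : herm p c = 0
  · exact C.CN_perp hne hy hyz he' hp ep hc h0 hpc
  obtain ⟨d, hd, d1, d2, pd, cd⟩ := pts_link hp hc h0
  obtain ⟨f, hf, fd⟩ := C.CN_perp hne hy hyz he' hp ep hd d1 pd
  exact C.CN_perp hne hy hyz hf hd fd hc ((herm_symm (pts_sing hc).1 (pts_sing hd).1).mp d2) cd.symm

/-- The extraspecial group acts freely at distance two. -/
theorem free (hne : C.NonIsolated) {y j : G} (hy : y ∈ C.D2) (hj : j ∈ C.J) (hc : Commute j y) : j = 1 := by
  have jz := C.Jz j hj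
  have h0 : C.κ j = 0 := by
    by_contra h
    have t := List.all_eq_true.mp pts_separate (C.κ j) (List.mem_range.mpr (C.κ_lt j hj))
    rw [Bool.or_eq_true, Nat.beq_eq] at t
    obtain ⟨p, hp, hp'⟩ := List.any_eq_true.mp (t.resolve_left h)
    rw [Bool.not_eq_true', ← Bool.not_eq_true, Nat.beq_eq] at hp'
    obtain ⟨e, he, ep⟩ := C.CN_all hne hy hp
    have cz : Commute (j * e * j⁻¹) C.z := (jz.mul_left he.2.1).mul_left jz.inv_left
    have hm : j * e * j⁻¹ ∈ C.CN y := ⟨C.Cj_conj he.1 j, cz, fun h' => he.2.2.1 (by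
        have e' := congrArg (fun t => j⁻¹ * t * j) h'
        rw [show j⁻¹ * (j * e * j⁻¹) * j = e by group, jz.inv_left.eq, inv_mul_cancel_right] at e'
        exact e'), (hc.mul_left he.2.2.2).mul_left hc.inv_left⟩
    have hρ : C.ρ (j * e * j⁻¹) = C.ρ e := by
      rw [C.ρ_mul (jz.mul_left he.2.1) jz.inv_left, C.ρ_mul jz he.2.1, C.ρ_J hj, C.ρ_J (inv_mem hj), comp_assoc,
        (C.ρ_mem e he.2.1).form, ← (C.ρ_mem e he.2.1).form, one_comp]
    have heq := C.CN_inj hne hy.1 hy.2.1 hm he hρ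
    have hje : e * j * e⁻¹ = j := by
      rw [← (mul_inv_eq_iff_eq_mul.mp heq), mul_inv_cancel_right]
    apply hp'
    rw [← tv_fix (pts_sing hp).1 (pts_sing hp).2.1 (C.κ_lt j hj), ← ep.2.2.2, ← C.κ_conj e he.2.1 j hj, hje]
  rcases (C.κ_ker j hj).mp h0 with h | h
  · exact h
  · exact absurd (h ▸ hc).symm hy.2.1

theorem D2_conj {y j : G} (hy : y ∈ C.D2) (hj : Commute j C.z) : j * y * j⁻¹ ∈ C.D2 := by
  obtain ⟨hy, hyz, e, he, h1, h2⟩ := hy
  have hz : j * C.z * j⁻¹ = C.z := by rw [hj.eq, mul_inv_cancel_right]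
  refine ⟨C.Cj_conj hy j, fun h => hyz ?_, j * e * j⁻¹, C.Cj_conj he j, ?_, (conj_comm_iff j e y).mpr h2⟩
  · rw [← hz] at h; exact (conj_comm_iff j y C.z).mp h
  · rw [← hz]; exact (conj_comm_iff j C.z e).mpr h1

theorem D2_card_le (hne : C.NonIsolated) : C.D2.ncard ≤ 512 := by
  classical
  haveI := Fintype.ofFinite G
  have hsub : C.D2.toFinset ⊆ (C.fib 1).toFinset.biUnion fun e =>
      ({y | C.Cj y ∧ Commute e y ∧ ¬ Commute y C.z} : Set G).toFinset := by
    intro y hy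
    rw [Set.mem_toFinset] at hy
    obtain ⟨e, he, e1⟩ := C.CN_all hne hy one_pts
    simp only [Finset.mem_biUnion, Set.mem_toFinset]
    exact ⟨e, e1, hy.1, he.2.2.2, hy.2.1⟩
  rw [Set.ncard_eq_toFinset_card']
  refine (Finset.card_le_card hsub).trans (le_trans (Finset.card_biUnion_le_card_mul _ _ 128 ?_) ?_)
  · intro e he
    rw [Set.mem_toFinset] at he
    obtain ⟨he1, he2, he3, -⟩ := he
    obtain ⟨g, rfl⟩ := id he1
    have zz' : g⁻¹ * C.z * g ≠ C.z := fun h => he3 (by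
      calc g * C.z * g⁻¹ = g * (g⁻¹ * C.z * g) * g⁻¹ := by rw [h]
        _ = C.z := by group)
    obtain ⟨P, hP, fP⟩ := C.view hne (C.Cj_pull C.Cj_z g) (C.pulled he2.symm) zz'
    have hsub : ({y | C.Cj y ∧ Commute (g * C.z * g⁻¹) y ∧ ¬ Commute y C.z} : Set G) ⊆
        (fun t => g * t * g⁻¹) '' (C.overPts fun d => !Nat.beq (herm P d) 0) := by
      rintro y ⟨hy, hc, hyz⟩
      have yz : g⁻¹ * y * g ≠ C.z := fun h => hyz (by
        have : y = g * C.z * g⁻¹ := by rw [← h]; group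
        rw [this]; exact he2)
      obtain ⟨Q, hQ, fQ⟩ := C.view hne (C.Cj_pull hy g) (C.pulled hc.symm) yz
      refine ⟨g⁻¹ * y * g, ⟨Q, hQ, ?_, fQ⟩, by group⟩
      rw [Bool.not_eq_true', ← Bool.not_eq_true, Nat.beq_eq]
      exact fun h => hyz ((pull_comm_iff g C.z y).mp ((C.fib_comm hne hP hQ fP fQ).mpr h)).symm
    rw [← Set.ncard_eq_toFinset_card']
    refine le_trans (Set.ncard_le_ncard hsub (Set.toFinite _)) (le_trans (Set.ncard_image_le (Set.toFinite _)) ?_)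
    have t := List.all_eq_true.mp perp_count P hP
    rw [Bool.and_eq_true, Nat.beq_eq, Nat.beq_eq] at t
    rw [C.over_card hne, t.2]
  · rw [← Set.ncard_eq_toFinset_card', C.fib_card hne one_pts]

theorem D2_ncard (hne : C.NonIsolated) {y : G} (hy : y ∈ C.D2) :
    C.D2 = (fun j => j * y * j⁻¹) '' (C.J : Set G) ∧ C.D2.ncard = 512 := by
  have hinj : Set.InjOn (fun j => j * y * j⁻¹) (C.J : Set G) := by
    intro a ha b hb e
    have hc : Commute (b⁻¹ * a) y := by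
      show b⁻¹ * a * y = y * (b⁻¹ * a)
      calc b⁻¹ * a * y = b⁻¹ * (a * y * a⁻¹) * a := by group
        _ = _ := by rw [show a * y * a⁻¹ = b * y * b⁻¹ from e]; group
    exact (inv_mul_eq_one.mp (C.free hne hy (mul_mem (inv_mem hb) ha) hc)).symm
  have hcard : ((fun j => j * y * j⁻¹) '' (C.J : Set G)).ncard = 512 := by
    rw [hinj.ncard_image, ← Nat.card_coe_set_eq]; exact C.Jcard
  have hsub : (fun j => j * y * j⁻¹) '' (C.J : Set G) ⊆ C.D2 := by
    rintro _ ⟨j, hj, rfl⟩; exact C.D2_conj hy (C.Jz j hj)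
  have := Set.eq_of_subset_of_ncard_le hsub (by rw [hcard]; exact C.D2_card_le hne) (Set.toFinite _)
  exact ⟨this.symm, this ▸ hcard⟩

theorem D2_nonempty (hne : C.NonIsolated) : C.D2.Nonempty := by
  obtain ⟨e, he⟩ := Set.nonempty_of_ncard_ne_zero (by rw [C.fib_card hne one_pts]; norm_num : (C.fib 1).ncard ≠ 0)
  obtain ⟨he1, he2, he3, -⟩ := he
  obtain ⟨g, rfl⟩ := id he1
  have zz' : g⁻¹ * C.z * g ≠ C.z := fun h => he3 (by
    calc g * C.z * g⁻¹ = g * (g⁻¹ * C.z * g) * g⁻¹ := by rw [h]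
      _ = C.z := by group)
  obtain ⟨P, hP, fP⟩ := C.view hne (C.Cj_pull C.Cj_z g) (C.pulled he2.symm) zz'
  have t := List.all_eq_true.mp perp_count P hP
  rw [Bool.and_eq_true, Nat.beq_eq, Nat.beq_eq] at t
  obtain ⟨c, hc, hc'⟩ := List.countP_pos_iff.mp (show 0 < ptsL.countP fun d => !Nat.beq (herm P d) 0 by rw [t.2]; norm_num)
  rw [Bool.not_eq_true', ← Bool.not_eq_true, Nat.beq_eq] at hc'
  obtain ⟨w, hw⟩ := Set.nonempty_of_ncard_ne_zero (by rw [C.fib_card hne hc]; norm_num : (C.fib c).ncard ≠ 0)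
  refine ⟨g * w * g⁻¹, C.Cj_conj hw.1 g, fun h => hc' ?_, g * C.z * g⁻¹, C.Cj_conj C.Cj_z g, he2.symm, (C.pushed hw.2.1).symm⟩
  refine (C.fib_comm hne hP hc fP hw).mp ?_
  have := (pull_comm_iff g _ _).mpr h.symm
  rwa [show g⁻¹ * (g * w * g⁻¹) * g = w by group] at this

/-- Being at distance at most two. -/
def Near (u x : G) : Prop := C.Cj x ∧ C.Cj u ∧ ∃ e, C.Cj e ∧ Commute u e ∧ Commute e x

theorem Near_refl {u : G} (hu : C.Cj u) : C.Near u u := ⟨hu, hu, u, hu, Commute.refl u, Commute.refl u⟩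

theorem Near_symm {u x : G} (h : C.Near u x) : C.Near x u := by
  obtain ⟨hx, hu, e, he, h1, h2⟩ := h
  exact ⟨hu, hx, e, he, h2.symm, h1.symm⟩

theorem Near_conj {u x : G} (h : C.Near u x) (g : G) : C.Near (g * u * g⁻¹) (g * x * g⁻¹) := by
  obtain ⟨hx, hu, e, he, h1, h2⟩ := h
  exact ⟨C.Cj_conj hx g, C.Cj_conj hu g, _, C.Cj_conj he g, (conj_comm_iff g u e).mpr h1, (conj_comm_iff g e x).mpr h2⟩

/-- There is no distance three. -/
theorem Near_step (hne : C.NonIsolated) {u v w : G} (h : C.Near u v) (hw : C.Cj w) (hc : Commute v w) : C.Near u w := by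
  obtain ⟨hv, hu, e, he, h1, h2⟩ := h
  by_cases huv : Commute u v
  · exact ⟨hw, hu, v, hv, huv, hc⟩
  obtain ⟨g, rfl⟩ := id hv
  have hz'' : g⁻¹ * u * g ∈ C.D2 := by
    refine ⟨C.Cj_pull hu g, fun h => huv ?_, g⁻¹ * e * g, C.Cj_pull he g, (C.pulled h2).symm,
      (pull_comm_iff g e u).mpr h1.symm⟩
    have := C.pushed (g := g) h
    rwa [show g * (g⁻¹ * u * g) * g⁻¹ = u by group] at this
  by_cases hwz : g⁻¹ * w * g = C.z
  · refine ⟨hw, hu, e, he, h1, ?_⟩
    have : w = g * C.z * g⁻¹ := by rw [← hwz]; group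
    rw [this]; exact h2
  obtain ⟨p, hp, fp⟩ := C.view hne (C.Cj_pull hw g) (C.pulled hc.symm) hwz
  obtain ⟨f, hf, ff⟩ := C.CN_all hne hz'' hp
  have c1 : Commute f (g⁻¹ * w * g) :=
    C.same_image_comm hne hf.1 fp.1 hf.2.1 fp.2.1 hf.2.2.1 (ff.2.2.2.trans fp.2.2.2.symm)
  refine ⟨hw, hu, g * f * g⁻¹, C.Cj_conj hf.1 g, ?_, ?_⟩
  · have := ((conj_comm_iff g _ _).mpr hf.2.2.2).symm
    rwa [show g * (g⁻¹ * u * g) * g⁻¹ = u by group] at this
  · have := (conj_comm_iff g _ _).mpr c1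
    rwa [show g * (g⁻¹ * w * g) * g⁻¹ = w by group] at this

theorem Near_trans (hne : C.NonIsolated) {u v w : G} (h : C.Near u v) (h' : C.Near v w) : C.Near u w := by
  obtain ⟨hw, -, e, he, h1, h2⟩ := h'
  exact C.Near_step hne (C.Near_step hne h he h1) hw h2

/-- The stabiliser of the component. -/
def M (hne : C.NonIsolated) : Subgroup G where
  carrier := {g | C.Near C.z (g * C.z * g⁻¹)}
  one_mem' := by show C.Near C.z (1 * C.z * 1⁻¹); rw [one_mul, inv_one, mul_one]; exact C.Near_refl C.Cj_z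
  mul_mem' := by
    intro g h hg hh
    show C.Near C.z (g * h * C.z * (g * h)⁻¹)
    have := C.Near_trans hne hg (C.Near_conj hh g)
    rwa [show g * (h * C.z * h⁻¹) * g⁻¹ = g * h * C.z * (g * h)⁻¹ by group] at this
  inv_mem' := by
    intro g hg
    show C.Near C.z (g⁻¹ * C.z * g⁻¹⁻¹)
    have := C.Near_symm (C.Near_conj hg g⁻¹)
    rwa [show g⁻¹ * (g * C.z * g⁻¹) * g⁻¹⁻¹ = C.z by group] at this

theorem mem_M {hne : C.NonIsolated} {g : G} : g ∈ C.M hne ↔ C.Near C.z (g * C.z * g⁻¹) := Iff.rfl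

theorem H_le_M (hne : C.NonIsolated) : C.H ≤ C.M hne := fun h hh => by
  rw [C.mem_M, (C.mem_H.mp hh).eq, mul_inv_cancel_right]; exact C.Near_refl C.Cj_z

theorem Near_split (hne : C.NonIsolated) (x : G) :
    C.Near C.z x ↔ x = C.z ∨ x ∈ C.overPts (fun _ => true) ∨ x ∈ C.D2 := by
  constructor
  · rintro ⟨hx, -, e, he, h1, h2⟩
    by_cases hc : Commute x C.z
    · by_cases hxz : x = C.z
      · exact Or.inl hxz
      · obtain ⟨p, hp, fp⟩ := C.view hne hx hc hxz
        exact Or.inr (Or.inl ⟨p, hp, rfl, fp⟩)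
    · exact Or.inr (Or.inr ⟨hx, hc, e, he, h1, h2⟩)
  · rintro (rfl | ⟨p, -, -, fp⟩ | ⟨hx, -, he⟩)
    · exact C.Near_refl C.Cj_z
    · exact ⟨fp.1, C.Cj_z, C.z, C.Cj_z, Commute.refl _, fp.2.1.symm⟩
    · exact ⟨hx, C.Cj_z, he⟩

theorem comp_card (hne : C.NonIsolated) : {x | C.Near C.z x}.ncard = 693 := by
  obtain ⟨y, hy⟩ := C.D2_nonempty hne
  have e : {x | C.Near C.z x} = insert C.z (C.overPts (fun _ => true) ∪ C.D2) := by
    ext x; exact C.Near_split hne x
  have hn : C.z ∉ C.overPts (fun _ => true) ∪ C.D2 := by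
    rintro (⟨p, -, -, fp⟩ | ⟨-, h, -⟩)
    · exact fp.2.2.1 rfl
    · exact h (Commute.refl _)
  have hd : Disjoint (C.overPts (fun _ => true)) C.D2 := Set.disjoint_left.mpr fun x ⟨p, _, _, fp⟩ h => h.2.1 fp.2.1
  rw [e, Set.ncard_insert_of_notMem hn (Set.toFinite _), Set.ncard_union_eq hd (Set.toFinite _) (Set.toFinite _),
    C.over_card hne, (C.D2_ncard hne hy).2]
  rw [show ptsL.countP (fun _ => true) = 45 by rw [List.countP_true]; exact pts_list.2.1]

theorem card_M (hne : C.NonIsolated) : Nat.card (C.M hne) = 693 * (25920 * 512) := by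
  have hq : ∀ a b : ↥(C.M hne), (QuotientGroup.leftRel (C.H.subgroupOf (C.M hne))).r a b ↔
      (a : G) * C.z * (a : G)⁻¹ = (b : G) * C.z * (b : G)⁻¹ := fun a b => by
    rw [QuotientGroup.leftRel_apply, Subgroup.mem_subgroupOf, C.mem_H]
    constructor
    · intro h
      show (a : G) * C.z * (a : G)⁻¹ = (b : G) * C.z * (b : G)⁻¹
      have h' : ((a : G)⁻¹ * b) * C.z = C.z * ((a : G)⁻¹ * b) := h
      calc (a : G) * C.z * (a : G)⁻¹ = (a : G) * (C.z * ((a : G)⁻¹ * b)) * (b : G)⁻¹ := by group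
        _ = _ := by rw [← h']; group
    · intro h
      show (a : G)⁻¹ * b * C.z = C.z * ((a : G)⁻¹ * b)
      calc (a : G)⁻¹ * b * C.z = (a : G)⁻¹ * ((b : G) * C.z * (b : G)⁻¹) * b := by group
        _ = _ := by rw [← h]; group
  let e : ↥(C.M hne) ⧸ C.H.subgroupOf (C.M hne) → ↥{x | C.Near C.z x} :=
    Quotient.lift (fun g => ⟨(g : G) * C.z * (g : G)⁻¹, g.2⟩) fun a b h => Subtype.ext ((hq a b).mp h)
  have hb : Function.Bijective e := by
    refine ⟨fun x y => Quotient.inductionOn₂ x y fun a b h => Quotient.sound ((hq a b).mpr (congrArg Subtype.val h)),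
      fun x => ?_⟩
    obtain ⟨g, hg⟩ := x.2.1
    exact ⟨QuotientGroup.mk ⟨g, by rw [C.mem_M, hg]; exact x.2⟩, Subtype.ext hg⟩
  rw [Subgroup.card_eq_card_quotient_mul_card_subgroup (C.H.subgroupOf (C.M hne)), Nat.card_eq_of_bijective _ hb,
    Nat.card_coe_set_eq, C.comp_card hne, Nat.card_congr (Subgroup.subgroupOfEquivOfLe (C.H_le_M hne)).toEquiv, C.card_H]

/-- Two conjugates at distance two generate a product of order three. -/
theorem order_three (hne : C.NonIsolated) {y : G} (hy : y ∈ C.D2) : orderOf (C.z * y) = 3 := by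
  have hne' : ¬ Commute C.z y := fun h => hy.2.1 h.symm
  have hodd := C.odd_prod hne C.Cj_z hy.1 hne'
  have y2 := C.Cj_sq hy.1
  have yi : y⁻¹ = y := inv_eq_of_mul_eq_one_right y2
  set r := y * C.z * y⁻¹ with hr
  have r1 : r ≠ C.z := fun h => hne' (mul_inv_eq_iff_eq_mul.mp h).symm
  have hrz : ¬ Commute r C.z := by
    intro h
    have h4 : (C.z * y) ^ 4 = 1 := by
      have e : r * C.z * (r * C.z) = 1 := by
        rw [mul_assoc r, ← mul_assoc C.z, ← h.eq]
        have r2 : r * r = 1 := C.Cj_sq (C.Cj_conj C.Cj_z y)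
        calc r * (r * C.z * C.z) = r * r * (C.z * C.z) := by group
          _ = 1 := by rw [r2, C.zz, one_mul]
      have e1 : C.z * r * (C.z * r) = 1 := by rw [← h.eq]; exact e
      rw [← e1, hr, yi]
      simp only [pow_succ, pow_zero, one_mul, mul_assoc]
    have := Nat.eq_one_of_dvd_coprimes (a := orderOf (C.z * y)) (b := 2 ^ 2)
      ((Nat.coprime_two_right.mpr hodd).pow_right 2) dvd_rfl (orderOf_dvd_of_pow_eq_one h4)
    have he := orderOf_eq_one_iff.mp this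
    have : y = C.z := by
      calc y = C.z * (C.z * y) := by rw [← mul_assoc, C.zz, one_mul]
        _ = C.z := by rw [he, mul_one]
    exact hne' (this ▸ Commute.refl _)
  have hr2 : r ∈ C.D2 := by
    have n1 : C.Near C.z y := (C.Near_split hne y).mpr (Or.inr (Or.inr hy))
    have n2 : C.Near (y * C.z * y⁻¹) (y * y * y⁻¹) := C.Near_conj n1 y
    rw [y2, one_mul, yi] at n2
    have n3 := C.Near_trans hne n1 (C.Near_symm n2)
    rw [show y * C.z * y = r by rw [hr, yi]] at n3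
    rcases (C.Near_split hne r).mp n3 with h | ⟨p, -, -, fp⟩ | h
    · exact absurd h r1
    · exact absurd fp.2.1 hrz
    · exact h
  obtain ⟨j, hj, ej⟩ : r ∈ (fun j => j * y * j⁻¹) '' (C.J : Set G) := (C.D2_ncard hne hy).1 ▸ hr2
  have ej' : j * y * j⁻¹ = r := ej
  have hfix : C.κ j = 0 := by
    refine gen_fix _ (C.κ_lt j hj) (List.all_eq_true.mpr fun k hk => Nat.beq_eq.mpr ?_)
    obtain ⟨p, hp, hpk⟩ := List.mem_map.mp (List.contains_iff_mem.mp (List.all_eq_true.mp gen_transv k hk))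
    obtain ⟨h0, hh0, eh0⟩ := C.ρ_surj (gen k) (hpk ▸ inU_tv (pts_sing hp))
    obtain ⟨i, hi, ei⟩ : h0 * y * h0⁻¹ ∈ (fun j => j * y * j⁻¹) '' (C.J : Set G) :=
      (C.D2_ncard hne hy).1 ▸ C.D2_conj hy hh0
    set l := i⁻¹ * h0 with hl
    have lz : Commute l C.z := (C.Jz i hi).inv_left.mul_left hh0
    have ly : l * y * l⁻¹ = y := by
      rw [hl, show i⁻¹ * h0 * y * (i⁻¹ * h0)⁻¹ = i⁻¹ * (h0 * y * h0⁻¹) * i by group, ← ei]; group
    have lr : l * r * l⁻¹ = r := by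
      rw [hr]
      calc l * (y * C.z * y⁻¹) * l⁻¹ = (l * y * l⁻¹) * (l * C.z * l⁻¹) * (l * y * l⁻¹)⁻¹ := by group
        _ = _ := by rw [ly, lz.eq, mul_inv_cancel_right]
    have hlJ : l * j * l⁻¹ ∈ C.J := C.conjJ l lz j hj
    have hcy : Commute (j⁻¹ * (l * j * l⁻¹)) y := by
      show j⁻¹ * (l * j * l⁻¹) * y = y * (j⁻¹ * (l * j * l⁻¹))
      calc j⁻¹ * (l * j * l⁻¹) * y = j⁻¹ * (l * (j * (l⁻¹ * y * l) * j⁻¹) * l⁻¹) * (l * j * l⁻¹) := by group
        _ = _ := by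
          rw [show l⁻¹ * y * l = y by conv_lhs => rw [← ly]
                                      group, ej', lr, ← ej']
          group
    have h1 := C.free hne hy (mul_mem (inv_mem hj) hlJ) hcy
    have h2 := C.κ_conj l lz j hj
    rw [← inv_mul_eq_one.mp h1, hl, C.ρ_mul (C.Jz i hi).inv_left hh0, C.ρ_J (inv_mem hi), app_comp,
      app_one _ (app_lt _ _), eh0] at h2
    exact h2.symm
  have key : r = y ∨ r = C.z * y * C.z := by
    rcases (C.κ_ker j hj).mp hfix with rfl | rfl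
    · exact Or.inl (by rw [← ej']; group)
    · exact Or.inr (by rw [← ej', C.z_inv])
  rcases key with h | h
  · exfalso
    refine hne' ?_
    have : C.z = y := by
      rw [hr] at h
      calc C.z = y⁻¹ * (y * C.z * y⁻¹) * y := by group
        _ = y := by rw [h]; group
    exact this ▸ Commute.refl _
  · have h3 : (C.z * y) ^ 3 = 1 := by
      rw [hr, yi] at h
      calc (C.z * y) ^ 3 = (C.z * y * C.z) * (y * C.z * y) := by simp only [pow_succ, pow_zero, one_mul, mul_assoc]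
        _ = (y * C.z * y) * (y * C.z * y) := by rw [← h]
        _ = y * C.z * (y * y) * C.z * y := by simp only [mul_assoc]
        _ = 1 := by rw [y2, mul_one, mul_assoc y, C.zz, mul_one, y2]
    refine orderOf_eq_prime h3 fun he => hne' ?_
    have : y = C.z := by
      calc y = C.z * (C.z * y) := by rw [← mul_assoc, C.zz, one_mul]
        _ = C.z := by rw [he, mul_one]
    exact this ▸ Commute.refl _

end Core

end CfsgLib.U6Rec
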