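/-
An involution that is neither a conjugate nor a product of a commuting pair has at most twelve partners
in the component.
-/
import Cfsg.Agent.Lib.U6Rec.Graph

set_option autoImplicit false
set_option maxRecDepth 100000
set_option linter.style.haveILetI false
set_option linter.unusedSectionVars false

namespace CfsgLib.U6Rec

theorem five_pts : ∀ n ∈ [1, 2, 4, 8, 15], rPt n ∈ ptsL := by decide +kernel

theorem ten_split : ∀ n ∈ [3, 5, 6, 7, 9, 10, 11, 12, 13, 14], ∃ n1 ∈ [1, 2, 4, 8, 15], ∃ n2 ∈ [1, 2, 4, 8, 15],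
    n1 ≠ n2 ∧ n1 ^^^ n2 = n := by decide

theorem ten_cent : (([3, 5, 6, 7, 9, 10, 11, 12, 13, 14] : List ℕ).all fun n => ptsL.all fun p =>
    !Nat.beq (comp (tv p) (rOf n)) (comp (rOf n) (tv p)) || Nat.ble p 15) = true := by decide +kernel

theorem split_own : ∀ n1 ∈ [1, 2, 4, 8, 15], ∀ n2 ∈ [1, 2, 4, 8, 15], n1 ≠ n2 → ∀ x ∈ [0, 1, 2, 4, 8, 15],
    ∀ y ∈ [0, 1, 2, 4, 8, 15], x ^^^ y = n2 → x = 0 ∨ y = 0 := by decide

theorem split_other : ∀ n1 ∈ [1, 2, 4, 8, 15], ∀ n2 ∈ [1, 2, 4, 8, 15], n1 ≠ n2 → ∀ k ∈ [1, 2, 4, 8, 15], k ≠ n1 → k ≠ n2 →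
    ∃ l ∈ [1, 2, 4, 8, 15], ∃ m ∈ [1, 2, 4, 8, 15], k ≠ l ∧ k ≠ m ∧ l ≠ m ∧ ∀ x ∈ [0, 1, 2, 4, 8, 15],
      ∀ y ∈ [0, 1, 2, 4, 8, 15], x ^^^ y = k ^^^ (n1 ^^^ n2) → (x = l ∧ y = m) ∨ (x = m ∧ y = l) := by decide +kernel

theorem twelve : ∀ n1 ∈ [1, 2, 4, 8, 15], ∀ n2 ∈ [1, 2, 4, 8, 15], n1 ≠ n2 →
    (∑ n ∈ ({1, 2, 4, 8, 15} : Finset ℕ), if n = n1 ∨ n = n2 then 1 else 3) + 1 ≤ 12 := by decide +kernel

theorem five_finset {n : ℕ} : n ∈ ({1, 2, 4, 8, 15} : Finset ℕ) ↔ n ∈ [1, 2, 4, 8, 15] := by simp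

namespace Core

variable {G : Type*} [Group G] (C : Core G) [Finite G]

/-- A product of a commuting pair. -/
def IsP (t : G) : Prop := ∃ a b, C.Cj a ∧ C.Cj b ∧ Commute a b ∧ a ≠ b ∧ t = a * b

theorem IsP_conj {t : G} (h : C.IsP t) (g : G) : C.IsP (g * t * g⁻¹) := by
  obtain ⟨a, b, ha, hb, hc, hab, rfl⟩ := h
  exact ⟨_, _, C.Cj_conj ha g, C.Cj_conj hb g, (conj_comm_iff g a b).mpr hc, by simpa using hab, by group⟩

theorem IsP_pull {t : G} (h : C.IsP t) (g : G) : C.IsP (g⁻¹ * t * g) := by simpa using C.IsP_conj h g⁻¹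

theorem IsP_sq {t : G} (h : C.IsP t) : t * t = 1 ∧ t ≠ 1 := by
  obtain ⟨a, b, ha, hb, hc, hab, rfl⟩ := h
  refine ⟨?_, fun e => hab ?_⟩
  · calc a * b * (a * b) = a * (b * a) * b := by group
      _ = (a * a) * (b * b) := by rw [← hc.eq]; group
      _ = 1 := by rw [C.Cj_sq ha, C.Cj_sq hb, one_mul]
  · rw [← inv_eq_of_mul_eq_one_right (C.Cj_sq ha)]; exact inv_eq_of_mul_eq_one_right e

/-- A product of a commuting pair is not a conjugate. -/
theorem not_Cj_pair (hne : C.NonIsolated) {a b : G} (ha : C.Cj a) (hb : C.Cj b) (hc : Commute a b) (hab : a ≠ b) :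
    ¬ C.Cj (a * b) := by
  intro hp
  obtain ⟨g, rfl⟩ := id ha
  have cb : Commute (g⁻¹ * b * g) C.z := C.pulled hc.symm
  obtain ⟨h, hh, hm⟩ := C.to_first hne (C.Cj_pull hb g) cb (fun e => hab (by rw [← e]; group))
  set x := h * (g⁻¹ * b * g) * h⁻¹ with hx
  have hzx : C.Cj (C.z * x) := by
    have := C.Cj_conj (C.Cj_pull hp g) h
    rwa [show h * (g⁻¹ * (g * C.z * g⁻¹ * b) * g) * h⁻¹ = (h * C.z * h⁻¹) * x by rw [hx]; group, hh.eq,
      mul_inv_cancel_right] at this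
  have hA : C.z * x ∈ C.A := mul_mem (C.Wt_le_A C.z_Wt) hm.2.1
  have hmem : C.z * x ∈ C.O ∩ C.coset 1 := by
    refine ⟨⟨hA, hzx⟩, hA, ?_⟩
    rw [C.ρ_mul (Commute.refl _) (C.A_comm hm.2.1), C.ρ_J C.zJ, hm.2.2, ← r_form 1, one_comp]
  have hd : x ≠ C.z * x := fun e => C.z_ne (mul_eq_right.mp e.symm)
  obtain ⟨-, c, hc4, c0, ek⟩ := C.coset_shift hne (n := 1) (by decide) hm hmem hd
  rw [show x * (C.z * x) = C.z by
    rw [← mul_assoc, (C.A_comm hm.2.1).eq, mul_assoc, C.A_sq_one hne hm.2.1, mul_one], C.κ_z,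
    show rPt 1 = 1 from rfl, smul_one_point c hc4] at ek
  exact c0 ek.symm

theorem comm4 {p q r s : G} (h : Commute q r) : p * q * (r * s) = p * r * (q * s) := by
  rw [mul_assoc, ← mul_assoc q, h.eq, mul_assoc r, ← mul_assoc]

theorem O_ncard (hne : C.NonIsolated) {n : ℕ} (hn : n ∈ [1, 2, 4, 8, 15]) : (C.O ∩ C.coset n).ncard = 4 :=
  (C.cnt_members hn).trans (C.orbit_counts hne).2.1

theorem coset_four_one (hne : C.NonIsolated) {p q r s : G} (hp : p ∈ C.O ∩ C.coset 1) (hq : q ∈ C.O ∩ C.coset 1)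
    (hr : r ∈ C.O ∩ C.coset 1) (hs : s ∈ C.O ∩ C.coset 1) (pq : p ≠ q) (pr : p ≠ r) (ps : p ≠ s) (qr : q ≠ r)
    (qs : q ≠ s) (rs : r ≠ s) : p * q * (r * s) = C.z := by
  classical
  obtain ⟨u, w, hu, hw, e⟩ := C.four_sum hne hp hq pq
  have sq : ∀ {x : G}, x ∈ C.O ∩ C.coset 1 → x * x = 1 := fun {x} hx => C.A_sq_one hne hx.2.1
  have nz : ∀ {x y : G}, x ∈ C.O ∩ C.coset 1 → y ∈ C.O ∩ C.coset 1 → x * y ≠ C.z := by
    intro x y hx hy e'
    by_cases hxy : x = y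
    · rw [hxy, sq hy] at e'; exact C.z_ne e'.symm
    obtain ⟨-, c, hc4, c0, ek⟩ := C.coset_shift hne (n := 1) (by decide) hx hy hxy
    rw [e', C.κ_z, show rPt 1 = 1 from rfl, smul_one_point c hc4] at ek
    exact c0 ek.symm
  have cm : ∀ {x y : G}, x ∈ C.O ∩ C.coset 1 → y ∈ C.O ∩ C.coset 1 → Commute x y :=
    fun hx hy => C.A_abelian hne hx.2.1 hy.2.1
  have uw : u ≠ w := fun h => nz hp hq (by rw [← e, h, mul_assoc (p * q), sq hw, mul_one])
  have up : u ≠ p := fun h => nz hq hw (by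
    rw [← e, h, show p * q * p * w = p * (q * p) * w by group, (cm hq hp).eq, ← mul_assoc, sq hp, one_mul])
  have uq : u ≠ q := fun h => nz hp hw (by rw [← e, h, mul_assoc p, sq hq, mul_one])
  have wp : w ≠ p := fun h => nz hq hu (by
    rw [← e, h, show p * q * u * p = p * (q * u * p) by group,
      (((cm hq hp).mul_left (cm hu hp)) : Commute (q * u) p).eq, ← mul_assoc, sq hp, one_mul])
  have wq : w ≠ q := fun h => nz hp hu (by
    rw [← e, h, show p * q * u * q = p * (q * u) * q by group, (cm hq hu).eq, mul_assoc p, mul_assoc u, sq hq, mul_one])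
  have all4 : ∀ x ∈ C.O ∩ C.coset 1, x = p ∨ x = q ∨ x = u ∨ x = w := by
    have hsub : ({p, q, u, w} : Set G) ⊆ C.O ∩ C.coset 1 := by
      rintro x (rfl | rfl | rfl | rfl) <;> assumption
    have hc : ({p, q, u, w} : Set G).ncard = 4 := by
      rw [Set.ncard_insert_of_notMem (by simp [pq, up.symm, wp.symm]) (Set.toFinite _),
        Set.ncard_insert_of_notMem (by simp [uq.symm, wq.symm]) (Set.toFinite _), Set.ncard_pair uw]
    intro x hx
    rw [← Set.eq_of_subset_of_ncard_le hsub (by rw [hc, C.O_ncard hne (by decide)]) (Set.toFinite _)] at hx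
    simpa using hx
  rcases all4 r hr with h | h | hr' | hr'
  · exact absurd h.symm pr
  · exact absurd h.symm qr
  · rcases all4 s hs with h | h | hs' | hs'
    · exact absurd h.symm ps
    · exact absurd h.symm qs
    · exact absurd (hr'.trans hs'.symm) rs
    · rw [hr', hs', ← e, ← mul_assoc]
  · rcases all4 s hs with h | h | hs' | hs'
    · exact absurd h.symm ps
    · exact absurd h.symm qs
    · rw [hr', hs', (cm hw hu).eq, ← e, ← mul_assoc]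
    · exact absurd (hr'.trans hs'.symm) rs

/-- The product of the four members of a coset is the involution. -/
theorem coset_four (hne : C.NonIsolated) {n : ℕ} (hn : n ∈ [1, 2, 4, 8, 15]) {p q r s : G}
    (hp : p ∈ C.O ∩ C.coset n) (hq : q ∈ C.O ∩ C.coset n) (hr : r ∈ C.O ∩ C.coset n) (hs : s ∈ C.O ∩ C.coset n)
    (pq : p ≠ q) (pr : p ≠ r) (ps : p ≠ s) (qr : q ≠ r) (qs : q ≠ s) (rs : r ≠ s) : p * q * (r * s) = C.z := by
  obtain ⟨k, hk, e⟩ := five_par hn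
  obtain ⟨m, hm, em⟩ := C.par_lift hk
  have mz : Commute m C.z := C.mem_H.mp hm.2
  have back : ∀ {x : G}, x ∈ C.O ∩ C.coset n → m⁻¹ * x * m ∈ C.O ∩ C.coset 1 := by
    intro x hx
    refine ⟨(C.O_conj_iff hm.1).mp ?_, (C.coset_par hm em e _).mpr ?_⟩
    · rw [show m * (m⁻¹ * x * m) * m⁻¹ = x by group]; exact hx.1
    · rw [show m * (m⁻¹ * x * m) * m⁻¹ = x by group]; exact hx.2
  have inj : ∀ {x y : G}, x ≠ y → m⁻¹ * x * m ≠ m⁻¹ * y * m := fun h e => h (by simpa using e)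
  have := C.coset_four_one hne (back hp) (back hq) (back hr) (back hs) (inj pq) (inj pr) (inj ps) (inj qr) (inj qs) (inj rs)
  rw [show m⁻¹ * p * m * (m⁻¹ * q * m) * (m⁻¹ * r * m * (m⁻¹ * s * m)) = m⁻¹ * (p * q * (r * s)) * m by group] at this
  calc p * q * (r * s) = m * (m⁻¹ * (p * q * (r * s)) * m) * m⁻¹ := by group
    _ = C.z := by rw [this, mz.eq, mul_inv_cancel_right]

theorem J_eq_of_comm (hne : C.NonIsolated) {a e y : G} (ha : Commute a C.z) (he : Commute e C.z) (hρ : C.ρ a = C.ρ e)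
    (hy : y ∈ C.D2) (hay : Commute a y) (hey : Commute e y) : a = e :=
  inv_mul_eq_one.mp (C.free hne hy ((C.ρ_eq_iff ha he).mp hρ) (hay.inv_left.mul_left hey))

/-- Other members of the elementary abelian subgroup fix nothing at distance two. -/
theorem A_D2 (hne : C.NonIsolated) {a y : G} (ha : a ∈ C.A) (hy : y ∈ C.D2) (hc : Commute a y) :
    a = 1 ∨ C.Cj a ∨ C.IsP a := by
  have az := C.A_comm ha
  obtain ⟨n, hn, en⟩ := C.ρ_A ha
  have get : ∀ {n : ℕ}, n ∈ [1, 2, 4, 8, 15] → ∃ e ∈ C.CN y, e ∈ C.fib (rPt n) ∧ C.ρ e = rOf n := by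
    intro n hn
    obtain ⟨h16, hp0, -⟩ := five_lt n hn
    obtain ⟨e, he, ep⟩ := C.CN_all hne hy (five_pts n hn)
    exact ⟨e, he, ep, ep.2.2.2.trans (r_point n h16 hp0).1.symm⟩
  rcases five_or_ten n hn with rfl | hf | ⟨ht, -⟩
  · exact Or.inl (C.J_eq_of_comm hne az (Commute.one_left _) (by rw [en, C.ρ_one, r_inj.2.2]) hy hc (Commute.one_left _))
  · obtain ⟨e, he, -, e'⟩ := get hf
    rw [C.J_eq_of_comm hne az he.2.1 (en.trans e'.symm) hy hc he.2.2.2]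
    exact Or.inr (Or.inl he.1)
  · obtain ⟨n1, h1, n2, h2, h12, rfl⟩ := ten_split n ht
    obtain ⟨e1, he1, f1, r1⟩ := get h1
    obtain ⟨e2, he2, f2, r2⟩ := get h2
    have l1 := (five_lt n1 h1).1
    have l2 := (five_lt n2 h2).1
    have hρ : C.ρ (e1 * e2) = rOf (n1 ^^^ n2) := by rw [C.ρ_mul he1.2.1 he2.2.1, r1, r2, r_hom _ l1 _ l2]
    rw [C.J_eq_of_comm hne az (he1.2.1.mul_left he2.2.1) (en.trans hρ.symm) hy hc (he1.2.2.2.mul_left he2.2.2.2)]
    refine Or.inr (Or.inr ⟨e1, e2, he1.1, he2.1, ?_, fun h => h12 (rOf_inj l1 l2 (by rw [← r1, ← r2, h])), rfl⟩)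
    exact (C.fib_comm hne (five_pts n1 h1) (five_pts n2 h2) f1 f2).mpr
      (line_iso _ (r_point n1 l1 (five_lt n1 h1).2.1).2 _ (r_point n2 l2 (five_lt n2 h2).2.1).2)

theorem comp_in_O (hne : C.NonIsolated) {a u : G} (ha : a ∈ C.A) {n : ℕ} (hn : n ∈ [3, 5, 6, 7, 9, 10, 11, 12, 13, 14])
    (en : C.ρ a = rOf n) (h1 : a ≠ 1) (h2 : ¬ C.Cj a) (h3 : ¬ C.IsP a) (hu : C.Near C.z u) (hc : Commute u a) :
    u ∈ C.O := by
  rcases (C.Near_split hne u).mp hu with rfl | ⟨p, hp, -, fp⟩ | h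
  · exact C.z_mem_O
  · have e : comp (tv p) (rOf n) = comp (rOf n) (tv p) := by
      rw [← fp.2.2.2, ← en, ← C.ρ_mul fp.2.1 (C.A_comm ha), ← C.ρ_mul (C.A_comm ha) fp.2.1, hc.eq]
    have t := List.all_eq_true.mp (List.all_eq_true.mp ten_cent n hn) p hp
    rw [e, Bool.or_eq_true] at t
    rcases t with t | t
    · simp at t
    have hp16 : p < 16 := by have := Nat.le_of_ble_eq_true t; omega
    obtain ⟨m, hm, em⟩ := five_points p hp16 (pts_sing hp).2.1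
    exact ⟨C.in_A hne fp.1 fp.2.1 (five_lt m hm).1 (fp.2.2.2.trans em), fp.1⟩
  · rcases C.A_D2 hne ha h hc.symm with r | r | r
    exacts [absurd r h1, absurd r h2, absurd r h3]

theorem O_label (hne : C.NonIsolated) {x : G} (hx : x ∈ C.O) :
    ∃ n ∈ [0, 1, 2, 4, 8, 15], C.ρ x = rOf n ∧ (n = 0 → x = C.z) ∧ (n ≠ 0 → x ∈ C.O ∩ C.coset n) := by
  rcases C.O_five hne hx with rfl | ⟨n, hn, h⟩
  · exact ⟨0, by decide, by rw [C.ρ_J C.zJ, r_inj.2.2], fun _ => rfl, fun h => absurd rfl h⟩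
  · exact ⟨n, List.mem_cons_of_mem _ hn, h.2, fun e => absurd e (five_lt n hn).2.2, fun _ => ⟨hx, h⟩⟩

/-- The partners of a member of the elementary abelian subgroup. -/
def Part (w : G) : Set G := {u | C.Near C.z u ∧ Commute u w ∧ C.IsP (u * w)}

theorem incid_A (hne : C.NonIsolated) {b c : G} (hb : b ∈ C.O) (hc : c ∈ C.O) (hbz : b ≠ C.z) (hcz : c ≠ C.z) (hbc : b ≠ c)
    (h1 : C.z * b * c ≠ 1) (h2 : ¬ C.Cj (C.z * b * c)) (h3 : ¬ C.IsP (C.z * b * c)) :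
    (C.Part (C.z * b * c)).ncard ≤ 12 := by
  classical
  haveI := Fintype.ofFinite G
  obtain ⟨n1, hn1, hb1⟩ := (C.O_five hne hb).resolve_left hbz
  obtain ⟨n2, hn2, hc2⟩ := (C.O_five hne hc).resolve_left hcz
  have sq : ∀ {x : G}, x ∈ C.O → x * x = 1 := fun {x} hx => C.Cj_sq hx.2
  have cm : ∀ {x y : G}, x ∈ C.O → y ∈ C.O → Commute x y := fun hx hy => C.A_abelian hne hx.1 hy.1
  have n12 : n1 ≠ n2 := by
    intro e
    subst e
    have hd : 1 < ((C.O ∩ C.coset n1) \ {b, c}).ncard := by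
      rw [Set.ncard_sdiff (by rintro x (rfl | rfl) <;> [exact ⟨hb, hb1⟩; exact ⟨hc, hc2⟩]) (Set.toFinite _),
        C.O_ncard hne hn1, Set.ncard_pair hbc]
      norm_num
    obtain ⟨r, hr, s, hs, hrs⟩ := (Set.one_lt_ncard (Set.toFinite _)).mp hd
    simp only [Set.mem_sdiff, Set.mem_insert_iff, Set.mem_singleton_iff, not_or] at hr hs
    have e := C.coset_four hne hn1 ⟨hb, hb1⟩ ⟨hc, hc2⟩ hr.1 hs.1 hbc (Ne.symm hr.2.1) (Ne.symm hs.2.1) (Ne.symm hr.2.2)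
      (Ne.symm hs.2.2) hrs
    refine h3 ⟨r, s, hr.1.1.2, hs.1.1.2, cm hr.1.1 hs.1.1, hrs, ?_⟩
    have hbc' : b * c = C.z * (r * s) := by
      rw [← e, mul_assoc _ (r * s)]
      rw [show r * s * (r * s) = 1 from C.A_sq_one hne (mul_mem hr.1.1.1 hs.1.1.1), mul_one]
    rw [mul_assoc, hbc', ← mul_assoc, C.zz, one_mul]
  set a := C.z * b * c with ha
  have haA : a ∈ C.A := mul_mem (mul_mem (C.Wt_le_A C.z_Wt) hb.1) hc.1
  have l1 := (five_lt n1 hn1).1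
  have l2 := (five_lt n2 hn2).1
  have en : C.ρ a = rOf (n1 ^^^ n2) := by
    have bz := C.A_comm hb.1
    rw [ha, C.ρ_mul ((Commute.refl _).mul_left bz) (C.A_comm hc.1), C.ρ_mul (Commute.refl _) bz, C.ρ_J C.zJ, hb1.2, hc2.2,
      ← r_form n1, one_comp, r_form, r_hom _ l1 _ l2]
  have hten := prod_not_tv n1 hn1 n2 hn2 n12
  have inO : ∀ {u : G}, C.Near C.z u → Commute u a → u ∈ C.O := fun hu hc' => C.comp_in_O hne haA hten en h1 h2 h3 hu hc'
  -- partners of a member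
  have split : ∀ {u : G}, u ∈ C.Part a → ∀ {k : ℕ}, k < 16 → C.ρ u = rOf k → ∃ p ∈ C.O, ∃ q ∈ C.O, p ≠ q ∧ u * a = p * q ∧
      ∃ x ∈ [0, 1, 2, 4, 8, 15], ∃ y ∈ [0, 1, 2, 4, 8, 15], x ^^^ y = k ^^^ (n1 ^^^ n2) ∧
        (x = 0 → p = C.z) ∧ (x ≠ 0 → p ∈ C.O ∩ C.coset x) ∧ (y = 0 → q = C.z) ∧ (y ≠ 0 → q ∈ C.O ∩ C.coset y) := by
    intro u hu k hk ek
    obtain ⟨hun, huc, p, q, hp, hq, hpq, hne', e⟩ := hu
    have uO := inO hun huc
    have cu : Commute u (p * q) := e ▸ (Commute.refl u).mul_right huc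
    obtain ⟨cp, cq⟩ := C.comm_of_prod hne hp hq uO.2 hpq hne' cu
    have ea : a = u * (p * q) := by rw [← e, ← mul_assoc, sq uO, one_mul]
    have near : ∀ {t : G}, C.Cj t → Commute u t → C.Near C.z t := fun ht h => C.Near_step hne hun ht h
    have pO := inO (near hp cp) (ea ▸ cp.symm.mul_right ((Commute.refl p).mul_right hpq))
    have qO := inO (near hq cq) (ea ▸ cq.symm.mul_right (hpq.symm.mul_right (Commute.refl q)))
    obtain ⟨x, hx, ex, x0, x1⟩ := C.O_label hne pO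
    obtain ⟨y, hy, ey, y0, y1⟩ := C.O_label hne qO
    refine ⟨p, pO, q, qO, hne', e, x, hx, y, hy, ?_, x0, x1, y0, y1⟩
    have small : ∀ x ∈ [0, 1, 2, 4, 8, 15], x < 16 := by decide
    have lx := small x hx
    have ly := small y hy
    refine rOf_inj (Nat.xor_lt_two_pow (n := 4) lx ly) (Nat.xor_lt_two_pow (n := 4) hk (Nat.xor_lt_two_pow (n := 4) l1 l2)) ?_
    rw [← r_hom _ lx _ ly, ← r_hom _ hk _ (Nat.xor_lt_two_pow (n := 4) l1 l2), ← ex, ← ey, ← en, ← ek,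
      ← C.ρ_mul (C.A_comm pO.1) (C.A_comm qO.1), ← C.ρ_mul (C.A_comm uO.1) (C.A_comm haA), e]
  -- the cosets of the two given members
  have own : ∀ {u : G}, u ∈ C.Part a → ∀ {k : ℕ}, (k = n1 ∨ k = n2) → u ∈ C.O ∩ C.coset k → u = b ∨ u = c := by
    intro u hu k hk hum
    by_contra hcon
    push Not at hcon
    have k16 : k < 16 := by rcases hk with rfl | rfl <;> assumption
    obtain ⟨p, pO, q, qO, hpq, e, x, hx, y, hy, hxy, x0, x1, y0, y1⟩ := split hu k16 hum.2.2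
    have hz : x = 0 ∨ y = 0 := by
      rcases hk with rfl | rfl
      · refine split_own k hn1 n2 hn2 n12 x hx y hy ?_
        rw [hxy, ← Nat.xor_assoc, Nat.xor_self, Nat.zero_xor]
      · refine split_own k hn2 n1 hn1 n12.symm x hx y hy ?_
        rw [hxy, Nat.xor_comm n1, ← Nat.xor_assoc, Nat.xor_self, Nat.zero_xor]
    obtain ⟨v, vO, ev⟩ : ∃ v ∈ C.O, p * q = C.z * v := by
      rcases hz with h | h
      · exact ⟨q, qO, by rw [x0 h]⟩
      · exact ⟨p, pO, by rw [y0 h]; exact (cm pO C.z_mem_O).eq⟩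
    refine C.no_four hne hum.1.2 hb.2 hc.2 hcon.1 hcon.2 hbc (cm hum.1 hb) (cm hum.1 hc) (cm hb hc) ?_
    have : u * b * c = v := by
      calc u * b * c = (C.z * C.z) * (u * b * c) := by rw [C.zz, one_mul]
        _ = C.z * (u * a) := by
          rw [ha, show u * (C.z * b * c) = (u * C.z) * b * c by group, (cm hum.1 C.z_mem_O).eq]; group
        _ = v := by rw [e, ev, ← mul_assoc, C.zz, one_mul]
    rw [this]; exact vO.2
  -- the other cosets
  have other : ∀ k ∈ [1, 2, 4, 8, 15], k ≠ n1 → k ≠ n2 → (C.Part a ∩ (C.O ∩ C.coset k)).ncard ≤ 3 := by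
    intro k hk k1 k2
    by_contra h4
    have hall : C.Part a ∩ (C.O ∩ C.coset k) = C.O ∩ C.coset k :=
      Set.eq_of_subset_of_ncard_le Set.inter_subset_right (by rw [C.O_ncard hne hk]; omega) (Set.toFinite _)
    obtain ⟨l, hl, m, hm, kl, km, lm, hxy⟩ := split_other n1 hn1 n2 hn2 n12 k hk k1 k2
    have hl0 := (five_lt l hl).2.2
    have hm0 := (five_lt m hm).2.2
    have part : ∀ u ∈ C.O ∩ C.coset k, ∃ p ∈ C.O ∩ C.coset l, ∃ q ∈ C.O ∩ C.coset m, u * a = p * q := by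
      intro u hu
      have hu' : u ∈ C.Part a := by rw [← hall] at hu; exact hu.1
      obtain ⟨p, pO, q, qO, hpq, e, x, hx, y, hy, exy, x0, x1, y0, y1⟩ := split hu' (five_lt k hk).1 hu.2.2
      rcases hxy x hx y hy exy with ⟨rfl, rfl⟩ | ⟨rfl, rfl⟩
      · exact ⟨p, x1 hl0, q, y1 hm0, e⟩
      · exact ⟨q, y1 hl0, p, x1 hm0, e.trans (cm pO qO).eq⟩
    choose! π hπ σ hσ he using part
    have ex4 : ∃ u1 u2 u3 u4, u1 ∈ C.O ∩ C.coset k ∧ u2 ∈ C.O ∩ C.coset k ∧ u3 ∈ C.O ∩ C.coset k ∧ u4 ∈ C.O ∩ C.coset k ∧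
        u1 ≠ u2 ∧ u1 ≠ u3 ∧ u1 ≠ u4 ∧ u2 ≠ u3 ∧ u2 ≠ u4 ∧ u3 ≠ u4 := by
      have h := C.O_ncard hne hk
      rw [Set.ncard_eq_toFinset_card'] at h
      obtain ⟨u1, u2, u3, u4, a1, a2, a3, a4, a5, a6, e⟩ := Finset.card_eq_four.mp h
      have mm : ∀ x, x ∈ ({u1, u2, u3, u4} : Finset G) → x ∈ C.O ∩ C.coset k := fun x hx => by
        rw [← e, Set.mem_toFinset] at hx; exact hx
      exact ⟨u1, u2, u3, u4, mm _ (by simp), mm _ (by simp), mm _ (by simp), mm _ (by simp), a1, a2, a3, a4, a5, a6⟩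
    obtain ⟨u1, u2, u3, u4, m1, m2, m3, m4', d12, d13, d14, d23, d24, d34⟩ := ex4
    have ea : ∀ {u : G}, u ∈ C.O ∩ C.coset k → u * (π u * σ u) = a := fun {u} hu => by
      rw [← he u hu, ← mul_assoc, sq hu.1, one_mul]
    have diff : ∀ {i j : ℕ}, i ∈ [1, 2, 4, 8, 15] → j ∈ [1, 2, 4, 8, 15] → i ≠ j → ∀ {x y : G},
        x ∈ C.O ∩ C.coset i → y ∈ C.O ∩ C.coset j → x ≠ y := by
      rintro i j hi hj hij x y hx hy rfl
      exact hij (rOf_inj (five_lt i hi).1 (five_lt j hj).1 (hx.2.2.symm.trans hy.2.2))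
    have cancel : ∀ {u u' v v' t : G}, u ∈ C.O ∩ C.coset k → u' ∈ C.O ∩ C.coset k → v ∈ C.O → v' ∈ C.O → t ∈ C.O →
        u ≠ v → u ≠ v' → u * (t * v) = u' * (t * v') → u = u' := by
      intro u u' v v' t hu hu' hv hv' ht d d' e
      have e' : u * v = u' * v' := by
        rw [show u * (t * v) = (u * t) * v by group, (cm hu.1 ht).eq, show u' * (t * v') = (u' * t) * v' by group,
          (cm hu'.1 ht).eq, mul_assoc, mul_assoc] at e
        exact mul_left_cancel e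
      rcases C.pair_unique hne hu.1.2 hv.2 (cm hu.1 hv) d hu'.1.2 hv'.2 (cm hu'.1 hv') e'.symm with ⟨r, -⟩ | ⟨-, r⟩
      · exact r.symm
      · exact absurd r.symm d'
    have πinj : ∀ {u u' : G}, u ∈ C.O ∩ C.coset k → u' ∈ C.O ∩ C.coset k → u ≠ u' → π u ≠ π u' := by
      intro u u' hu hu' d e
      refine d (cancel hu hu' (hσ u hu).1 (hσ u' hu').1 (hπ u hu).1 (diff hk hm km hu (hσ u hu))
        (diff hk hm km hu (hσ u' hu')) ?_)
      rw [ea hu, e, ea hu']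
    have σinj : ∀ {u u' : G}, u ∈ C.O ∩ C.coset k → u' ∈ C.O ∩ C.coset k → u ≠ u' → σ u ≠ σ u' := by
      intro u u' hu hu' d e
      refine d (cancel hu hu' (hπ u hu).1 (hπ u' hu').1 (hσ u hu).1 (diff hk hl kl hu (hπ u hu))
        (diff hk hl kl hu (hπ u' hu')) ?_)
      rw [← (cm (hπ u hu).1 (hσ u hu).1).eq, ea hu, e, ← (cm (hπ u' hu').1 (hσ u' hu').1).eq, ea hu']
    have e1 := C.coset_four hne hk m1 m2 m3 m4' d12 d13 d14 d23 d24 d34
    have e2 := C.coset_four hne hl (hπ _ m1) (hπ _ m2) (hπ _ m3) (hπ _ m4') (πinj m1 m2 d12) (πinj m1 m3 d13)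
      (πinj m1 m4' d14) (πinj m2 m3 d23) (πinj m2 m4' d24) (πinj m3 m4' d34)
    have e3 := C.coset_four hne hm (hσ _ m1) (hσ _ m2) (hσ _ m3) (hσ _ m4') (σinj m1 m2 d12) (σinj m1 m3 d13)
      (σinj m1 m4' d14) (σinj m2 m3 d23) (σinj m2 m4' d24) (σinj m3 m4' d34)
    have cA : ∀ {x y : G}, x ∈ C.A → y ∈ C.A → Commute x y := fun hx hy => C.A_abelian hne hx hy
    have A1 := m1.1.1
    have A2 := m2.1.1
    have A3 := m3.1.1
    have A4 := m4'.1.1
    have P1 := (hπ _ m1).1.1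
    have P2 := (hπ _ m2).1.1
    have P3 := (hπ _ m3).1.1
    have P4 := (hπ _ m4').1.1
    have Q1 := (hσ _ m1).1.1
    have Q2 := (hσ _ m2).1.1
    have Q3 := (hσ _ m3).1.1
    have Q4 := (hσ _ m4').1.1
    have tot : (u1 * (π u1 * σ u1)) * (u2 * (π u2 * σ u2)) * ((u3 * (π u3 * σ u3)) * (u4 * (π u4 * σ u4))) =
        (u1 * u2 * (u3 * u4)) * ((π u1 * π u2 * (π u3 * π u4)) * (σ u1 * σ u2 * (σ u3 * σ u4))) := by
      rw [comm4 (cA (mul_mem P1 Q1) A2), comm4 (cA (mul_mem P3 Q3) A4), comm4 (cA Q1 P2), comm4 (cA Q3 P4),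
        comm4 (cA (mul_mem (mul_mem P1 P2) (mul_mem Q1 Q2)) (mul_mem A3 A4)),
        comm4 (cA (mul_mem Q1 Q2) (mul_mem P3 P4))]
    rw [ea m1, ea m2, ea m3, ea m4', e1, e2, e3, C.A_sq_one hne haA, one_mul, C.zz, mul_one] at tot
    exact C.z_ne tot.symm
  have hsub : (C.Part a).toFinset ⊆ insert C.z (({1, 2, 4, 8, 15} : Finset ℕ).biUnion fun n =>
      (C.Part a ∩ (C.O ∩ C.coset n)).toFinset) := by
    intro u hu
    rw [Set.mem_toFinset] at hu
    rcases C.O_five hne (inO hu.1 hu.2.1) with r | ⟨n, hn, h⟩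
    · exact Finset.mem_insert.mpr (Or.inl r)
    · exact Finset.mem_insert.mpr (Or.inr (Finset.mem_biUnion.mpr
        ⟨n, five_finset.mpr hn, Set.mem_toFinset.mpr ⟨hu, inO hu.1 hu.2.1, h⟩⟩))
  rw [Set.ncard_eq_toFinset_card']
  refine (Finset.card_le_card hsub).trans ((Finset.card_insert_le _ _).trans (le_trans ?_ (twelve n1 hn1 n2 hn2 n12)))
  refine Nat.add_le_add_right (Finset.card_biUnion_le.trans (Finset.sum_le_sum fun n hn => ?_)) 1
  rw [← Set.ncard_eq_toFinset_card']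
  split
  · next h =>
    refine Set.ncard_le_one_iff_subsingleton.mpr fun x hx y hy => ?_
    have nb : ∀ {v : G}, v ∈ C.O ∩ C.coset n → (v = b ∨ v = c) → (v = b ∧ n = n1) ∨ (v = c ∧ n = n2) := by
      intro v hv hv'
      have n16 := (five_lt n (five_finset.mp hn)).1
      rcases hv' with rfl | rfl
      · exact Or.inl ⟨rfl, rOf_inj n16 l1 (hv.2.2.symm.trans hb1.2)⟩
      · exact Or.inr ⟨rfl, rOf_inj n16 l2 (hv.2.2.symm.trans hc2.2)⟩
    rcases nb hx.2 (own hx.1 h hx.2) with ⟨ex, e1⟩ | ⟨ex, e1⟩ <;> rcases nb hy.2 (own hy.1 h hy.2) with ⟨ey, e2⟩ | ⟨ey, e2⟩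
    · rw [ex, ey]
    · exact absurd (e1.symm.trans e2) n12
    · exact absurd (e2.symm.trans e1) n12
    · rw [ex, ey]
  · next h =>
    push Not at h
    exact other n (five_finset.mp hn) h.1 h.2

/-- At most twelve partners. -/
theorem incid (hne : C.NonIsolated) {w : G} (h1 : w ≠ 1) (h2 : ¬ C.Cj w) (h3 : ¬ C.IsP w) : (C.Part w).ncard ≤ 12 := by
  classical
  rcases (C.Part w).eq_empty_or_nonempty with h | ⟨u0, hu0⟩
  · rw [h, Set.ncard_empty]; norm_num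
  obtain ⟨⟨g, hg⟩, -⟩ := id hu0.1
  have hsub : C.Part w ⊆ (fun t => g * t * g⁻¹) '' C.Part (g⁻¹ * w * g) := by
    intro u hu
    refine ⟨g⁻¹ * u * g, ⟨?_, (pull_comm_iff g u w).mpr hu.2.1, ?_⟩, by group⟩
    · have := C.Near_conj (C.Near_trans hne (C.Near_symm hu0.1) hu.1) g⁻¹
      rwa [← hg, show g⁻¹ * (g * C.z * g⁻¹) * g⁻¹⁻¹ = C.z by group, inv_inv] at this
    · rw [show g⁻¹ * u * g * (g⁻¹ * w * g) = g⁻¹ * (u * w) * g by group]; exact C.IsP_pull hu.2.2 g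
  refine le_trans (Set.ncard_le_ncard hsub (Set.toFinite _)) (le_trans (Set.ncard_image_le (Set.toFinite _)) ?_)
  set w' := g⁻¹ * w * g with hw'
  have w1 : w' ≠ 1 := fun e => h1 (by
    calc w = g * w' * g⁻¹ := by rw [hw']; group
      _ = 1 := by rw [e]; group)
  have w2 : ¬ C.Cj w' := fun e => h2 (by have := C.Cj_conj e g; rwa [hw', show g * (g⁻¹ * w * g) * g⁻¹ = w by group] at this)
  have w3 : ¬ C.IsP w' := fun e => h3 (by have := C.IsP_conj e g; rwa [hw', show g * (g⁻¹ * w * g) * g⁻¹ = w by group] at this)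
  have wz : Commute w' C.z := C.pulled (hg ▸ hu0.2.1.symm)
  have wP : C.IsP (C.z * w') := by
    have := C.IsP_pull hu0.2.2 g
    rwa [← hg, show g⁻¹ * (g * C.z * g⁻¹ * w) * g = C.z * w' by rw [hw']; group] at this
  obtain ⟨b, c, hb, hc, hbc, hne', e⟩ := wP
  obtain ⟨zb, zc⟩ := C.comm_of_prod hne hb hc C.Cj_z hbc hne' (e ▸ (Commute.refl _).mul_right wz.symm)
  have ew : w' = C.z * b * c := by rw [mul_assoc, ← e, ← mul_assoc, C.zz, one_mul]
  have bz : b ≠ C.z := fun h => w2 (by rw [ew, h, C.zz, one_mul]; exact hc)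
  have cz : c ≠ C.z := fun h => w2 (by rw [ew, h, mul_assoc, ← zb.eq, ← mul_assoc, C.zz, one_mul]; exact hb)
  obtain ⟨p, hp, fp⟩ := C.view hne hb zb.symm bz
  obtain ⟨q, hq, fq⟩ := C.view hne hc zc.symm cz
  obtain ⟨h, hh, hA, hA'⟩ := C.pair_to_A hne hb hc zb.symm zc.symm (pts_sing hp) (pts_sing hq) fp.2.2.2 fq.2.2.2
    ((C.fib_comm hne hp hq fp fq).mp hbc)
  have hzz : h * C.z * h⁻¹ = C.z := by rw [hh.eq, mul_inv_cancel_right]
  have ea : h * w' * h⁻¹ = C.z * (h * b * h⁻¹) * (h * c * h⁻¹) := by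
    rw [ew, show h * (C.z * b * c) * h⁻¹ = (h * C.z * h⁻¹) * (h * b * h⁻¹) * (h * c * h⁻¹) by group, hzz]
  have back : ∀ {t : G}, h * t * h⁻¹ = C.z → t = C.z := by
    intro t e'
    have e'' := congrArg (fun y => h⁻¹ * y * h) e'
    rw [show h⁻¹ * (h * t * h⁻¹) * h = t by group, hh.inv_left.eq, inv_mul_cancel_right] at e''
    exact e''
  have hsub' : C.Part w' ⊆ (fun t => h⁻¹ * t * h) '' C.Part (h * w' * h⁻¹) := by
    intro u hu
    refine ⟨h * u * h⁻¹, ⟨?_, (conj_comm_iff h u w').mpr hu.2.1, ?_⟩, by group⟩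
    · have := C.Near_conj hu.1 h; rwa [hzz] at this
    · rw [show h * u * h⁻¹ * (h * w' * h⁻¹) = h * (u * w') * h⁻¹ by group]; exact C.IsP_conj hu.2.2 h
  refine le_trans (Set.ncard_le_ncard hsub' (Set.toFinite _)) (le_trans (Set.ncard_image_le (Set.toFinite _)) ?_)
  rw [ea]
  refine C.incid_A hne ⟨hA, C.Cj_conj hb h⟩ ⟨hA', C.Cj_conj hc h⟩ (fun e' => bz (back e')) (fun e' => cz (back e'))
    (fun e' => hne' (by simpa using e')) ?_ ?_ ?_
  · rw [← ea]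
    intro e'
    refine w1 ?_
    calc w' = h⁻¹ * (h * w' * h⁻¹) * h := by group
      _ = 1 := by rw [e']; group
  · rw [← ea]; exact fun e' => w2 ((C.Cj_conj_iff h).mp e')
  · rw [← ea]
    intro e'
    exact w3 (by simpa [mul_assoc] using C.IsP_conj e' h⁻¹)

end Core

end CfsgLib.U6Rec
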