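/-
The commuting graph of the conjugates is connected: counting products of commuting pairs in other components.
-/
import Cfsg.Agent.Lib.U6Rec.Count

set_option autoImplicit false
set_option maxRecDepth 100000
set_option linter.style.haveILetI false
set_option linter.unusedSectionVars false

namespace CfsgLib.U6Rec

theorem perp_self_count : (ptsL.all fun p => Nat.beq (ptsL.countP fun c => Nat.beq (herm p c) 0) 13) = true := by
  decide +kernel

namespace Core

variable {G : Type*} [Group G] (C : Core G) [Finite G]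

/-- A pair product keeping the component has its pair in the component. -/
theorem P_fix (hne : C.NonIsolated) {a b : G} (ha : C.Cj a) (hb : C.Cj b) (hc : Commute a b) (hab : a ≠ b)
    (h : C.Near C.z (a * b * C.z * (a * b)⁻¹)) : C.Near C.z a := by
  classical
  haveI := Fintype.ofFinite G
  set v := a * b with hv
  have v2 : v * v = 1 := (C.IsP_sq ⟨a, b, ha, hb, hc, hab, rfl⟩).1
  have vi : v⁻¹ = v := inv_eq_of_mul_eq_one_right v2
  have inv : ∀ x, v * (v * x * v⁻¹) * v⁻¹ = x := fun x => by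
    rw [vi, show v * (v * x * v) * v = (v * v) * x * (v * v) by group, v2, one_mul, mul_one]
  let σ : Equiv.Perm ↥{x | C.Near C.z x} :=
    { toFun := fun x => ⟨v * x * v⁻¹, C.Near_trans hne h (C.Near_conj x.2 v)⟩
      invFun := fun x => ⟨v * x * v⁻¹, C.Near_trans hne h (C.Near_conj x.2 v)⟩
      left_inv := fun x => Subtype.ext (inv x)
      right_inv := fun x => Subtype.ext (inv x) }
  haveI : Fact (Nat.Prime 2) := ⟨Nat.prime_two⟩
  obtain ⟨c, hc'⟩ := Equiv.Perm.exists_fixed_point_of_prime (σ := σ) (p := 2) (n := 1)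
    (by rw [← Nat.card_eq_fintype_card, Nat.card_coe_set_eq, C.comp_card hne]; decide)
    (Equiv.ext fun x => by rw [pow_one, pow_two]; exact Subtype.ext (inv x))
  have e : v * c.1 * v⁻¹ = c.1 := congrArg Subtype.val hc'
  have cv : Commute c.1 (a * b) := (mul_inv_eq_iff_eq_mul.mp e).symm
  exact C.Near_step hne c.2 ha (C.comm_of_prod hne ha hb c.2.1 hc hab cv).1

theorem nbrs_card (hne : C.NonIsolated) {a : G} (ha : C.Cj a) :
    ({b | C.Cj b ∧ Commute a b ∧ b ≠ a} : Set G).ncard = 180 := by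
  obtain ⟨g, rfl⟩ := ha
  have e : ({b | C.Cj b ∧ Commute (g * C.z * g⁻¹) b ∧ b ≠ g * C.z * g⁻¹} : Set G) =
      (fun t => g * t * g⁻¹) '' C.overPts (fun _ => true) := by
    ext b
    constructor
    · rintro ⟨hb, hc, hn⟩
      obtain ⟨p, hp, fp⟩ := C.view hne (C.Cj_pull hb g) (C.pulled hc.symm) (fun e => hn (by rw [← e]; group))
      exact ⟨g⁻¹ * b * g, ⟨p, hp, rfl, fp⟩, by group⟩
    · rintro ⟨t, ⟨p, -, -, ft⟩, rfl⟩
      exact ⟨C.Cj_conj ft.1 g, ((conj_comm_iff g t C.z).mpr ft.2.1).symm, fun e => ft.2.2.1 (by simpa using e)⟩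
  rw [e, Set.ncard_image_of_injective _ (fun a b h => by simpa using h), C.over_card hne, List.countP_true, pts_list.2.1]

theorem other_comp_card (hne : C.NonIsolated) {t : G} (ht : C.Cj t) : ({x | C.Near t x} : Set G).ncard = 693 := by
  obtain ⟨g, rfl⟩ := ht
  have e : ({x | C.Near (g * C.z * g⁻¹) x} : Set G) = (fun s => g * s * g⁻¹) '' {x | C.Near C.z x} := by
    ext x
    constructor
    · intro h
      refine ⟨g⁻¹ * x * g, ?_, by group⟩
      have := C.Near_conj h g⁻¹
      rwa [show g⁻¹ * (g * C.z * g⁻¹) * g⁻¹⁻¹ = C.z by group, inv_inv] at this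
    · rintro ⟨s, hs, rfl⟩
      exact C.Near_conj hs g
  rw [e, Set.ncard_image_of_injective _ (fun a b h => by simpa using h), C.comp_card hne]

/-- A pair product outside the component meets the component through a third involution. -/
theorem third (hne : C.NonIsolated) {a b : G} (ha : C.Cj a) (hb : C.Cj b) (hc : Commute a b) (hab : a ≠ b)
    (hfar : ¬ C.Near C.z a) :
    ∃ w, Commute w C.z ∧ C.IsP (C.z * w) ∧ w ≠ 1 ∧ ¬ C.Cj w ∧ ¬ C.IsP w ∧
      ∃ u, C.Cj u ∧ ¬ C.Near C.z u ∧ Commute u w ∧ C.IsP (u * w) ∧ a * b = u * w := by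
  set v := a * b with hv
  have hP : C.IsP v := ⟨a, b, ha, hb, hc, hab, rfl⟩
  have v2 := (C.IsP_sq hP).1
  have vi : v⁻¹ = v := inv_eq_of_mul_eq_one_right v2
  have near_comm : ∀ {t : G}, C.Cj t → Commute C.z t → C.Near C.z t := fun ht h => ⟨ht, C.Cj_z, _, ht, h, Commute.refl _⟩
  have hzv : ¬ Commute C.z v := fun h => hfar (near_comm ha (C.comm_of_prod hne ha hb C.Cj_z hc hab h).1)
  set x := C.z * v with hx
  have par : ∀ i : ℕ, C.Cj (C.z * x ^ (2 * i)) ∧ C.IsP (C.z * x ^ (2 * i + 1)) := by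
    intro i
    induction i with
    | zero =>
      refine ⟨by simpa using C.Cj_z, ?_⟩
      rw [Nat.mul_zero, Nat.zero_add, pow_one, hx, ← mul_assoc, C.zz, one_mul]
      exact hP
    | succ i ih =>
      have step : ∀ n : ℕ, C.z * x ^ (n + 2) = v * C.z * (C.z * x ^ n) * (v * C.z)⁻¹ := by
        intro n
        rw [mul_inv_rev, C.z_inv, vi, pow_succ, pow_succ', ← hx,
          show v * C.z * (C.z * x ^ n) * x = v * (C.z * C.z) * (x ^ n * x) by group, C.zz, mul_one, ← pow_succ,
          show C.z * (x * x ^ n * x) = (C.z * x) * (x ^ n * x) by group, show C.z * x = v by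
            rw [hx, ← mul_assoc, C.zz, one_mul], ← pow_succ]
      exact ⟨by rw [show 2 * (i + 1) = 2 * i + 2 by ring, step]; exact C.Cj_conj ih.1 _,
        by rw [show 2 * (i + 1) + 1 = 2 * i + 1 + 2 by ring, step]; exact C.IsP_conj ih.2 _⟩
  rcases Nat.even_or_odd (orderOf x) with ⟨k, hk⟩ | ⟨k, hk⟩
  swap
  · exfalso
    have := (par k).2
    rw [← hk, pow_orderOf_eq_one, mul_one] at this
    obtain ⟨c, d, hc', hd', hcd, hne', e⟩ := this
    exact C.not_Cj_pair hne hc' hd' hcd hne' (e ▸ C.Cj_z)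
  have hk0 : 0 < k := by have := orderOf_pos x; omega
  set w := x ^ k with hw
  have w2 : w * w = 1 := by rw [hw, ← pow_add, ← hk, pow_orderOf_eq_one]
  have w1 : w ≠ 1 := pow_ne_one_of_lt_orderOf hk0.ne' (by omega)
  have wi : w⁻¹ = w := inv_eq_of_mul_eq_one_right w2
  have zw : Commute C.z w := by
    have h := map_pow (MulAut.conj C.z) x k
    simp only [MulAut.conj_apply] at h
    rw [show C.z * x * C.z⁻¹ = x⁻¹ by rw [hx, mul_inv_rev, C.z_inv, vi, ← mul_assoc, C.zz, one_mul], inv_pow, ← hw, wi] at h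
    exact mul_inv_eq_iff_eq_mul.mp h
  have vw : Commute v w := by
    have : Commute x w := (Commute.refl _).pow_right k
    have e : v = C.z * x := by rw [hx, ← mul_assoc, C.zz, one_mul]
    rw [e]; exact zw.mul_left this
  have fix_contra : C.Near C.z (v * C.z * v⁻¹) → False := fun h => hfar (C.P_fix hne ha hb hc hab h)
  rcases Nat.even_or_odd k with ⟨i, hi⟩ | ⟨i, hi⟩
  · exfalso
    have hxj : C.Cj (C.z * w) := by rw [hw, show k = 2 * i by omega]; exact (par i).1
    have hne' : C.z ≠ C.z * w := fun e => w1 (mul_eq_left.mp e.symm)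
    have hcz : Commute C.z (C.z * w) := (Commute.refl _).mul_right zw
    refine fix_contra ?_
    rcases C.pair_cent hne C.Cj_z hxj hcz hne' (g := v) (by rw [← mul_assoc, C.zz, one_mul]; exact vw) with r | r <;> rw [r]
    · exact C.Near_refl C.Cj_z
    · exact near_comm hxj hcz
  have hzwP : C.IsP (C.z * w) := by rw [hw, show k = 2 * i + 1 by omega]; exact (par i).2
  have hu : C.Cj (v * w) := by
    have e : v * w = C.z * x ^ (k + 1) := by
      rw [pow_succ', ← hw, hx, show C.z * (C.z * v * w) = (C.z * C.z) * (v * w) by group, C.zz, one_mul]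
    rw [e, show k + 1 = 2 * (i + 1) by omega]; exact (par (i + 1)).1
  have wnC : ¬ C.Cj w := fun h =>
    hfar (C.Near_step hne (near_comm h zw) ha (C.comm_of_prod hne ha hb h hc hab vw.symm).1)
  have wnP : ¬ C.IsP w := by
    rintro ⟨c, d, hc', hd', hcd, hne', e⟩
    obtain ⟨zc, zd⟩ := C.comm_of_prod hne hc' hd' C.Cj_z hcd hne' (e ▸ zw)
    refine fix_contra (C.Near_trans hne ?_ (C.Near_conj (C.Near_symm (near_comm hc' zc)) v))
    rcases C.pair_cent hne hc' hd' hcd hne' (g := v) (e ▸ vw) with r | r <;> rw [r]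
    · exact near_comm hc' zc
    · exact near_comm hd' zd
  refine ⟨w, zw.symm, hzwP, w1, wnC, wnP, v * w, hu, fun h => hfar ?_, vw.mul_left (Commute.refl w), ?_, ?_⟩
  · have cuv : Commute (v * w) v := (Commute.refl v).mul_left vw.symm
    exact C.Near_step hne h ha (C.comm_of_prod hne ha hb hu hc hab cuv).1
  · rw [mul_assoc, w2, mul_one]; exact hP
  · rw [mul_assoc, w2, mul_one]

/-- The commuting graph is connected. -/
theorem all_near (hne : C.NonIsolated) {x : G} (hx : C.Cj x) : C.Near C.z x := by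
  classical
  haveI := Fintype.ofFinite G
  by_contra hxn
  set D' := Finset.univ.filter fun t => C.Cj t ∧ ¬ C.Near C.z t with hD'
  have mD : ∀ {t : G}, t ∈ D' ↔ C.Cj t ∧ ¬ C.Near C.z t := fun {t} => by simp [hD']
  -- ordered pairs
  set S := D'.sigma fun a => Finset.univ.filter fun b => C.Cj b ∧ Commute a b ∧ b ≠ a with hS
  have hScard : S.card = D'.card * 180 := by
    rw [hS, Finset.card_sigma, Finset.sum_congr rfl (fun a ha => ?_), Finset.sum_const, smul_eq_mul]
    rw [← C.nbrs_card hne (mD.mp ha).1, Set.ncard_eq_toFinset_card']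
    congr 1; ext b; simp
  set X := S.image fun p => p.1 * p.2 with hX
  have hX2 : D'.card * 180 ≤ 2 * X.card := by
    rw [← hScard]
    refine Finset.card_le_mul_card_image S 2 fun v hv => ?_
    obtain ⟨⟨a, b⟩, hp, rfl⟩ := Finset.mem_image.mp hv
    simp only [hS, Finset.mem_sigma, Finset.mem_filter, Finset.mem_univ, true_and] at hp
    obtain ⟨ha, hb, hc, hba⟩ := hp
    refine le_trans (Finset.card_le_card (t := {⟨a, b⟩, ⟨b, a⟩}) ?_) Finset.card_le_two
    rintro ⟨c, d⟩ hq
    simp only [hS, Finset.mem_filter, Finset.mem_sigma, Finset.mem_univ, true_and] at hq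
    obtain ⟨⟨hc', hd', hcd, hdc⟩, e⟩ := hq
    simp only [Finset.mem_insert, Finset.mem_singleton]
    rcases C.pair_unique hne (mD.mp ha).1 hb hc hba.symm (mD.mp hc').1 hd' hcd e with ⟨rfl, rfl⟩ | ⟨rfl, rfl⟩ <;> simp
  -- the pairs near the involution
  set NZ := (C.overPts fun _ => true).toFinset with hNZ
  set S0 := NZ.sigma fun b => NZ.filter fun c => Commute b c ∧ c ≠ b with hS0
  have hS0card : S0.card ≤ 180 * 51 := by
    rw [hS0, Finset.card_sigma]
    refine (Finset.sum_le_card_nsmul _ _ 51 fun b hb => ?_).trans_eq ?_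
    · obtain ⟨p, hp, -, fb⟩ := Set.mem_toFinset.mp hb
      have hsub : (NZ.filter fun c => Commute b c ∧ c ≠ b) ⊆
          ((C.overPts fun c => Nat.beq (herm p c) 0).toFinset).erase b := by
        intro c hc
        rw [Finset.mem_filter] at hc
        obtain ⟨q, hq, -, fc⟩ := Set.mem_toFinset.mp hc.1
        exact Finset.mem_erase.mpr ⟨hc.2.2, Set.mem_toFinset.mpr
          ⟨q, hq, Nat.beq_eq.mpr ((C.fib_comm hne hp hq fb fc).mp hc.2.1), fc⟩⟩
      refine (Finset.card_le_card hsub).trans (le_of_eq ?_)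
      have hb' : b ∈ (C.overPts fun c => Nat.beq (herm p c) 0).toFinset := Set.mem_toFinset.mpr
        ⟨p, hp, Nat.beq_eq.mpr (by rw [herm_self p (pts_sing hp).1, (pts_sing hp).2.2]), fb⟩
      have t := List.all_eq_true.mp perp_self_count p hp
      rw [Nat.beq_eq] at t
      rw [Finset.card_erase_of_mem hb', ← Set.ncard_eq_toFinset_card', C.over_card hne, t]
    · rw [hNZ, ← Set.ncard_eq_toFinset_card', C.over_card hne, List.countP_true, pts_list.2.1, smul_eq_mul]
  set W0 := S0.image fun p => C.z * (p.1 * p.2) with hW0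
  have hW0card : 2 * W0.card ≤ 180 * 51 := by
    refine le_trans (Finset.mul_card_image_le_card S0 2 fun w hw => ?_) hS0card
    obtain ⟨⟨b, c⟩, hp, rfl⟩ := Finset.mem_image.mp hw
    simp only [hS0, Finset.mem_sigma, Finset.mem_filter] at hp
    obtain ⟨hb, hc, hbc, hne'⟩ := hp
    rw [Nat.succ_le_iff, Finset.one_lt_card]
    refine ⟨⟨b, c⟩, ?_, ⟨c, b⟩, ?_, fun e => hne' (congrArg Sigma.fst e).symm⟩
    · simp only [hS0, Finset.mem_filter, Finset.mem_sigma]; exact ⟨⟨hb, hc, hbc, hne'⟩, trivial⟩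
    · simp only [hS0, Finset.mem_filter, Finset.mem_sigma]; exact ⟨⟨hc, hb, hbc.symm, hne'.symm⟩, by rw [hbc.eq]⟩
  set W := W0.filter fun w => w ≠ 1 ∧ ¬ C.Cj w ∧ ¬ C.IsP w with hW
  set T : G → Finset G := fun w => D'.filter fun u => Commute u w ∧ C.IsP (u * w) with hT
  have hsub : X ⊆ W.biUnion fun w => (T w).image fun u => u * w := by
    intro v hv
    obtain ⟨⟨a, b⟩, hp, rfl⟩ := Finset.mem_image.mp hv
    simp only [hS, Finset.mem_sigma, Finset.mem_filter, Finset.mem_univ, true_and] at hp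
    obtain ⟨ha, hb, hc, hba⟩ := hp
    obtain ⟨w, wz, wP, w1, w2, w3, u, hu, hun, huw, huP, e⟩ := C.third hne (mD.mp ha).1 hb hc hba.symm (mD.mp ha).2
    refine Finset.mem_biUnion.mpr ⟨w, Finset.mem_filter.mpr ⟨?_, w1, w2, w3⟩, Finset.mem_image.mpr
      ⟨u, Finset.mem_filter.mpr ⟨mD.mpr ⟨hu, hun⟩, huw, huP⟩, e.symm⟩⟩
    obtain ⟨c, d, hc', hd', hcd, hne', e'⟩ := wP
    obtain ⟨zc, zd⟩ := C.comm_of_prod hne hc' hd' C.Cj_z hcd hne' (e' ▸ (Commute.refl _).mul_right wz.symm)
    have ew : w = C.z * (c * d) := by rw [← e', ← mul_assoc, C.zz, one_mul]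
    have nzc : c ≠ C.z := fun h => w2 (by rw [ew, h, ← mul_assoc, C.zz, one_mul]; exact hd')
    have nzd : d ≠ C.z := fun h => w2 (by rw [ew, hcd.eq, h, ← mul_assoc, C.zz, one_mul]; exact hc')
    have inNZ : ∀ {t : G}, C.Cj t → Commute C.z t → t ≠ C.z → t ∈ NZ := fun {t} ht h hn => by
      obtain ⟨p, hp, fp⟩ := C.view hne ht h.symm hn
      exact Set.mem_toFinset.mpr ⟨p, hp, rfl, fp⟩
    exact Finset.mem_image.mpr ⟨⟨c, d⟩, Finset.mem_sigma.mpr
      ⟨inNZ hc' zc nzc, Finset.mem_filter.mpr ⟨inNZ hd' zd nzd, hcd, hne'.symm⟩⟩, ew.symm⟩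
  have hT12 : ∀ w ∈ W, 693 * (T w).card ≤ 12 * D'.card := by
    intro w hw
    obtain ⟨-, w1, w2, w3⟩ := Finset.mem_filter.mp hw
    have key := Finset.sum_card_bipartiteAbove_eq_sum_card_bipartiteBelow (r := C.Near) (s := T w) (t := D')
    have lhs : ∀ u ∈ T w, (Finset.bipartiteAbove C.Near D' u).card = 693 := by
      intro u hu
      have hu' := mD.mp (Finset.mem_filter.mp hu).1
      rw [← C.other_comp_card hne hu'.1, Set.ncard_eq_toFinset_card']
      congr 1
      ext y
      simp only [Finset.bipartiteAbove, Finset.mem_filter, mD, Set.mem_toFinset]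
      exact ⟨fun h => h.2, fun h => ⟨⟨h.1, fun h' => hu'.2 (C.Near_trans hne h' (C.Near_symm h))⟩, h⟩⟩
    have rhs : ∀ y ∈ D', (Finset.bipartiteBelow C.Near (T w) y).card ≤ 12 := by
      intro y hy
      obtain ⟨⟨g, hg⟩, -⟩ := mD.mp hy
      have e1 : g * (g⁻¹ * w * g) * g⁻¹ = w := by group
      refine le_trans ?_ (C.incid hne (w := g⁻¹ * w * g) (fun e => w1 (by rw [← e1, e]; group))
        (fun e => w2 (e1 ▸ C.Cj_conj e g)) (fun e => w3 (e1 ▸ C.IsP_conj e g)))
      rw [Set.ncard_eq_toFinset_card', ← Finset.card_image_of_injective _ (f := fun t => g⁻¹ * t * g)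
        (fun a b h => by simpa using h)]
      refine Finset.card_le_card fun t ht => ?_
      obtain ⟨u, hu, rfl⟩ := Finset.mem_image.mp ht
      obtain ⟨hu, hn⟩ := Finset.mem_filter.mp hu
      obtain ⟨-, huw, huP⟩ := Finset.mem_filter.mp hu
      refine Set.mem_toFinset.mpr ⟨?_, (pull_comm_iff g u w).mpr huw, ?_⟩
      · have := C.Near_conj (C.Near_symm hn) g⁻¹
        rwa [← hg, show g⁻¹ * (g * C.z * g⁻¹) * g⁻¹⁻¹ = C.z by group, inv_inv] at this
      · rw [show g⁻¹ * u * g * (g⁻¹ * w * g) = g⁻¹ * (u * w) * g by group]; exact C.IsP_pull huP g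
    rw [Finset.sum_congr rfl lhs, Finset.sum_const, smul_eq_mul] at key
    have := Finset.sum_le_card_nsmul _ _ 12 rhs
    rw [smul_eq_mul] at this
    linarith
  have hXle : 693 * X.card ≤ W.card * (12 * D'.card) := by
    refine le_trans (Nat.mul_le_mul_left 693 ((Finset.card_le_card hsub).trans Finset.card_biUnion_le)) ?_
    rw [Finset.mul_sum]
    exact (Finset.sum_le_card_nsmul _ _ _ fun w hw =>
      (Nat.mul_le_mul_left 693 Finset.card_image_le).trans (hT12 w hw)).trans_eq (smul_eq_mul _ _)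
  have hd : 0 < D'.card := Finset.card_pos.mpr ⟨x, mD.mpr ⟨hx, hxn⟩⟩
  have hWle : W.card ≤ W0.card := Finset.card_filter_le _ _
  nlinarith

theorem M_top (hne : C.NonIsolated) : C.M hne = ⊤ :=
  (Subgroup.eq_top_iff' _).mpr fun g => C.mem_M.mpr (C.all_near hne (C.Cj_conj C.Cj_z g))

theorem card_G (hne : C.NonIsolated) : Nat.card G = 9196830720 := by
  rw [← Subgroup.card_top, ← C.M_top hne, C.card_M hne]

/-- The conjugates form a class of three-transpositions. -/
theorem three_transp (hne : C.NonIsolated) {u y : G} (hu : C.Cj u) (hy : C.Cj y) (hc : ¬ Commute u y) :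
    orderOf (u * y) = 3 := by
  obtain ⟨g, rfl⟩ := hu
  have hy' : g⁻¹ * y * g ∈ C.D2 := by
    rcases (C.Near_split hne _).mp (C.all_near hne (C.Cj_pull hy g)) with h | ⟨p, -, -, fp⟩ | h
    · exact absurd (by rw [show y = g * C.z * g⁻¹ by rw [← h]; group]) hc
    · refine absurd ?_ hc
      have := (C.pushed (g := g) fp.2.1).symm
      rwa [show g * (g⁻¹ * y * g) * g⁻¹ = y by group] at this
    · exact h
  rw [← C.order_three hne hy']
  have e : g * C.z * g⁻¹ * y = g * (C.z * (g⁻¹ * y * g)) * g⁻¹ := by group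
  rw [e]
  exact MulEquiv.orderOf_eq (MulAut.conj g) _

end Core

end CfsgLib.U6Rec
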