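/-
The recognition: the group is the projective special unitary group of dimension six over four elements.
-/
import Cfsg.Agent.Lib.U6Rec.Connected
import Cfsg.Agent.Lib.ThreeTrans.Polar.Finish
import Cfsg.Agent.Lib.SUShort.Counts
import Cfsg.Agent.S0280

set_option autoImplicit false
set_option maxRecDepth 100000
set_option linter.style.haveILetI false
set_option linter.unusedSectionVars false

namespace CfsgLib.U6Rec

open Cfsg

theorem sing_span : ((List.range 256).all fun v => Nat.beq v 0 || singL.elem v ||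
    singL.any fun a => singL.elem (v ^^^ a)) = true := by decide +kernel

theorem sing_hit : (singL.all fun a => (List.range 256).any fun w => Nat.beq (herm w a) 1) = true := by decide +kernel

theorem polar_some : ((List.range 256).all fun u => Nat.beq u 0 ||
    (List.range 8).any fun i => Nat.beq (polar u (1 <<< i)) 1) = true := by decide +kernel

theorem evalW_form : ∀ w : List ℕ, comp (evalW w) one = evalW w
  | [] => one_one
  | k :: w => by rw [evalW, comp_assoc, evalW_form w]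

theorem smul4_unit {a : ℕ} (ha : a < 256) : smul4 1 a = a := (smul4_one a ha).1

namespace Core

variable {G : Type*} [Group G] (C : Core G) [Finite G]

/-- The class. -/
def cls : Set G := {x | C.Cj x}

/-- The subgroup generated by the partners of the involution. -/
def K0 : Subgroup G := Subgroup.closure {y | y ∈ C.cls ∧ y ≠ C.z ∧ Commute C.z y}

theorem K0_le_H : C.K0 ≤ C.H :=
  (Subgroup.closure_le _).mpr fun _ hy => C.mem_H.mpr hy.2.2.symm

theorem K0_fib {p : ℕ} {x : G} (hx : x ∈ C.fib p) : x ∈ C.K0 :=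
  Subgroup.subset_closure ⟨hx.1, hx.2.2.1, hx.2.1.symm⟩

theorem K0_κ (hne : C.NonIsolated) {v : ℕ} (hv : v < 256) : ∃ k ∈ C.K0, k ∈ C.J ∧ C.κ k = v := by
  have sing : ∀ {a : ℕ}, a ∈ singL → ∃ k ∈ C.K0, k ∈ C.J ∧ C.κ k = a := by
    intro a ha
    have hs : Sing a := sing_iff.mpr ha
    obtain ⟨w, hw, e⟩ := List.any_eq_true.mp (List.all_eq_true.mp sing_hit a ha)
    obtain ⟨j, hj, rfl⟩ := C.κ_surj w (List.mem_range.mp hw)
    obtain ⟨x, hx, cx, hxz, ex⟩ := C.point_exists hne hs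
    have jz := C.Jz j hj
    have xin : x ∈ C.K0 := Subgroup.subset_closure ⟨hx, hxz, cx.symm⟩
    have jxin : j * x * j⁻¹ ∈ C.K0 := by
      refine Subgroup.subset_closure ⟨C.Cj_conj hx j, fun h => hxz ?_, ((jz.mul_left cx).mul_left jz.inv_left).symm⟩
      have h' := congrArg (fun t => j⁻¹ * t * j) h
      rw [show j⁻¹ * (j * x * j⁻¹) * j = x by group, jz.inv_left.eq, inv_mul_cancel_right] at h'
      exact h'
    have hxj := C.conjJ x cx j hj
    refine ⟨x * j * x⁻¹ * j⁻¹, ?_, mul_mem hxj (inv_mem hj), ?_⟩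
    · rw [show x * j * x⁻¹ * j⁻¹ = x * (j * x * j⁻¹)⁻¹ by group]
      exact mul_mem xin (inv_mem jxin)
    · rw [C.κ_mul _ hxj _ (inv_mem hj), C.κ_inv hj, C.κ_conj x cx j hj, ex, Nat.xor_comm, tv_move a (C.κ_lt j hj),
        Nat.beq_eq.mp e, smul4_unit hs.1]
  have t := List.all_eq_true.mp sing_span v (List.mem_range.mpr hv)
  rw [Bool.or_eq_true, Bool.or_eq_true, Nat.beq_eq] at t
  rcases t with (rfl | t) | t
  · exact ⟨1, one_mem _, one_mem _, C.κ_one⟩
  · exact sing (List.mem_of_elem_eq_true t)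
  · obtain ⟨a, ha, h⟩ := List.any_eq_true.mp t
    obtain ⟨k, k1, k2, k3⟩ := sing ha
    obtain ⟨l, l1, l2, l3⟩ := sing (List.mem_of_elem_eq_true h)
    exact ⟨l * k, mul_mem l1 k1, mul_mem l2 k2, by rw [C.κ_mul l l2 k k2, l3, k3, Nat.xor_assoc, Nat.xor_self, Nat.xor_zero]⟩

theorem polar_witness {u : ℕ} (hu : u < 256) (h0 : u ≠ 0) : ∃ v < 256, polar u v = 1 := by
  have t := List.all_eq_true.mp polar_some u (List.mem_range.mpr hu)
  rw [Bool.or_eq_true, Nat.beq_eq] at t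
  obtain ⟨i, hi, e⟩ := List.any_eq_true.mp (t.resolve_left h0)
  exact ⟨_, byte_one_lt i (List.mem_range.mp hi), Nat.beq_eq.mp e⟩

theorem z_comm {a b : G} (ha : a ∈ C.J) (hb : b ∈ C.J) (h : polar (C.κ a) (C.κ b) = 1) :
    a * b * a⁻¹ * b⁻¹ = C.z := by
  rw [C.swap ha hb, h, show C.zp 1 = C.z from rfl]; group

theorem z_mem_K0 (hne : C.NonIsolated) : C.z ∈ C.K0 := by
  obtain ⟨v, hv, e⟩ := polar_witness (show 1 < 256 by norm_num) one_ne_zero
  obtain ⟨a, a1, a2, a3⟩ := C.K0_κ hne (show 1 < 256 by norm_num)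
  obtain ⟨b, b1, b2, b3⟩ := C.K0_κ hne hv
  rw [← C.z_comm a2 b2 (by rw [a3, b3]; exact e)]
  exact mul_mem (mul_mem (mul_mem a1 b1) (inv_mem a1)) (inv_mem b1)

theorem J_le_K0 (hne : C.NonIsolated) : C.J ≤ C.K0 := by
  intro j hj
  obtain ⟨k, k1, k2, k3⟩ := C.K0_κ hne (C.κ_lt j hj)
  rcases (C.κ_eq hj k2).mp k3.symm with rfl | rfl
  · exact k1
  · exact mul_mem k1 (C.z_mem_K0 hne)

theorem H_le_K0 (hne : C.NonIsolated) : C.H ≤ C.K0 := by
  have word : ∀ w : List ℕ, (∀ k ∈ w, k < 5) → ∃ g ∈ C.K0, C.ρ g = evalW w := by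
    intro w
    induction w with
    | nil => exact fun _ => ⟨1, one_mem _, C.ρ_one⟩
    | cons k w ih =>
      intro hk
      obtain ⟨g, hg, eg⟩ := ih fun m hm => hk m (List.mem_cons_of_mem _ hm)
      obtain ⟨p, hp, hpk⟩ := List.mem_map.mp (List.contains_iff_mem.mp
        (List.all_eq_true.mp gen_transv k (List.mem_range.mpr (hk k List.mem_cons_self))))
      obtain ⟨x, hx, cx, hxz, ex⟩ := C.point_exists hne (pts_sing hp)
      have xin : x ∈ C.K0 := Subgroup.subset_closure ⟨hx, hxz, cx.symm⟩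
      refine ⟨x * g, mul_mem xin hg, ?_⟩
      rw [C.ρ_mul cx (C.mem_H.mp (C.K0_le_H hg)), eg, ex, hpk]
      rfl
  intro h hh
  obtain ⟨i, j, hi, hj, e⟩ := C.ρ_mem h (C.mem_H.mp hh)
  have r := List.all_eq_true.mp words_rep i (List.mem_range.mpr hi)
  have s := List.all_eq_true.mp words_st j (List.mem_range.mpr hj)
  rw [Bool.and_eq_true, Nat.beq_eq, List.all_eq_true] at r s
  obtain ⟨a, a1, a2⟩ := word _ fun k hk => of_decide_eq_true (r.2 k hk)
  obtain ⟨b, b1, b2⟩ := word _ fun k hk => of_decide_eq_true (s.2 k hk)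
  have hab : C.ρ (a * b) = C.ρ h := by
    rw [C.ρ_mul (C.mem_H.mp (C.K0_le_H a1)) (C.mem_H.mp (C.K0_le_H b1)), a2, b2, r.1, s.1, e]; rfl
  have := C.J_le_K0 hne ((C.ρ_eq_iff (C.mem_H.mp (C.K0_le_H (mul_mem a1 b1))) (C.mem_H.mp hh)).mp hab)
  have hm := mul_mem (mul_mem a1 b1) this
  rwa [mul_inv_cancel_left] at hm

theorem closure_cls (hne : C.NonIsolated) : Subgroup.closure C.cls = ⊤ := by
  set N := Subgroup.closure C.cls with hN
  have inN : ∀ {t : G}, C.Cj t → t ∈ N := fun ht => Subgroup.subset_closure ht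
  have HN : C.H ≤ N := (C.H_le_K0 hne).trans (Subgroup.closure_mono fun y hy => hy.1)
  -- noncommuting neighbours are conjugate in the subgroup
  have step : ∀ {u y : G}, C.Cj u → C.Cj y → ¬ Commute u y → ∃ n ∈ N, n * u * n⁻¹ = y := by
    intro u y hu hy hc
    refine ⟨u * y, mul_mem (inN hu) (inN hy), ?_⟩
    have ui : u⁻¹ = u := inv_eq_of_mul_eq_one_right (C.Cj_sq hu)
    have yi : y⁻¹ = y := inv_eq_of_mul_eq_one_right (C.Cj_sq hy)
    have h3 : (u * y) * ((u * y) * (u * y)) = 1 := by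
      rw [← pow_two, ← pow_succ', show 2 + 1 = orderOf (u * y) from (C.three_transp hne hu hy hc).symm, pow_orderOf_eq_one]
    rw [mul_inv_rev, ui, yi]
    calc u * y * u * (y * u) = ((u * y) * ((u * y) * (u * y))) * y := by
          rw [show u * y * ((u * y) * (u * y)) * y = u * y * u * y * u * (y * y) by group, C.Cj_sq hy, mul_one]
          group
      _ = y := by rw [h3, one_mul]
  rw [eq_top_iff]
  intro g _
  obtain ⟨n, hn, e⟩ : ∃ n ∈ N, n * C.z * n⁻¹ = g * C.z * g⁻¹ := by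
    have hx := C.Cj_conj C.Cj_z g
    by_cases hc : Commute C.z (g * C.z * g⁻¹)
    · by_cases hxz : g * C.z * g⁻¹ = C.z
      · exact ⟨1, one_mem _, by rw [hxz]; group⟩
      obtain ⟨p, hp, fp⟩ := C.view hne hx hc.symm hxz
      obtain ⟨y, hy⟩ := C.D2_nonempty hne
      by_cases hxy : Commute (g * C.z * g⁻¹) y
      · -- translate the far element so that it commutes with neither
        obtain ⟨w, hw, e⟩ := List.any_eq_true.mp (List.all_eq_true.mp sing_hit p (sing_iff.mp (pts_sing hp)))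
        obtain ⟨j, hj, rfl⟩ := C.κ_surj w (List.mem_range.mp hw)
        have hy' : j * y * j⁻¹ ∈ C.D2 := C.D2_conj hy (C.Jz j hj)
        have hn : ¬ Commute (g * C.z * g⁻¹) (j * y * j⁻¹) := by
          intro h
          set x := g * C.z * g⁻¹ with hx'
          have jz := C.Jz j hj
          have h' : Commute (j⁻¹ * x * j) y := by
            have := (pull_comm_iff j x (j * y * j⁻¹)).mpr h
            rwa [show j⁻¹ * (j * y * j⁻¹) * j = y by group] at this
          have cz' : Commute (j⁻¹ * x * j) C.z := (jz.inv_left.mul_left hc.symm).mul_left jz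
          have hne2 : j⁻¹ * x * j ≠ C.z := fun e' => hxz (by
            calc x = j * (j⁻¹ * x * j) * j⁻¹ := by group
              _ = C.z := by rw [e', jz.eq, mul_inv_cancel_right])
          have hρ : C.ρ (j⁻¹ * x * j) = C.ρ x := by
            rw [C.ρ_mul (jz.inv_left.mul_left hc.symm) jz, C.ρ_mul jz.inv_left hc.symm, C.ρ_J hj, C.ρ_J (inv_mem hj),
              comp_assoc, (C.ρ_mem x hc.symm).form, ← (C.ρ_mem x hc.symm).form, one_comp]
          have heq := C.CN_inj hne hy.1 hy.2.1 ⟨C.Cj_pull hx j, cz', hne2, h'⟩ ⟨hx, hc.symm, hxz, hxy⟩ hρ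
          have cjx : x * j * x⁻¹ = j := by
            calc x * j * x⁻¹ = j * (j⁻¹ * x * j) * x⁻¹ := by group
              _ = j := by rw [heq, mul_inv_cancel_right]
          have := C.κ_conj x hc.symm j hj
          rw [cjx, fp.2.2.2] at this
          have h0 := (tv_fix (pts_sing hp).1 (pts_sing hp).2.1 (C.κ_lt j hj)).mp this.symm
          rw [h0, Nat.beq_eq] at e
          exact absurd e (by norm_num)
        obtain ⟨n1, h1, e1⟩ := step C.Cj_z hy'.1 (fun h => hy'.2.1 h.symm)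
        obtain ⟨n2, h2, e2⟩ := step hy'.1 hx fun h => hn h.symm
        exact ⟨n2 * n1, mul_mem h2 h1, by
          rw [show n2 * n1 * C.z * (n2 * n1)⁻¹ = n2 * (n1 * C.z * n1⁻¹) * n2⁻¹ by group, e1, e2]⟩
      · obtain ⟨n1, h1, e1⟩ := step C.Cj_z hy.1 (fun h => hy.2.1 h.symm)
        obtain ⟨n2, h2, e2⟩ := step hy.1 hx fun h => hxy h.symm
        exact ⟨n2 * n1, mul_mem h2 h1, by
          rw [show n2 * n1 * C.z * (n2 * n1)⁻¹ = n2 * (n1 * C.z * n1⁻¹) * n2⁻¹ by group, e1, e2]⟩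
    · exact step C.Cj_z hx hc
  have hh : Commute (n⁻¹ * g) C.z := by
    show n⁻¹ * g * C.z = C.z * (n⁻¹ * g)
    calc n⁻¹ * g * C.z = n⁻¹ * (g * C.z * g⁻¹) * g := by group
      _ = _ := by rw [← e]; group
  simpa using mul_mem hn (HN (C.mem_H.mpr hh))

theorem is_class (hne : C.NonIsolated) : IsThreeTranspositionClass C.cls := by
  refine ⟨⟨fun d hd => ?_, fun d hd e he => ?_⟩, ⟨C.z, C.Cj_z, Set.ext fun x => ?_⟩, C.closure_cls hne⟩
  · exact orderOf_eq_prime (by rw [pow_two]; exact C.Cj_sq hd) (C.Cj_ne_one hd)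
  · by_cases hc : Commute d e
    · left
      rw [hc.mul_pow, pow_two, pow_two, C.Cj_sq hd, C.Cj_sq he, one_mul]
    · right
      rw [← C.three_transp hne hd he hc, pow_orderOf_eq_one]
  · constructor
    · rintro ⟨g, hg⟩
      exact isConj_iff.mpr ⟨g, hg⟩
    · intro h
      obtain ⟨g, hg⟩ := isConj_iff.mp h
      exact ⟨g, hg⟩

theorem center_bot (hne : C.NonIsolated) : Subgroup.center G = ⊥ := by
  rw [eq_bot_iff]
  intro c hc
  rw [Subgroup.mem_center_iff] at hc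
  have cz : Commute c C.z := (hc C.z).symm
  have cJ : c ∈ C.J := C.cent c cz fun j _ => (hc j).symm
  have h0 : C.κ c = 0 := by
    by_contra h
    obtain ⟨v, hv, e⟩ := polar_witness (C.κ_lt c cJ) h
    obtain ⟨j, hj, rfl⟩ := C.κ_surj v hv
    have := (C.comm_iff cJ hj).mp (hc j).symm
    omega
  rcases (C.κ_ker c cJ).mp h0 with h | h
  · exact Subgroup.mem_bot.mpr h
  · exfalso
    obtain ⟨g, -, hn⟩ := hne
    exact hn (by rw [← h, hc g, mul_inv_cancel_right])

theorem z_mem_of_J {N : Subgroup G} [hN : N.Normal] {a : G} (ha : a ∈ C.J) (haN : a ∈ N) (h1 : a ≠ 1) : C.z ∈ N := by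
  by_cases h0 : C.κ a = 0
  · rcases (C.κ_ker a ha).mp h0 with h | h
    · exact absurd h h1
    · exact h ▸ haN
  obtain ⟨v, hv, e⟩ := polar_witness (C.κ_lt a ha) h0
  obtain ⟨b, hb, rfl⟩ := C.κ_surj v hv
  rw [← C.z_comm ha hb e, show a * b * a⁻¹ * b⁻¹ = a * (b * a⁻¹ * b⁻¹) by group]
  exact mul_mem haN (hN.conj_mem _ (inv_mem haN) b)

theorem z_mem_normal {N : Subgroup G} [hN : N.Normal] {c : G} (hc : c ∈ N) (cz : Commute c C.z) (h1 : c ≠ 1) : C.z ∈ N := by
  by_cases hJ : ∀ j ∈ C.J, Commute c j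
  · exact C.z_mem_of_J (C.cent c cz hJ) hc h1
  push Not at hJ
  obtain ⟨j, hj, hn⟩ := hJ
  refine C.z_mem_of_J (mul_mem (C.conjJ c cz j hj) (inv_mem hj)) ?_ fun e => hn (mul_inv_eq_iff_eq_mul.mp (mul_inv_eq_one.mp e))
  rw [show c * j * c⁻¹ * j⁻¹ = c * (j * c⁻¹ * j⁻¹) by group]
  exact mul_mem hc (hN.conj_mem _ (inv_mem hc) j)

theorem not_two_group (hne : C.NonIsolated) : ¬ IsPGroup 2 G := by
  intro h
  haveI : Fact (Nat.Prime 2) := ⟨Nat.prime_two⟩
  obtain ⟨k, hk⟩ := IsPGroup.iff_card.mp h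
  rw [C.card_G hne] at hk
  have h7 : 7 ∣ 2 ^ k := ⟨1313832960, by rw [← hk]⟩
  have := (Nat.prime_dvd_prime_iff_eq (by norm_num) Nat.prime_two).mp ((by norm_num : Nat.Prime 7).dvd_of_dvd_pow h7)
  norm_num at this

theorem core_two (hne : C.NonIsolated) : pCore 2 G = ⊥ := by
  classical
  by_contra h
  haveI : Fintype G := Fintype.ofFinite G
  haveI : Fact (Nat.Prime 2) := ⟨Nat.prime_two⟩
  set N := pCore 2 G with hN
  have hp : IsPGroup 2 N := CfsgLib.isPGroup_pCore 2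
  have zz := C.zz
  let σ : Equiv.Perm ↥N :=
    { toFun := fun x => ⟨C.z * x * C.z⁻¹, Subgroup.Normal.conj_mem inferInstance _ x.2 _⟩
      invFun := fun x => ⟨C.z * x * C.z⁻¹, Subgroup.Normal.conj_mem inferInstance _ x.2 _⟩
      left_inv := fun x => Subtype.ext (by
        show C.z * (C.z * x * C.z⁻¹) * C.z⁻¹ = x
        rw [C.z_inv, show C.z * (C.z * x * C.z) * C.z = (C.z * C.z) * x * (C.z * C.z) by group, zz, one_mul, mul_one])
      right_inv := fun x => Subtype.ext (by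
        show C.z * (C.z * x * C.z⁻¹) * C.z⁻¹ = x
        rw [C.z_inv, show C.z * (C.z * x * C.z) * C.z = (C.z * C.z) * x * (C.z * C.z) by group, zz, one_mul, mul_one]) }
  have hdiv : 2 ∣ Fintype.card ↥N := by
    obtain ⟨k, hk⟩ := IsPGroup.iff_card.mp hp
    rw [← Nat.card_eq_fintype_card, hk]
    refine dvd_pow_self 2 fun k0 => h ?_
    rw [k0, pow_zero] at hk
    exact Subgroup.card_eq_one.mp hk
  obtain ⟨c, hc, hc1⟩ := Equiv.Perm.exists_fixed_point_of_prime' (p := 2) (n := 1) hdiv (σ := σ)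
    (Equiv.ext fun x => by rw [pow_one, pow_two]; exact σ.left_inv x) (a := 1) (Subtype.ext (by
      show C.z * 1 * C.z⁻¹ = 1
      rw [mul_one, mul_inv_cancel]))
  have hc' : C.z * c * C.z⁻¹ = c := congrArg Subtype.val hc
  have hzN := C.z_mem_normal c.2 (mul_inv_eq_iff_eq_mul.mp hc').symm fun e => hc1 (Subtype.ext e)
  have htop : (⊤ : Subgroup G) ≤ N := by
    rw [← C.closure_cls hne, Subgroup.closure_le]
    rintro x ⟨g, rfl⟩
    exact Subgroup.Normal.conj_mem inferInstance _ hzN g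
  exact C.not_two_group hne fun x => by
    obtain ⟨k, hk⟩ := hp ⟨x, htop (Subgroup.mem_top x)⟩
    exact ⟨k, congrArg Subtype.val hk⟩

theorem core_three (hne : C.NonIsolated) : pCore 3 G = ⊥ := by
  classical
  haveI : Fact (Nat.Prime 3) := ⟨Nat.prime_three⟩
  set N := pCore 3 G with hN
  have hp : IsPGroup 3 N := CfsgLib.isPGroup_pCore 3
  have hz : C.z ∉ N := by
    intro h
    obtain ⟨k, hk⟩ := hp ⟨C.z, h⟩
    have h2 := orderOf_dvd_of_pow_eq_one (congrArg Subtype.val hk : C.z ^ 3 ^ k = 1)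
    rw [C.hz] at h2
    exact absurd ((Nat.prime_dvd_prime_iff_eq Nat.prime_two Nat.prime_three).mp (Nat.prime_two.dvd_of_dvd_pow h2)) (by norm_num)
  have free : ∀ {c : G}, c ∈ N → Commute c C.z → c = 1 := fun {c} hc cz => by
    by_contra h1; exact hz (C.z_mem_normal hc cz h1)
  have invz : ∀ r ∈ N, C.z * r * C.z⁻¹ = r⁻¹ := by
    let f : ↥N → ↥N := fun n => ⟨(n : G)⁻¹ * (C.z * n * C.z⁻¹), mul_mem (inv_mem n.2) (Subgroup.Normal.conj_mem inferInstance _ n.2 _)⟩
    have finj : Function.Injective f := by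
      intro n m e
      have e' : (n : G)⁻¹ * (C.z * n * C.z⁻¹) = (m : G)⁻¹ * (C.z * m * C.z⁻¹) := congrArg Subtype.val e
      have hc : Commute ((m : G) * (n : G)⁻¹) C.z := by
        show (m : G) * (n : G)⁻¹ * C.z = C.z * ((m : G) * (n : G)⁻¹)
        calc (m : G) * (n : G)⁻¹ * C.z = (m : G) * ((n : G)⁻¹ * (C.z * n * C.z⁻¹)) * C.z * (n : G)⁻¹ := by group
          _ = _ := by rw [e']; group
      exact Subtype.ext (mul_inv_eq_one.mp (free (mul_mem m.2 (inv_mem n.2)) hc)).symm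
    intro r hr
    obtain ⟨n, hn⟩ := (Finite.injective_iff_surjective.mp finj) ⟨r, hr⟩
    have hn' : (n : G)⁻¹ * (C.z * n * C.z⁻¹) = r := congrArg Subtype.val hn
    rw [← hn', C.z_inv]
    calc C.z * ((n : G)⁻¹ * (C.z * n * C.z)) * C.z = C.z * (n : G)⁻¹ * C.z * n * (C.z * C.z) := by group
      _ = _ := by rw [C.zz, mul_one]; simp only [mul_inv_rev, inv_inv, C.z_inv]; group
  obtain ⟨x, hx⟩ := Set.nonempty_of_ncard_ne_zero (by rw [C.fib_card hne one_pts]; norm_num : (C.fib 1).ncard ≠ 0)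
  obtain ⟨hxC, cx, -, ex⟩ := hx
  have invc : ∀ {u : G}, C.Cj u → ∀ r ∈ N, u * r * u⁻¹ = r⁻¹ := by
    rintro u ⟨g, rfl⟩ r hr
    have := invz _ (Subgroup.Normal.conj_mem inferInstance _ hr g⁻¹)
    calc g * C.z * g⁻¹ * r * (g * C.z * g⁻¹)⁻¹ = g * (C.z * (g⁻¹ * r * g⁻¹⁻¹) * C.z⁻¹) * g⁻¹ := by group
      _ = _ := by rw [this]; group
  obtain ⟨v, hv, ev⟩ := herm_hit 1 (by norm_num)
  obtain ⟨j, hj, rfl⟩ := C.κ_surj v hv
  set a := x * j * x⁻¹ * j⁻¹ with ha
  have haJ : a ∈ C.J := mul_mem (C.conjJ x cx j hj) (inv_mem hj)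
  have haκ : C.κ a = 1 := by
    rw [ha, C.κ_mul _ (C.conjJ x cx j hj) _ (inv_mem hj), C.κ_inv hj, C.κ_conj x cx j hj, ex, Nat.xor_comm,
      tv_move 1 (C.κ_lt j hj), ev]
    exact smul_one_point 1 (by norm_num)
  haveI : N.Normal := inferInstance
  have haN : a ∈ Subgroup.centralizer (N : Set G) := by
    rw [Subgroup.mem_centralizer_iff]
    intro r hr
    have e : a * r * a⁻¹ = r := by
      rw [ha, show x * j * x⁻¹ * j⁻¹ = x * (j * x * j⁻¹)⁻¹ by group,
        inv_eq_of_mul_eq_one_right (C.Cj_sq (C.Cj_conj hxC j))]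
      calc x * (j * x * j⁻¹) * r * (x * (j * x * j⁻¹))⁻¹ = x * ((j * x * j⁻¹) * r * (j * x * j⁻¹)⁻¹) * x⁻¹ := by group
        _ = r := by rw [invc (C.Cj_conj hxC j) r hr, invc hxC _ (inv_mem hr), inv_inv]
    exact (mul_inv_eq_iff_eq_mul.mp e).symm
  have hzC := C.z_mem_of_J haJ haN (fun e => by rw [e, C.κ_one] at haκ; exact zero_ne_one haκ)
  rw [eq_bot_iff]
  exact fun r hr => Subgroup.mem_bot.mpr (free hr (Subgroup.mem_centralizer_iff.mp hzC r hr))

theorem connected (hne : C.NonIsolated) : (commutingGraph C.cls).Connected := by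
  have adj : ∀ a b : ↥C.cls, Commute (a : G) b → (commutingGraph C.cls).Reachable a b := by
    intro a b h
    by_cases hab : a = b
    · rw [hab]
    · exact SimpleGraph.Adj.reachable ⟨hab, Or.inl h⟩
  haveI : Nonempty ↥C.cls := ⟨⟨C.z, C.Cj_z⟩⟩
  have toz : ∀ b : ↥C.cls, (commutingGraph C.cls).Reachable ⟨C.z, C.Cj_z⟩ b := by
    intro b
    obtain ⟨-, -, e, he, h1, h2⟩ := C.all_near hne b.2
    exact (adj ⟨C.z, C.Cj_z⟩ ⟨e, he⟩ h1).trans (adj ⟨e, he⟩ b h2)
  exact ⟨fun a b => (toz a).symm.trans (toz b)⟩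

theorem symp_card {n : ℕ} : Nat.card (Matrix.symplecticGroup (Fin n) (ZMod 2)) ≠ 9196830720 := by
  intro h
  rw [Cfsg.Agent.S0245.result (ZMod.card 2) n] at h
  have hd : 2 ^ (n ^ 2) ∣ 9196830720 := h ▸ dvd_mul_right _ _
  have hn : n ≤ 3 := by
    by_contra hn
    have : 2 ^ 16 ∣ 9196830720 := dvd_trans (pow_dvd_pow 2 (by nlinarith)) hd
    norm_num at this
  interval_cases n <;> simp [Finset.prod_range_succ] at h

/-- The recognition theorem. -/
theorem iso_psu (hne : C.NonIsolated) {K : Type*} [Field K] [Fintype K] (hK : Fintype.card K = 4) :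
    Nonempty (G ≃* Cfsg.PSU 6 K 2) := by
  classical
  have hD := C.is_class hne
  have hZ := C.center_bot hne
  obtain ⟨x, hx⟩ := Set.nonempty_of_ncard_ne_zero (by rw [C.fib_card hne one_pts]; norm_num : (C.fib 1).ncard ≠ 0)
  have hw : ∃ a ∈ C.cls, ∃ b ∈ C.cls, a ≠ b ∧ Commute a b :=
    ⟨C.z, C.Cj_z, x, hx.1, hx.2.2.1.symm, hx.2.1.symm⟩
  have hp : IsPrimitiveUnderConj C.cls :=
    ((CfsgThreeTrans.equivalences hD hZ hw).2).mpr ⟨C.core_two hne, C.core_three hne, C.connected hne⟩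
  have hnc : ¬ pCore 2 ↥C.K0 ≤ Subgroup.center ↥C.K0 := by
    intro hle
    haveI : (C.J.subgroupOf C.K0).Normal := ⟨fun j hj k => by
      rw [Subgroup.mem_subgroupOf] at hj ⊢
      exact C.conjJ k (C.mem_H.mp (C.K0_le_H k.2)) _ hj⟩
    have hJ2 : IsPGroup 2 ↥(C.J.subgroupOf C.K0) :=
      IsPGroup.of_card (n := 9) (by rw [Nat.card_congr (Subgroup.subgroupOfEquivOfLe (C.J_le_K0 hne)).toEquiv, C.Jcard]; norm_num)
    have hc := (CfsgLib.le_pCore hJ2).trans hle
    obtain ⟨v, hv, e⟩ := polar_witness (show 1 < 256 by norm_num) one_ne_zero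
    obtain ⟨a, a1, a2, a3⟩ := C.K0_κ hne (show 1 < 256 by norm_num)
    obtain ⟨b, b1, b2, b3⟩ := C.K0_κ hne hv
    have := Subgroup.mem_center_iff.mp (hc (x := ⟨a, a1⟩) (Subgroup.mem_subgroupOf.mpr a2)) ⟨b, b1⟩
    have hab := (C.comm_iff a2 b2).mp (congrArg Subtype.val this).symm
    rw [a3, b3, e] at hab
    exact one_ne_zero hab
  have hpol : CfsgThreeTrans.Polar.IsPolar C.cls :=
    CfsgThreeTrans.Polar.of_core hD hp hw (x := C.z) C.Cj_z hnc
  have hG := C.card_G hne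
  by_cases ht : CfsgThreeTrans.Polar.Thin C.cls
  · exfalso
    obtain ⟨m, ⟨φ⟩⟩ := CfsgThreeTrans.Polar.symp_iso hpol ht hZ
    exact symp_card ((Nat.card_congr φ.toEquiv).symm.trans hG)
  obtain ⟨F, i1, i2, hF⟩ := CfsgThreeTrans.Polar.exists_field_four
  have hF' : Fintype.card F = 2 ^ 2 := by rw [hF]; norm_num
  obtain ⟨y, hy⟩ := C.D2_nonempty hne
  obtain ⟨m, hm, ⟨M⟩, -⟩ := CfsgThreeTrans.Polar.exists_coord hF' hpol (CfsgThreeTrans.Polar.five_of_not_thin hpol ht)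
    (show C.z ∈ C.cls from C.Cj_z) (show y ∈ C.cls from hy.1) fun h => hy.2.1 h.symm
  obtain ⟨φ⟩ := CfsgThreeTrans.Polar.unitary_iso hpol (by omega) M hZ
  have hm4 : m = 4 := by
    have h := Cfsg.Agent.S0280.result hF' (m + 2) (by omega)
    rw [← Nat.card_congr φ.toEquiv, hG] at h
    by_contra hne4
    rcases (show m = 2 ∨ m = 3 ∨ 5 ≤ m by omega) with rfl | rfl | h5
    · simp [Finset.prod_range_succ, Nat.even_iff] at h
    · simp [Finset.prod_range_succ, Nat.even_iff] at h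
    · have hd : 2 ^ 21 ∣ Nat.gcd (m + 2) (2 + 1) * ((2 + 1) * 9196830720) := by
        rw [h]
        refine Dvd.dvd.mul_right (pow_dvd_pow 2 ?_) _
        rw [Nat.le_div_iff_mul_le (by norm_num)]
        have : 7 * 6 ≤ (m + 2) * (m + 2 - 1) := Nat.mul_le_mul (by omega) (by omega)
        omega
      rcases (Nat.dvd_prime Nat.prime_three).mp (Nat.gcd_dvd_right (m + 2) 3) with g | g <;>
        rw [show (2 + 1 : ℕ) = 3 from rfl, g] at hd <;> norm_num at hd
  subst hm4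
  obtain ⟨ψ⟩ := CfsgLib.SUShort.psu_congr (FiniteField.ringEquivOfCardEq (K := F) (K' := K) (by rw [hF, hK])) 6 2
  exact ⟨φ.trans ψ⟩

end Core

end CfsgLib.U6Rec
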